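import Cfsg.Agent.Small.KleinSylow
import Cfsg.Agent.Small.NormalFour
import Cfsg.Agent.Inv53.SmallCentralizer
import Cfsg.Agent.OutTwo.Main

/-!
# A self-centralizing four-group with normalizer of order 24

The Sylow 2-subgroups, of order at least 16, are dihedral or quasidihedral, and the group has no
proper normal subgroup supplementing the normalizer.
-/

set_option autoImplicit false
set_option linter.style.haveILetI false
set_option linter.unusedSectionVars false

open Subgroup

namespace CfsgLib.SuborbitThree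

universe u

/-- The local data. -/
structure FourPres {G : Type u} [Group G] (V : Subgroup G) : Prop where
  klein : IsKleinFour V
  cent : centralizer (V : Set G) = V
  card_norm : Nat.card (normalizer (V : Set G)) = 24
  big : 16 ∣ Nat.card G

variable {G : Type u} [Group G] [Finite G] {V : Subgroup G}

/-- The action of the normalizer on the involutions. -/
def vperm (V : Subgroup G) : normalizer (V : Set G) →* Equiv.Perm {v : V // v ≠ 1} where
  toFun g := Equiv.Perm.subtypePerm (Subgroup.normalizerMonoidHom V g).toEquiv fun v => by simp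
  map_one' := by ext v; simp
  map_mul' a b := by ext v; simp

namespace FourPres

variable (P : FourPres V)
include P

theorem card_V : Nat.card V = 4 := haveI := P.klein; IsKleinFour.card_four

theorem orderOf_mem {v : G} (hv : v ∈ V) (h1 : v ≠ 1) : orderOf v = 2 :=
  Small.orderOf_eq_two_iff_sq.2 ⟨h1, Small.kleinFour_mul_self P.klein hv⟩

theorem isPGroup : IsPGroup 2 V := IsPGroup.of_card (n := 2) (by rw [P.card_V]; rfl)

theorem le_normalizer : V ≤ normalizer (V : Set G) := Subgroup.le_normalizer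

theorem mem_of_commute {x a b : G} (ha : a ∈ V) (hb : b ∈ V) (ha1 : a ≠ 1) (hb1 : b ≠ 1)
    (hab : a ≠ b) (hxa : x * a = a * x) (hxb : x * b = b * x) : x ∈ V := by
  refine P.cent.le (mem_centralizer_iff.2 fun v hv => ?_)
  rcases Small.kleinFour_cases P.klein ha hb hv ha1 hb1 hab with rfl | rfl | rfl | rfl
  · simp
  · exact hxa.symm
  · exact hxb.symm
  · rw [mul_assoc, ← hxb, ← mul_assoc, ← hxa, mul_assoc]

theorem exists_other (u : G) : ∃ v ∈ V, v ≠ 1 ∧ v ≠ u := by
  classical
  by_contra h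
  push Not at h
  have h2 : Nat.card V ≤ 2 := by
    rw [← SetLike.coe_sort_coe, Nat.card_coe_set_eq]
    refine (Set.ncard_le_ncard (t := {1, u}) (fun y hy => ?_) (Set.toFinite _)).trans
      ((Set.ncard_insert_le _ _).trans (by rw [Set.ncard_singleton]))
    by_cases h1 : y = 1
    · exact Or.inl h1
    · exact Or.inr (h y hy h1)
  have := P.card_V
  omega

omit P in
theorem perm_apply (g : normalizer (V : Set G)) (v : {v : V // v ≠ 1}) :
    (((vperm V g v).1 : V) : G) = g * (v.1 : G) * (g : G)⁻¹ := rfl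

theorem perm_surjective : Function.Surjective (vperm V) := by
  classical
  haveI := Fintype.ofFinite V
  have hker : Nat.card (vperm V).ker ≤ 4 := by
    rw [← P.card_V]
    refine Nat.card_le_card_of_injective (fun g => ⟨g.1.1, ?_⟩) fun a b hab =>
      Subtype.ext (Subtype.ext (congrArg Subtype.val hab :))
    refine P.cent.le (mem_centralizer_iff.2 fun v hv => ?_)
    by_cases h1 : v = 1
    · simp [h1]
    have h := perm_apply g.1 ⟨⟨v, hv⟩, fun h => h1 (congrArg Subtype.val h)⟩
    rw [MonoidHom.mem_ker.1 g.2] at h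
    exact eq_mul_inv_iff_mul_eq.1 (h : v = _)
  have hc : Nat.card (Equiv.Perm {v : V // v ≠ 1}) = 6 := by
    rw [Nat.card_perm, Nat.card_eq_fintype_card, Fintype.card_subtype_compl,
      ← Nat.card_eq_fintype_card, P.card_V, Fintype.card_subtype_eq]
    rfl
  rw [← MonoidHom.range_eq_top]
  refine eq_top_of_le_card _ ?_
  rw [hc]
  have h1 := (vperm V).ker.card_mul_index
  rw [Subgroup.index_ker, P.card_norm] at h1
  nlinarith [Nat.card_pos (α := (vperm V).ker)]

theorem exists_conj {a b a' b' : G} (ha : a ∈ V) (hb : b ∈ V) (ha' : a' ∈ V) (hb' : b' ∈ V)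
    (ha1 : a ≠ 1) (hb1 : b ≠ 1) (ha'1 : a' ≠ 1) (hb'1 : b' ≠ 1) (hab : a ≠ b) (hab' : a' ≠ b') :
    ∃ g ∈ normalizer (V : Set G), g * a * g⁻¹ = a' ∧ g * b * g⁻¹ = b' := by
  classical
  haveI := Fintype.ofFinite {v : V // v ≠ 1}
  set A : {v : V // v ≠ 1} := ⟨⟨a, ha⟩, fun h => ha1 (congrArg Subtype.val h)⟩
  set B : {v : V // v ≠ 1} := ⟨⟨b, hb⟩, fun h => hb1 (congrArg Subtype.val h)⟩
  set A' : {v : V // v ≠ 1} := ⟨⟨a', ha'⟩, fun h => ha'1 (congrArg Subtype.val h)⟩
  set B' : {v : V // v ≠ 1} := ⟨⟨b', hb'⟩, fun h => hb'1 (congrArg Subtype.val h)⟩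
  have hAB : A ≠ B := fun h => hab (congrArg (fun z : {v : V // v ≠ 1} => (z.1 : G)) h)
  have hAB' : A' ≠ B' := fun h => hab' (congrArg (fun z : {v : V // v ≠ 1} => (z.1 : G)) h)
  set σ : Equiv.Perm {v : V // v ≠ 1} := Equiv.swap A A'
  have hσB : σ B ≠ A' := fun h => hAB (σ.injective (by rw [h]; exact Equiv.swap_apply_left _ _))
  obtain ⟨g, hg⟩ := P.perm_surjective (Equiv.swap (σ B) B' * σ)
  refine ⟨g, g.2, ?_, ?_⟩
  · have h := perm_apply g A
    rw [hg, Equiv.Perm.mul_apply, show σ A = A' from Equiv.swap_apply_left _ _,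
      Equiv.swap_apply_of_ne_of_ne hσB.symm hAB'] at h
    exact h.symm
  · have h := perm_apply g B
    rw [hg, Equiv.Perm.mul_apply, Equiv.swap_apply_left] at h
    exact h.symm

/-- A Sylow `2`-subgroup containing `V`, its central involution, and its shape. -/
theorem exists_sylow : ∃ (S : Sylow 2 G) (c : G), V ≤ (S : Subgroup G) ∧ c ∈ V ∧ orderOf c = 2 ∧
    (∀ s ∈ (S : Subgroup G), s * c = c * s) ∧ 16 ∣ Nat.card (S : Subgroup G) ∧
    ((∃ n, Nonempty ((S : Subgroup G) ≃* DihedralGroup n)) ∨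
      Cfsg.IsQuasiDihedral (S : Subgroup G)) := by
  classical
  haveI : Fact (Nat.Prime 2) := ⟨Nat.prime_two⟩
  obtain ⟨S, hS⟩ := P.isPGroup.exists_le_sylow
  have h16 : 16 ∣ Nat.card (S : Subgroup G) :=
    (Nat.Coprime.dvd_of_dvd_mul_right (k := 16) (m := Nat.card (S : Subgroup G))
      ((show (16 : ℕ) = 2 ^ 4 from rfl) ▸ Nat.Coprime.pow_left 4
        (Nat.prime_two.coprime_iff_not_dvd.2 S.not_dvd_index))
      ((Subgroup.card_mul_index (S : Subgroup G)).symm ▸ P.big))
  haveI : Nontrivial (S : Subgroup G) := Finite.one_lt_card_iff_nontrivial.1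
    (lt_of_lt_of_le (by norm_num) (Nat.le_of_dvd Nat.card_pos h16))
  obtain ⟨c, -, hcc, hc2⟩ := Small.exists_central_invol_mem S.isPGroup' ⊤ top_ne_bot
  have hcs : ∀ s ∈ (S : Subgroup G), s * (c : G) = c * s := fun s hs =>
    congrArg Subtype.val (mem_center_iff.1 hcc ⟨s, hs⟩)
  have hcV : (c : G) ∈ V :=
    P.cent.le (mem_centralizer_iff.2 fun v hv => hcs v (hS hv))
  have hc2' : orderOf (c : G) = 2 := by rw [Subgroup.orderOf_coe, hc2]
  obtain ⟨v, hv, hv1, hvc⟩ := P.exists_other c
  have hcv : Nat.card (centralizer ({(⟨v, hS hv⟩ : (S : Subgroup G))} : Set (S : Subgroup G))) = 4 := by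
    rw [← P.card_V]
    refine Nat.card_congr (Equiv.ofBijective (fun s => ⟨s.1.1, ?_⟩) ⟨fun a b hab =>
      Subtype.ext (Subtype.ext (congrArg Subtype.val hab :)), fun w =>
      ⟨⟨⟨w, hS w.2⟩, mem_centralizer_singleton_iff.2
        (Subtype.ext (Small.kleinFour_comm P.klein w.2 hv))⟩, rfl⟩⟩)
    exact P.mem_of_commute hv hcV hv1 (Small.ne_one_of_orderOf_two hc2') hvc
      (congrArg Subtype.val (mem_centralizer_singleton_iff.1 s.2)) (hcs _ s.1.2)
  refine ⟨S, c, hS, hcV, hc2', hcs, h16, ?_⟩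
  rcases Inv53.dihedral_quasi_or_four S.isPGroup' ⟨v, hS hv⟩
    (by rw [← Subgroup.orderOf_coe]; exact P.orderOf_mem hv hv1) hcv with h | h | h
  · exact Or.inl h
  · exact Or.inr h
  · rw [h] at h16; norm_num at h16

theorem card_normalizer_inf {T : Subgroup G} (hT : IsPGroup 2 T) (hV : V ≤ T) (hne : T ≠ V) :
    Nat.card (normalizer (V : Set G) ⊓ T : Subgroup G) = 8 := by
  haveI : Fact (Nat.Prime 2) := ⟨Nat.prime_two⟩
  haveI : Group.IsNilpotent T := hT.isNilpotent
  have hlt : V.subgroupOf T < ⊤ := lt_top_iff_ne_top.2 fun h =>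
    hne (le_antisymm (subgroupOf_eq_top.1 h) hV)
  obtain ⟨-, x, hx, hxV⟩ := SetLike.lt_iff_le_and_exists.1
    (Group.normalizerCondition_of_isNilpotent (G := T) (V.subgroupOf T) hlt)
  have hxN : (x : G) ∈ normalizer (V : Set G) := by
    rw [mem_normalizer_iff]
    intro w
    refine ⟨fun hw => mem_subgroupOf.1 ((mem_normalizer_iff.1 hx ⟨w, hV hw⟩).1 hw), fun hw => ?_⟩
    have hwT : w ∈ T := by
      have := T.mul_mem (T.mul_mem (T.inv_mem x.2) (hV hw)) x.2
      simpa [mul_assoc] using this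
    exact mem_subgroupOf.1 ((mem_normalizer_iff.1 hx ⟨w, hwT⟩).2 hw)
  have hlt' : V < normalizer (V : Set G) ⊓ T :=
    lt_of_le_of_ne (le_inf P.le_normalizer hV) fun h =>
      hxV (mem_subgroupOf.2 (h.ge ⟨hxN, x.2⟩))
  obtain ⟨k, hk⟩ := IsPGroup.iff_card.1
    (hT.to_le (inf_le_right : normalizer (V : Set G) ⊓ T ≤ T))
  have h4 : Nat.card V < Nat.card (normalizer (V : Set G) ⊓ T : Subgroup G) := by
    by_contra h
    exact hlt'.ne (eq_of_le_of_card_ge hlt'.le (not_lt.1 h))
  have h24 := P.card_norm ▸ card_dvd_of_le (inf_le_left : normalizer (V : Set G) ⊓ T ≤ _)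
  rw [hk, P.card_V] at h4
  rw [hk] at h24 ⊢
  have h3 : k ≤ 3 := by
    by_contra h
    have := (pow_dvd_pow 2 (show 4 ≤ k by omega)).trans h24
    norm_num at this
  have : 3 ≤ k := by
    by_contra h
    have := Nat.pow_le_pow_right two_pos (show k ≤ 2 by omega)
    omega
  rw [show k = 3 by omega]
  rfl

/-- A normal subgroup supplementing the normalizer of `V` is the whole group. -/
theorem eq_top_of_sup {N : Subgroup G} (hN : N.Normal) (h : N ⊔ normalizer (V : Set G) = ⊤) :
    N = ⊤ := by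
  classical
  haveI : Fact (Nat.Prime 2) := ⟨Nat.prime_two⟩
  haveI := hN
  set π := (QuotientGroup.mk' N).comp (normalizer (V : Set G)).subtype with hπ
  have hsurj : Function.Surjective π := by
    intro q
    obtain ⟨g, rfl⟩ := QuotientGroup.mk'_surjective N q
    have hg : g ∈ ((N ⊔ normalizer (V : Set G) : Subgroup G) : Set G) := by rw [h]; trivial
    rw [Subgroup.normal_mul] at hg
    obtain ⟨m, hm, w, hw, rfl⟩ := Set.mem_mul.1 hg
    exact ⟨⟨w, hw⟩, by
      rw [map_mul, show (QuotientGroup.mk' N) m = 1 from (QuotientGroup.eq_one_iff m).2 hm, one_mul]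
      rfl⟩
  by_contra hNtop
  haveI : Nontrivial (G ⧸ N) := QuotientGroup.nontrivial_iff.2 hNtop
  haveI : Group.IsSolvable (normalizer (V : Set G)) := CfsgLib.OutTwo.isSolvable_of_card_dvd_168
    (by rw [P.card_norm]; norm_num) (by rw [P.card_norm]; norm_num)
  haveI : Group.IsSolvable (G ⧸ N) := Group.isSolvable_of_surjective hsurj
  -- an abelian image
  set Q := Abelianization (G ⧸ N)
  have habs : Function.Surjective (Abelianization.of : G ⧸ N →* Q) :=
    QuotientGroup.mk'_surjective _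
  set φ : normalizer (V : Set G) →* Q := Abelianization.of.comp π with hφ
  have hφs : Function.Surjective φ := habs.comp hsurj
  have hVker : ∀ w : normalizer (V : Set G), (w : G) ∈ V → φ w = 1 := by
    intro w hw
    by_cases h1 : (w : G) = 1
    · rw [show w = 1 from Subtype.ext h1, map_one]
    obtain ⟨u, hu, hu1, huw⟩ := P.exists_other w
    have huw1 : u * (w : G) ≠ 1 := fun he => huw (by
      rw [eq_inv_of_mul_eq_one_left he, inv_eq_of_mul_eq_one_right (Small.kleinFour_mul_self P.klein hw)])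
    obtain ⟨g, hg, hgu, -⟩ := P.exists_conj hu hw (mul_mem hu hw) hw hu1 h1 huw1 h1 huw
      (fun he => hu1 (by simpa using he))
    have he : (⟨g, hg⟩ : normalizer (V : Set G)) * ⟨u, P.le_normalizer hu⟩ * ⟨g, hg⟩⁻¹ =
        ⟨u, P.le_normalizer hu⟩ * w := Subtype.ext hgu
    have := congrArg φ he
    rw [map_mul, map_mul, map_mul, map_inv, mul_inv_cancel_comm] at this
    exact mul_eq_left.1 this.symm
  -- its kernel has index two
  have hker : ∀ w, orderOf (vperm V w) = 3 → φ w = 1 := by
    intro w hw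
    have key : ∀ s : Equiv.Perm (Fin 3), s ^ 3 = 1 → ∃ a b, a * b * a⁻¹ * b⁻¹ = s := by decide
    haveI := Fintype.ofFinite V
    obtain ⟨e⟩ : Nonempty ({v : V // v ≠ 1} ≃ Fin 3) := ⟨Fintype.equivFinOfCardEq (by
      rw [Fintype.card_subtype_compl, ← Nat.card_eq_fintype_card, P.card_V,
        Fintype.card_subtype_eq])⟩
    obtain ⟨a, b, hab⟩ := key (e.permCongrHom ((vperm V) w))
      (by rw [← map_pow, show (vperm V) w ^ 3 = 1 from hw ▸ pow_orderOf_eq_one _, map_one])
    obtain ⟨A, hA⟩ := P.perm_surjective (e.permCongrHom.symm a)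
    obtain ⟨B, hB⟩ := P.perm_surjective (e.permCongrHom.symm b)
    have hk : vperm V (A * B * A⁻¹ * B⁻¹ * w⁻¹) = 1 := by
      rw [map_mul, map_mul, map_mul, map_mul, map_inv, map_inv, map_inv, hA, hB, ← map_inv,
        ← map_inv, ← map_mul, ← map_mul, ← map_mul, hab, MulEquiv.symm_apply_apply, mul_inv_cancel]
    have hmem : ((A * B * A⁻¹ * B⁻¹ * w⁻¹ : normalizer (V : Set G)) : G) ∈ V := by
      refine P.cent.le (mem_centralizer_iff.2 fun v hv => ?_)
      by_cases h1 : v = 1
      · simp [h1]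
      have h := perm_apply (A * B * A⁻¹ * B⁻¹ * w⁻¹)
        ⟨⟨v, hv⟩, fun h => h1 (congrArg Subtype.val h)⟩
      rw [hk] at h
      exact eq_mul_inv_iff_mul_eq.1 (h : v = _)
    have := hVker _ hmem
    simp only [map_mul, map_inv, mul_comm (φ A) (φ B), mul_inv_cancel_right, mul_inv_cancel,
      one_mul, inv_eq_one] at this
    exact this
  haveI : Nontrivial Q := QuotientGroup.nontrivial_iff.2
    (Group.IsSolvable.commutator_lt_top_of_nontrivial (G := G ⧸ N)).ne
  set L : Subgroup G := ((Abelianization.of (G := G ⧸ N)).comp (QuotientGroup.mk' N)).ker with hL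
  have hLH : φ.ker.map (normalizer (V : Set G)).subtype = L ⊓ normalizer (V : Set G) := by
    ext g
    constructor
    · rintro ⟨w, hw, rfl⟩; exact ⟨hw, w.2⟩
    · rintro ⟨hg, hgN⟩; exact ⟨⟨g, hgN⟩, hg, rfl⟩
  have hidx : L.index = Nat.card Q := by
    have hs : Function.Surjective ((Abelianization.of (G := G ⧸ N)).comp (QuotientGroup.mk' N)) :=
      habs.comp (QuotientGroup.mk'_surjective N)
    rw [hL, Subgroup.index_ker, MonoidHom.range_eq_top.2 hs, card_top]
  obtain ⟨w, hw⟩ := exists_prime_orderOf_dvd_card' (G := normalizer (V : Set G)) 3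
    (by rw [P.card_norm]; norm_num)
  have hpw : orderOf (vperm V w) = 3 := by
    rcases (Nat.dvd_prime Nat.prime_three).1 (hw ▸ orderOf_map_dvd (vperm V) w) with h1 | h1
    · exfalso
      have hwV : (w : G) ∈ V := by
        refine P.cent.le (mem_centralizer_iff.2 fun v hv => ?_)
        by_cases h1v : v = 1
        · simp [h1v]
        have h := perm_apply w ⟨⟨v, hv⟩, fun h => h1v (congrArg Subtype.val h)⟩
        rw [orderOf_eq_one_iff.1 h1] at h
        exact eq_mul_inv_iff_mul_eq.1 (h : v = _)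
      have := hw ▸ (Subgroup.orderOf_coe w).symm ▸ V.orderOf_dvd_natCard hwV
      rw [P.card_V] at this
      norm_num at this
    · exact h1
  have h12 : 12 ∣ Nat.card φ.ker := by
    have h4 : 4 ∣ Nat.card φ.ker := by
      rw [← P.card_V, ← Nat.card_congr (subgroupOfEquivOfLe P.le_normalizer).toEquiv]
      exact card_dvd_of_le fun x hx => hVker x hx
    have h3 : 3 ∣ Nat.card φ.ker := hw ▸ φ.ker.orderOf_dvd_natCard (hker w hpw)
    exact Nat.Coprime.mul_dvd_of_dvd_of_dvd (by norm_num : Nat.Coprime 4 3) h4 h3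
  have hQ : Nat.card Q = 2 ∧ Nat.card φ.ker = 12 := by
    have h1 := φ.ker.card_mul_index
    rw [Subgroup.index_ker, MonoidHom.range_eq_top.2 hφs, card_top, P.card_norm] at h1
    obtain ⟨j, hj⟩ := h12
    have h2 : 2 ≤ Nat.card Q := Finite.one_lt_card (α := Q)
    have : j = 1 := by
      rcases j with _ | _ | j
      · rw [hj] at h1; omega
      · rfl
      · nlinarith
    subst this
    rw [hj] at h1 ⊢
    constructor <;> omega
  -- a Sylow subgroup of `L` through `V`
  have hVL : V ≤ L := fun v hv => hVker ⟨v, P.le_normalizer hv⟩ hv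
  obtain ⟨T, hT⟩ := ((P.isPGroup).of_equiv (subgroupOfEquivOfLe hVL).symm).exists_le_sylow
  set TG := (T : Subgroup L).map L.subtype with hTG
  have hTp : IsPGroup 2 TG := T.isPGroup'.map _
  have hVT : V ≤ TG := by
    rw [hTG, ← map_subgroupOf_eq_of_le hVL]
    exact map_mono hT
  have h8 : 8 ∣ Nat.card TG := by
    rw [hTG, card_map_of_injective L.subtype_injective]
    refine T.pow_dvd_card_of_pow_dvd_card (n := 3) ?_
    have h1 := L.card_mul_index
    rw [hidx, hQ.1] at h1
    have h2 : 2 * 8 ∣ 2 * Nat.card L := by rw [mul_comm 2 (Nat.card L), h1]; exact P.big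
    exact Nat.dvd_of_mul_dvd_mul_left two_pos h2
  have hne : TG ≠ V := fun he => by rw [he, P.card_V] at h8; norm_num at h8
  have h := P.card_normalizer_inf hTp hVT hne
  have hd : Nat.card (normalizer (V : Set G) ⊓ TG : Subgroup G) ∣
      Nat.card (L ⊓ normalizer (V : Set G) : Subgroup G) :=
    card_dvd_of_le (le_inf (inf_le_right.trans (Subgroup.map_subtype_le _)) inf_le_left)
  rw [h, ← hLH, card_map_of_injective (normalizer (V : Set G)).subtype_injective, hQ.2] at hd
  norm_num at hd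

end FourPres

end CfsgLib.SuborbitThree
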