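import Cfsg.Agent.SuborbitThree.Basic
import Cfsg.Agent.SuborbitThree.Four
import Cfsg.Agent.Forms.KleinClasses
import Cfsg.Agent.DicksonPSL2.Subfield
import Cfsg.Agent.DihedralFourAct.Main
import Cfsg.Agent.FieldEmb.Basic
import Cfsg.Agent.OutPSL.Basic

/-!
# Four-groups of `PSL(2, q)`: their automorphisms, fusion, and subfield overgroups
-/

set_option autoImplicit false
set_option linter.style.haveILetI false
set_option linter.unusedSectionVars false

open Subgroup Matrix CfsgLib.AutPSL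
open scoped MatrixGroups

namespace CfsgLib.SuborbitThree

variable {F : Type*} [Field F] [Fintype F]

local notation "PST" => Matrix.ProjectiveSpecialLinearGroup (Fin 2) F
local notation "π" => Forms.KleinPSL.projHom (F := F)

/-- A matrix commuting with two anticommuting elements of `SL₂` of order four is scalar. -/
theorem scalar_of_commute_pair (h2 : (2 : F) ≠ 0) {x y : SL(2, F)} (hx : x * x = -1) (hy : y * y = -1)
    (hxy : y * x = -(x * y)) {N : Matrix (Fin 2) (Fin 2) F} (h1 : N * x.1 = x.1 * N)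
    (h3 : N * y.1 = y.1 * N) : N 0 1 = 0 ∧ N 1 0 = 0 ∧ N 0 0 = N 1 1 := by
  obtain ⟨a, b, c, hX, ha⟩ : ∃ a b c : F, x.1 = !![a, b; c, -a] ∧ a * a + b * c = -1 := by
    refine ⟨x.1 0 0, x.1 0 1, x.1 1 0, ?_, ?_⟩
    · have h00 := congrArg (fun z : SL(2, F) => z.1 0 0) hx
      have h01 := congrArg (fun z : SL(2, F) => z.1 0 1) hx
      have hd := x.2
      simp [Matrix.mul_apply, Fin.sum_univ_two] at h00 h01
      rw [Matrix.det_fin_two] at hd
      have h11 : x.1 1 1 = -x.1 0 0 := by
        have h10 := congrArg (fun z : SL(2, F) => z.1 1 1) hx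
        simp [Matrix.mul_apply, Fin.sum_univ_two] at h10
        have h4 : (x.1 1 1 + x.1 0 0) ^ 2 = 0 := by linear_combination h00 + h10 + 2 * hd
        exact eq_neg_of_add_eq_zero_left (pow_eq_zero_iff (n := 2) two_ne_zero |>.1 h4)
      ext i j
      fin_cases i <;> fin_cases j <;> simp [h11]
    · have h00 := congrArg (fun z : SL(2, F) => z.1 0 0) hx
      simp [Matrix.mul_apply, Fin.sum_univ_two] at h00
      exact h00
  obtain ⟨a', b', c', hY, ha'⟩ : ∃ a b c : F, y.1 = !![a, b; c, -a] ∧ a * a + b * c = -1 := by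
    refine ⟨y.1 0 0, y.1 0 1, y.1 1 0, ?_, ?_⟩
    · have h00 := congrArg (fun z : SL(2, F) => z.1 0 0) hy
      have h10 := congrArg (fun z : SL(2, F) => z.1 1 1) hy
      have hd := y.2
      simp [Matrix.mul_apply, Fin.sum_univ_two] at h00 h10
      rw [Matrix.det_fin_two] at hd
      have h4 : (y.1 1 1 + y.1 0 0) ^ 2 = 0 := by linear_combination h00 + h10 + 2 * hd
      have h11 : y.1 1 1 = -y.1 0 0 :=
        eq_neg_of_add_eq_zero_left (pow_eq_zero_iff (n := 2) two_ne_zero |>.1 h4)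
      ext i j
      fin_cases i <;> fin_cases j <;> simp [h11]
    · have h00 := congrArg (fun z : SL(2, F) => z.1 0 0) hy
      simp [Matrix.mul_apply, Fin.sum_univ_two] at h00
      exact h00
  have h : 2 * a * a' + b * c' + c * b' = 0 := by
    have e := congrArg (fun z : SL(2, F) => z.1 0 0) hxy
    simp [hX, hY, Matrix.mul_apply, Fin.sum_univ_two] at e
    linear_combination e
  rw [hX] at h1
  rw [hY] at h3
  have e1 := congrFun (congrFun h1 0) 0
  have e2 := congrFun (congrFun h1 0) 1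
  have e3 := congrFun (congrFun h1 1) 0
  have f1 := congrFun (congrFun h3 0) 0
  have f2 := congrFun (congrFun h3 0) 1
  have f3 := congrFun (congrFun h3 1) 0
  simp [Matrix.mul_apply, Fin.sum_univ_two] at e1 e2 e3 f1 f2 f3
  set s := (N 0 0 - N 1 1) * a' + N 0 1 * c' + N 1 0 * b' with hs
  have sa : 2 * (s * a) = 0 := by
    linear_combination 2 * a * hs + (N 0 0 - N 1 1) * h - c' * e2 + b' * e3
  have sb : s * b = 0 := by
    linear_combination b * hs + N 0 1 * h + a' * e2 - b' * e1
  have sc : s * c = 0 := by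
    linear_combination c * hs + N 1 0 * h - a' * e3 + c' * e1
  have hs0 : s = 0 := by
    have : 2 * s = 0 := by linear_combination 2 * s * ha - a * sa - 2 * c * sb
    exact (mul_eq_zero.1 this).resolve_left h2
  have n01 : 2 * N 0 1 = 0 := by
    linear_combination 2 * N 0 1 * ha' + a' * f2 - b' * f1 + b' * hs - b' * hs0
  have n10 : 2 * N 1 0 = 0 := by
    linear_combination 2 * N 1 0 * ha' - a' * f3 + c' * f1 + c' * hs - c' * hs0
  have nd : 2 * (N 0 0 - N 1 1) = 0 := by
    linear_combination 2 * (N 0 0 - N 1 1) * ha' + 2 * a' * hs - 2 * a' * hs0 - c' * f2 + b' * f3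
  exact ⟨(mul_eq_zero.1 n01).resolve_left h2, (mul_eq_zero.1 n10).resolve_left h2,
    sub_eq_zero.1 ((mul_eq_zero.1 nd).resolve_left h2)⟩

theorem toPSLAut_conjSL_proj (g : GL (Fin 2) F) (x : SL(2, F)) :
    toPSLAut (conjSL g) (π x) = π (conjSL g x) := rfl

/-- An automorphism of diagonal type fixing a four-group pointwise is inner, given by the four-group. -/
theorem inner_of_fix_four (hodd : Odd (Fintype.card F)) (M : GL (Fin 2) F) {V : Subgroup PST}
    (hV : IsKleinFour V) (hfix : ∀ v ∈ V, toPSLAut (conjSL M) v = v) :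
    ∃ w ∈ V, toPSLAut (conjSL M) = MulAut.conj w := by
  have h2 := SL2Tori.two_ne_zero_of_odd hodd
  obtain ⟨a, b, ha, hb, ha1, hb1, hab⟩ := Forms.KleinPSL.exists_two V hV
  obtain ⟨x, rfl, hx⟩ := Forms.KleinPSL.exists_lift_of_orderOf_two h2 ha1 (Small.kleinFour_mul_self hV ha)
  obtain ⟨y, rfl, hy⟩ := Forms.KleinPSL.exists_lift_of_orderOf_two h2 hb1 (Small.kleinFour_mul_self hV hb)
  have hxy := Forms.KleinPSL.anticomm_of_proj_comm h2 hx hy hab (Small.kleinFour_comm hV ha hb)
  have hxi : x⁻¹ = -x := inv_eq_of_mul_eq_one_right (by rw [mul_neg, hx, neg_neg])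
  have hyi : y⁻¹ = -y := inv_eq_of_mul_eq_one_right (by rw [mul_neg, hy, neg_neg])
  have hx' : conjSL M x = x ∨ conjSL M x = -x := by
    have := hfix _ ha
    rwa [toPSLAut_conjSL_proj, eq_comm, Forms.KleinPSL.proj_eq_proj_iff] at this
  have hy' : conjSL M y = y ∨ conjSL M y = -y := by
    have := hfix _ hb
    rwa [toPSLAut_conjSL_proj, eq_comm, Forms.KleinPSL.proj_eq_proj_iff] at this
  have hneg : ∀ (α : MulAut SL(2, F)) (u : SL(2, F)), (∀ v, α v = -v → α (-v) = v) →
      α u = -u → α (-u) = u := fun α u h => h u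
  have cxy : x * y * x⁻¹ = -y := by
    have e3 : x * y = -(y * x) := by rw [hxy, neg_neg]
    rw [e3, neg_mul, mul_inv_cancel_right]
  have cyx : y * x * y⁻¹ = -x := by rw [hxy, neg_mul, mul_inv_cancel_right]
  obtain ⟨u, huV, hux, huy⟩ : ∃ u : SL(2, F), π u ∈ V ∧ u * x * u⁻¹ = conjSL M x ∧
      u * y * u⁻¹ = conjSL M y := by
    rcases hx' with e1 | e1 <;> rcases hy' with e2 | e2 <;> rw [e1, e2]
    · exact ⟨1, by rw [map_one]; exact one_mem _, by simp, by simp⟩
    · exact ⟨x, ha, by simp, cxy⟩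
    · exact ⟨y, hb, cyx, by simp⟩
    · refine ⟨x * y, by rw [map_mul]; exact mul_mem ha hb, ?_, ?_⟩
      · calc x * y * x * (x * y)⁻¹ = x * (y * x * y⁻¹) * x⁻¹ := by group
          _ = -x := by rw [cyx, mul_neg, neg_mul, mul_inv_cancel_right]
      · calc x * y * y * (x * y)⁻¹ = x * y * x⁻¹ := by group
          _ = -y := cxy
  refine ⟨π u, huV, ?_⟩
  set N := (Matrix.SpecialLinearGroup.toGL u)⁻¹ * M with hN
  have hfx : ∀ z : SL(2, F), u * z * u⁻¹ = conjSL M z → N.1 * z.1 = z.1 * N.1 := by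
    intro z hz
    have h1 : conjSL N z = z := by
      rw [hN, map_mul, MulAut.mul_apply, ← hz, map_inv, conjSL_toGL, MulAut.inv_apply,
        MulAut.conj_symm_apply]
      group
    have h2 := congrArg Subtype.val h1
    rw [conjSL_coe] at h2
    calc N.1 * z.1 = (N.1 * z.1 * (N⁻¹ : GL (Fin 2) F).1) * N.1 := by
          rw [mul_assoc, ← Units.val_mul, inv_mul_cancel, Units.val_one, mul_one]
      _ = z.1 * N.1 := by rw [h2]
  obtain ⟨n1, n2, n3⟩ := scalar_of_commute_pair h2 hx hy hxy (hfx x hux) (hfx y huy)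
  have hd : N.1 0 0 ≠ 0 := fun h0 => by
    have := N.det.ne_zero
    rw [Matrix.GeneralLinearGroup.val_det_apply, Matrix.det_fin_two, h0, n1] at this
    simp at this
  have hsc : N = Matrix.GeneralLinearGroup.scalar (Fin 2) (Units.mk0 _ hd) := by
    apply Units.ext
    ext i j
    fin_cases i <;> fin_cases j <;> simp [n1, n2, n3]
  have hM : M = Matrix.SpecialLinearGroup.toGL u * N := by rw [hN, mul_inv_cancel_left]
  rw [hM, map_mul, hsc, conjSL_scalar, mul_one, conjSL_toGL, toPSLAut_conj]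
  rfl

/-- Self-centralizing four-groups with `16 ∣ |PSL₂(q)|`. -/
theorem fourPres_psl (hodd : Odd (Fintype.card F)) (h16 : 16 ∣ Nat.card PST) {V : Subgroup PST}
    (hV : IsKleinFour V) : FourPres V := by
  refine ⟨hV, Forms.KleinPSL.centralizer_eq (SL2Tori.two_ne_zero_of_odd hodd) V hV, ?_, h16⟩
  rw [Forms.KleinPSL.card_normalizer hodd V hV,
    if_pos ((Forms.KleinPSL.eight_dvd_iff hodd).1 (dvd_trans (by norm_num) h16))]

/-- All four-groups are fused by automorphisms. -/
theorem exists_aut_map (hodd : Odd (Fintype.card F)) {V W : Subgroup PST} (P : FourPres V)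
    (hW : IsKleinFour W) :
    ∃ φ : MulAut PST, W.map φ.toMonoidHom = V := by
  classical
  obtain ⟨p, hp⟩ := CharP.exists F
  haveI : Fact p.Prime := ⟨CharP.char_is_prime F p⟩
  obtain ⟨ν, hν⟩ := FiniteField.exists_nonsquare (F := F) (fun h => by
    have := SL2Tori.two_ne_zero_of_odd (F := F) hodd
    exact this (by
      haveI := ringChar.of_eq h
      exact_mod_cast CharP.cast_eq_zero F 2))
  have hν0 : ν ≠ 0 := fun h => hν (h ▸ IsSquare.zero)
  set δ : GL (Fin 2) F := GeneralLinearGroup.mkOfDetNeZero !![ν, 0; 0, 1]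
    (by rw [Matrix.det_fin_two_of]; simpa using hν0) with hδ
  set φ := toPSLAut (conjSL δ) with hφ
  -- `φ` moves `V` to the other class
  have hne : V.map φ.toMonoidHom ∉ Forms.KleinPSL.orbit V := by
    rintro ⟨g, hg⟩
    set φ1 := MulAut.conj g⁻¹ * φ with hφ1
    have hmem : ∀ v ∈ V, φ1 v ∈ V := by
      intro v hv
      have h1 : φ v ∈ V.map (MulAut.conj g).toMonoidHom := by
        rw [← hg]; exact ⟨v, hv, rfl⟩
      obtain ⟨w, hw, hwe⟩ := h1
      rw [hφ1, MulAut.mul_apply, ← hwe]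
      simpa [mul_assoc] using hw
    obtain ⟨a, b, ha, hb, ha1, hb1, hab⟩ := Forms.KleinPSL.exists_two V P.klein
    obtain ⟨k, hk, hka, hkb⟩ := P.exists_conj (hmem a ha) (hmem b hb) ha hb
      (fun h => ha1 ((EmbeddingLike.map_eq_one_iff (f := φ1)).1 h))
      (fun h => hb1 ((EmbeddingLike.map_eq_one_iff (f := φ1)).1 h)) ha1 hb1
      (φ1.injective.ne hab) hab
    obtain ⟨s, hs⟩ := QuotientGroup.mk'_surjective _ (k * g⁻¹)
    have hrep : MulAut.conj k * φ1 = toPSLAut (conjSL (Matrix.SpecialLinearGroup.toGL s * δ)) := by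
      rw [hφ1, ← mul_assoc, ← map_mul, map_mul conjSL, map_mul toPSLAut, conjSL_toGL, toPSLAut_conj,
        show (QuotientGroup.mk s : PST) = k * g⁻¹ from hs]
    have hfix : ∀ v ∈ V, toPSLAut (conjSL (Matrix.SpecialLinearGroup.toGL s * δ)) v = v := by
      intro v hv
      rw [← hrep]
      rcases Small.kleinFour_cases P.klein ha hb hv ha1 hb1 hab with rfl | rfl | rfl | rfl
      · exact map_one _
      · exact hka
      · exact hkb
      · rw [map_mul]
        exact congrArg₂ (· * ·) hka hkb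
    obtain ⟨w, -, hw⟩ := inner_of_fix_four hodd _ P.klein hfix
    obtain ⟨t, ht⟩ := QuotientGroup.mk'_surjective _ w
    rw [← show (QuotientGroup.mk t : PST) = w from ht, ← toPSLAut_conj, ← conjSL_toGL,
      (toPSLAut_injective p).eq_iff] at hw
    have h1 : conjSL ((Matrix.SpecialLinearGroup.toGL s * δ) * (Matrix.SpecialLinearGroup.toGL t)⁻¹) = 1 := by
      rw [map_mul, map_inv, hw, mul_inv_cancel]
    obtain ⟨u, hu⟩ := conjSL_eq_one_iff.1 h1
    have hdet := congrArg (fun z : GL (Fin 2) F => z.1.det) (mul_inv_eq_iff_eq_mul.1 hu)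
    simp only [Units.val_mul, Matrix.det_mul] at hdet
    refine hν ⟨(u : F), ?_⟩
    have hds : ∀ z : SL(2, F), (Matrix.SpecialLinearGroup.toGL z).1.det = 1 := fun z => z.2
    rw [hds, hds] at hdet
    simpa [hδ, Matrix.det_fin_two, sq] using hdet
  have hq := (Forms.KleinPSL.eight_dvd_iff hodd).1 (dvd_trans (by norm_num) P.big)
  obtain ⟨V₁, V₂, -, -, -, hall⟩ := (Forms.KleinPSL.classes hodd).2 hq
  have hφk : IsKleinFour (V.map φ.toMonoidHom) := by
    let e := Subgroup.equivMapOfInjective V φ.toMonoidHom φ.injective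
    exact ⟨(Nat.card_congr e.toEquiv).symm.trans P.klein.card_four,
      (Monoid.exponent_eq_of_mulEquiv e).symm.trans P.klein.exponent_two⟩
  have hrel : ∀ {A B C : Subgroup PST}, A ∈ Forms.KleinPSL.orbit C → B ∈ Forms.KleinPSL.orbit C →
      A ∈ Forms.KleinPSL.orbit B := by
    rintro A B C ⟨g, rfl⟩ ⟨h, rfl⟩
    exact ⟨g * h⁻¹, by rw [map_conj_map, inv_mul_cancel_right]⟩
  have hchoose : W ∈ Forms.KleinPSL.orbit V ∨ W ∈ Forms.KleinPSL.orbit (V.map φ.toMonoidHom) := by
    rcases hall V P.klein with h1 | h1 <;> rcases hall _ hφk with h2 | h2 <;>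
      rcases hall W hW with h3 | h3
    all_goals first
      | exact absurd (hrel h2 h1) hne
      | exact Or.inl (hrel h3 h1)
      | exact Or.inr (hrel h3 h2)
  rcases hchoose with ⟨g, rfl⟩ | ⟨g, rfl⟩
  · refine ⟨MulAut.conj g⁻¹, ?_⟩
    rw [map_conj_map, inv_mul_cancel, map_conj_one]
  · refine ⟨φ⁻¹ * MulAut.conj g⁻¹, ?_⟩
    ext v
    simp [Subgroup.mem_map, MulAut.inv_apply, MulAut.mul_apply, mul_assoc]

/-- An overgroup from a subfield with `16 ∣ q₀² - 1`. -/
theorem not_isCoatom_of_subfield (hodd : Odd (Fintype.card F)) {V : Subgroup PST} (P : FourPres V)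
    {K : Type*} [Field K] [Fintype K] (ι : K →+* F) (hK : Fintype.card K % 8 = 1 ∨ Fintype.card K % 8 = 7)
    (hlt : Fintype.card K < Fintype.card F) : ¬ IsCoatom (normalizer (V : Set PST)) := by
  classical
  intro hco
  have hKodd : Odd (Fintype.card K) := by rw [Nat.odd_iff]; omega
  obtain ⟨W, -, hW, -⟩ := (Forms.KleinPSL.classes (F := K) hKodd).2 hK
  set ψ := DicksonPSL2.psiS ι (1 : Fˣ) with hψ
  have hψi := DicksonPSL2.psiS_injective ι (1 : Fˣ)
  have hWk : IsKleinFour (W.map ψ) := by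
    let e := Subgroup.equivMapOfInjective W ψ hψi
    exact ⟨(Nat.card_congr e.toEquiv).symm.trans hW.card_four,
      (Monoid.exponent_eq_of_mulEquiv e).symm.trans hW.exponent_two⟩
  obtain ⟨φ, hφ⟩ := exists_aut_map hodd P hWk
  set X := ψ.range.map φ.toMonoidHom with hX
  have hle : (normalizer (W : Set (Matrix.ProjectiveSpecialLinearGroup (Fin 2) K))).map
      (φ.toMonoidHom.comp ψ) ≤ normalizer (V : Set PST) := by
    rw [← Subgroup.map_map, ← hφ]
    exact (map_mono (le_normalizer_map ψ)).trans (le_normalizer_map φ.toMonoidHom)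
  have hcard : Nat.card ((normalizer (W : Set (Matrix.ProjectiveSpecialLinearGroup (Fin 2) K))).map
      (φ.toMonoidHom.comp ψ)) = 24 := by
    rw [card_map_of_injective (show Function.Injective (φ.toMonoidHom.comp ψ) from φ.injective.comp hψi),
      Forms.KleinPSL.card_normalizer hKodd W hW, if_pos hK]
  have heq := eq_of_le_of_card_ge hle (by rw [hcard, P.card_norm])
  have hXc : Nat.card X = Nat.card (Matrix.ProjectiveSpecialLinearGroup (Fin 2) K) := by
    rw [hX, card_map_of_injective φ.injective, ← Nat.card_congr (MonoidHom.ofInjective hψi).toEquiv]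
  have hsub : normalizer (V : Set PST) ≤ X := by
    rw [← heq, hX, MonoidHom.range_eq_map, Subgroup.map_map]
    exact map_mono le_top
  have hKc := DicksonPSL2.card_PSL_formula K
  have hFc := DicksonPSL2.card_PSL_formula F
  have hgK : Nat.gcd 2 (Fintype.card K - 1) = 2 :=
    Nat.gcd_eq_left (by rw [Nat.dvd_iff_mod_eq_zero]; omega)
  have hgF : Nat.gcd 2 (Fintype.card F - 1) = 2 :=
    Nat.gcd_eq_left (by rw [Nat.dvd_iff_mod_eq_zero]; have := Nat.odd_iff.1 hodd; omega)
  rw [hgK] at hKc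
  rw [hgF] at hFc
  have h7 : 7 ≤ Fintype.card K := by have := Fintype.one_lt_card (α := K); omega
  have hne : normalizer (V : Set PST) ≠ X := fun he => by
    have h := P.card_norm
    rw [he, hXc] at h
    rw [h] at hKc
    have : 7 * 6 * 8 ≤ Fintype.card K * (Fintype.card K - 1) * (Fintype.card K + 1) :=
      Nat.mul_le_mul (Nat.mul_le_mul h7 (by omega)) (by omega)
    omega
  have htop := hco.2 X (lt_of_le_of_ne hsub hne)
  rw [htop, card_top] at hXc
  rw [hXc] at hFc
  have : Fintype.card K * (Fintype.card K - 1) * (Fintype.card K + 1) <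
      Fintype.card F * (Fintype.card F - 1) * (Fintype.card F + 1) :=
    Nat.mul_lt_mul_of_lt_of_lt (Nat.mul_lt_mul_of_lt_of_lt hlt (by omega)) (by omega)
  omega

/-- An automorphism of order two fixing a four-group pointwise is inner or fixes `PSL(2, √q)`. -/
theorem inner_or_subfield (hodd : Odd (Fintype.card F)) {V : Subgroup PST} (hV : IsKleinFour V)
    (α : MulAut PST) (hα : α * α = 1) (hfix : ∀ v ∈ V, α v = v) :
    (∃ w ∈ V, α = MulAut.conj w) ∨ ∃ (q₀ : ℕ) (X : Subgroup PST), Fintype.card F = q₀ ^ 2 ∧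
      2 * Nat.card X = q₀ * (q₀ - 1) * (q₀ + 1) ∧ ∀ x ∈ X, α x = x := by
  classical
  obtain ⟨p, hp⟩ := CharP.exists F
  haveI : Fact p.Prime := ⟨CharP.char_is_prime F p⟩
  obtain ⟨M, σ, rfl⟩ : ∃ g σ, α = toPSLAut (conjSL g * fieldSL σ) :=
    (form_cases le_rfl α).resolve_right (fun h => absurd h.1 (by norm_num))
  by_cases hσ : σ = 1
  · left
    subst hσ
    rw [map_one, mul_one] at hfix ⊢
    exact inner_of_fix_four hodd M hV hfix
  right
  have hpow : (toPSLAut (conjSL M * fieldSL σ)) ^ 2 = 1 := by rw [pow_two, hα]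
  obtain ⟨hσ2, -⟩ := (mul_field_pow_eq_one_iff p σ M 2).1 hpow
  have ho : orderOf σ = 2 := orderOf_eq_prime hσ2 hσ
  obtain ⟨h, hh⟩ := isConj_field_of_pow_eq_one le_rfl ho two_pos M hpow
  set K := FixedField.fixedSub σ
  haveI : Fintype K := Fintype.ofFinite _
  set f : Matrix.ProjectiveSpecialLinearGroup (Fin 2) K →* PST :=
    (toPSLAut (conjSL h)).toMonoidHom.comp (DicksonPSL2.psiS K.subtype 1) with hf
  have hfi : Function.Injective f :=
    (toPSLAut (conjSL h)).injective.comp (DicksonPSL2.psiS_injective _ _)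
  have hK : Fintype.card F = Fintype.card K ^ 2 := by
    have := FixedField.card_pow σ ho
    rwa [Nat.card_eq_fintype_card] at this
  have hKodd : Odd (Fintype.card K) := by rw [hK] at hodd; exact (Nat.odd_pow_iff two_ne_zero).1 hodd
  refine ⟨Fintype.card K, f.range, hK, ?_, ?_⟩
  · have hKc := DicksonPSL2.card_PSL_formula K
    rw [show Nat.gcd 2 (Fintype.card K - 1) = 2 from
      Nat.gcd_eq_left (by rw [Nat.dvd_iff_mod_eq_zero]; have := Nat.odd_iff.1 hKodd; omega)] at hKc
    rwa [← Nat.card_congr (MonoidHom.ofInjective hfi).toEquiv]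
  · rintro _ ⟨x, rfl⟩
    obtain ⟨B, rfl⟩ := SL2Trace.proj_surjective x
    rw [hh]
    show toPSLAut (conjSL h) (toPSLAut (fieldSL σ) ((toPSLAut (conjSL h))⁻¹
      (toPSLAut (conjSL h) (DicksonPSL2.psiS K.subtype 1 (SL2Trace.proj B))))) = _
    rw [MulAut.inv_apply_self, DicksonPSL2.psiS_proj]
    refine congrArg (toPSLAut (conjSL h)) ?_
    show toPSLAut (fieldSL σ) (QuotientGroup.mk (DicksonPSL2.psiSL K.subtype 1 B)) = _
    rw [toPSLAut_mk]
    refine congrArg QuotientGroup.mk ?_
    rw [show DicksonPSL2.psiSL K.subtype 1 B = SpecialLinearGroup.map K.subtype B from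
      Subtype.ext (by
        rw [DicksonPSL2.coe_psiSL, DicksonPSL2.psiMat_apply]
        ext i j
        fin_cases i <;> fin_cases j <;> simp)]
    exact fieldSL_map_subtype σ B

end CfsgLib.SuborbitThree
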