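import Cfsg.Agent.GW.Classification
import Cfsg.Agent.GW.PSLKlein
import Cfsg.Agent.GW.PSLOvergroup
import Cfsg.Agent.GW.PSLTorus
import Cfsg.Agent.GW.TwoPGL
import Cfsg.Agent.GW.OSType.LinearFacts
import Cfsg.Agent.Small.NormalFour

/-!
# A group of dihedral type with an involution whose centralizer has order four
-/

set_option autoImplicit false
set_option linter.style.haveILetI false
set_option linter.unusedSectionVars false

open Subgroup Equiv
open scoped MatrixGroups

namespace CfsgLib.SuborbitThree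

/-- An involution of `A₇` has centralizer of order more than four. -/
theorem alt_seven_centralizer (σ : alternatingGroup (Fin 7)) (hσ : orderOf σ = 2) :
    4 < Nat.card (centralizer ({σ} : Set (alternatingGroup (Fin 7)))) := by
  classical
  set s : Perm (Fin 7) := swap 0 1 * swap 2 3 with hs
  have ho : orderOf (σ : Perm (Fin 7)) = 2 := by rw [Subgroup.orderOf_coe, hσ]
  have hct : ∃ k, (σ : Perm (Fin 7)).cycleType = Multiset.replicate k 2 := by
    obtain ⟨k, hk⟩ := Equiv.Perm.cycleType_prime_order (σ := (σ : Perm (Fin 7)))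
      (by rw [ho]; exact Nat.prime_two)
    exact ⟨k + 1, by rw [hk, ho]⟩
  obtain ⟨k, hk⟩ := hct
  have hsum : 2 * k ≤ 7 := by
    have h := Equiv.Perm.sum_cycleType (σ : Perm (Fin 7))
    rw [hk, Multiset.sum_replicate, smul_eq_mul] at h
    have := Finset.card_le_univ (σ : Perm (Fin 7)).support
    simp only [Fintype.card_fin] at this
    omega
  have hsign : (-1 : ℤˣ) ^ (2 * k + k) = 1 := by
    have h := Equiv.Perm.sign_of_cycleType (σ : Perm (Fin 7))
    rw [hk, Multiset.sum_replicate, Multiset.card_replicate, smul_eq_mul, mul_comm k 2,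
      show Perm.sign (σ : Perm (Fin 7)) = 1 from Equiv.Perm.mem_alternatingGroup.1 σ.2] at h
    exact h.symm
  have hk2 : k = 2 := by
    have hk0 : k ≠ 0 := by
      rintro rfl
      rw [Multiset.replicate_zero, Equiv.Perm.cycleType_eq_zero] at hk
      rw [hk, orderOf_one] at ho
      omega
    have : k < 4 := by omega
    interval_cases k
    · exact absurd rfl hk0
    · exact absurd hsign (by decide)
    · rfl
    · exact absurd hsign (by decide)
  have hcs : s.cycleType = Multiset.replicate 2 2 := by decide +kernel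
  obtain ⟨τ, hτ⟩ := isConj_iff.1 (Equiv.Perm.isConj_iff_cycleType_eq.2
    (hcs.trans (hk2 ▸ hk).symm))
  let w : Fin 5 → Perm (Fin 7) := ![1, s, swap 0 2 * swap 1 3, swap 0 3 * swap 1 2, swap 4 5 * swap 5 6]
  have hw : ∀ i, Perm.sign (w i) = 1 ∧ w i * s = s * w i := by decide +kernel
  have hwi : Function.Injective w := by decide +kernel
  let f : Fin 5 → centralizer ({σ} : Set (alternatingGroup (Fin 7))) := fun i =>
    ⟨⟨τ * w i * τ⁻¹, Equiv.Perm.mem_alternatingGroup.2 (by simp [(hw i).1])⟩,
      mem_centralizer_singleton_iff.2 (Subtype.ext (by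
        show τ * w i * τ⁻¹ * (σ : Perm (Fin 7)) = σ * (τ * w i * τ⁻¹)
        rw [← hτ]
        calc τ * w i * τ⁻¹ * (τ * s * τ⁻¹) = τ * (w i * s) * τ⁻¹ := by group
          _ = τ * (s * w i) * τ⁻¹ := by rw [(hw i).2]
          _ = τ * s * τ⁻¹ * (τ * w i * τ⁻¹) := by group))⟩
  have := Nat.card_le_card_of_injective f fun i j h =>
    hwi (mul_left_cancel (mul_right_cancel (congrArg (fun x => ((x.1 : alternatingGroup (Fin 7)) :
      Perm (Fin 7))) h)))
  rw [Nat.card_fin] at this
  omega

universe u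

/-- A group of dihedral type without odd core, with Sylow order at least eight and an involution
centralizer of order at most four, is a 2-group or `S₄`. -/
theorem two_group_or_perm_four {X : Type u} [Group X] [Finite X] (hX : GW.DihType X)
    (hO : Cfsg.oddCore X = ⊥) (T : Sylow 2 X) (h8 : 8 ∣ Nat.card (T : Subgroup X)) {v : X}
    (hv : orderOf v = 2) (hvT : v ∈ (T : Subgroup X))
    (hC : Nat.card (centralizer ({v} : Set X)) ≤ 4) :
    IsPGroup 2 X ∨ Nonempty (X ≃* Equiv.Perm (Fin 4)) := by
  classical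
  haveI : Fact (Nat.Prime 2) := ⟨Nat.prime_two⟩
  rcases GW.knownCore_of_simpleHyp hX hO (GW.simpleHyp _) with h | ⟨⟨e⟩⟩ | h | ⟨L, hLn, hL, hLC⟩
  · exact Or.inl h
  · exfalso
    have h := h8.trans (card_subgroup_dvd_card _)
    rw [Nat.card_congr e.toEquiv, nat_card_alternatingGroup] at h
    norm_num [Nat.factorial] at h
  · exact Or.inr h
  exfalso
  haveI := hLn
  haveI : Nontrivial (T : Subgroup X) := Finite.one_lt_card_iff_nontrivial.1
    (lt_of_lt_of_le (by norm_num) (Nat.le_of_dvd Nat.card_pos h8))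
  obtain ⟨z, -, hzc, hz⟩ := Small.exists_central_invol_mem T.isPGroup' ⊤ top_ne_bot
  have hzv : (z : X) * v = v * z := (congrArg Subtype.val (mem_center_iff.1 hzc ⟨v, hvT⟩)).symm
  have hz' : orderOf (z : X) = 2 := by rw [Subgroup.orderOf_coe, hz]
  have hTz : (T : Subgroup X) ≤ centralizer ({(z : X)} : Set X) := fun t ht =>
    mem_centralizer_singleton_iff.2 (congrArg Subtype.val (mem_center_iff.1 hzc ⟨t, ht⟩))
  have hne : (z : X) ≠ v := fun he => by
    have h := (Nat.le_of_dvd Nat.card_pos h8).trans (card_le_of_le hTz)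
    rw [he] at h
    omega
  -- the centralizer of `v` inside `L`
  have hsub : ∀ (hvL : v ∈ L), Nat.card (centralizer ({(⟨v, hvL⟩ : L)} : Set L)) ≤ 4 ∧
      ((z : X) ∉ L → Nat.card (centralizer ({(⟨v, hvL⟩ : L)} : Set L)) < 4) := by
    intro hvL
    let f : centralizer ({(⟨v, hvL⟩ : L)} : Set L) → centralizer ({v} : Set X) := fun l =>
      ⟨l.1.1, mem_centralizer_singleton_iff.2
        (congrArg Subtype.val (mem_centralizer_singleton_iff.1 l.2))⟩
    have hf : Function.Injective f := fun a b h =>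
      Subtype.ext (Subtype.ext (congrArg Subtype.val h :))
    refine ⟨(Nat.card_le_card_of_injective f hf).trans hC, fun hzL => lt_of_lt_of_le ?_ hC⟩
    haveI := Fintype.ofFinite (centralizer ({(⟨v, hvL⟩ : L)} : Set L))
    haveI := Fintype.ofFinite (centralizer ({v} : Set X))
    rw [Nat.card_eq_fintype_card, Nat.card_eq_fintype_card]
    refine Fintype.card_lt_of_injective_of_notMem f hf
      (b := ⟨z, mem_centralizer_singleton_iff.2 hzv⟩) ?_
    rintro ⟨l, hl⟩
    exact hzL ((congrArg Subtype.val hl : (l.1 : X) = z) ▸ l.1.2)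
  by_cases hvL : v ∈ L
  · obtain ⟨h4, h3⟩ := hsub hvL
    rcases hL with ⟨F, _, _, hodd, hlarge, ⟨e⟩⟩ | ⟨⟨e⟩⟩
    · have hev : orderOf (e ⟨v, hvL⟩) = 2 := by rw [MulEquiv.orderOf_eq, Subgroup.orderOf_mk, hv]
      have hc : Nat.card (centralizer ({e ⟨v, hvL⟩} : Set PSL(2, F))) =
          Nat.card (centralizer ({(⟨v, hvL⟩ : L)} : Set L)) := (GW.card_centralizer_map e _).symm
      have hge : 4 ≤ Nat.card (centralizer ({e ⟨v, hvL⟩} : Set PSL(2, F))) := by
        rcases GW.card_centralizer_involution_psl hodd hev with ⟨h, h'⟩ | ⟨h, h'⟩ <;>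
          rw [h'] <;> omega
      by_cases hzL : (z : X) ∈ L
      · obtain ⟨g, hg, -⟩ := GW.exists_cycle_psl hodd hev
          (b := e ⟨z, hzL⟩) (by rw [MulEquiv.orderOf_eq, Subgroup.orderOf_mk, hz'])
          (fun h => hne (congrArg Subtype.val (e.injective h)).symm)
          (by rw [← map_mul, ← map_mul]; exact congrArg e (Subtype.ext hzv.symm))
        obtain ⟨g, rfl⟩ := e.surjective g
        have hg' : (g : X) * v * (g : X)⁻¹ = z := congrArg Subtype.val
          (e.injective (a₁ := g * ⟨v, hvL⟩ * g⁻¹) (a₂ := ⟨z, hzL⟩) (by rw [map_mul, map_mul, map_inv]; exact hg))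
        have hle : Nat.card (centralizer ({(z : X)} : Set X)) =
            Nat.card (centralizer ({v} : Set X)) := by
          rw [← hg']; exact (GW.card_centralizer_map (MulAut.conj (g : X)) v).symm
        have := (Nat.le_of_dvd Nat.card_pos h8).trans (card_le_of_le hTz)
        omega
      · have := h3 hzL; omega
    · have h := alt_seven_centralizer (e ⟨v, hvL⟩) (by rw [MulEquiv.orderOf_eq, Subgroup.orderOf_mk, hv])
      rw [← GW.card_centralizer_map e] at h
      omega
  · obtain ⟨F, _, _, ⟨m⟩⟩ := GW.OS.exists_model hX hLC hL hvL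
    obtain ⟨A, α, hA, hA2, hα, hnA⟩ := GW.OS.Model.exists_rep_involution (m := m) hv
    obtain ⟨h1, h2⟩ := GW.OS.Model.card_diag_centralizer hv hvL hv hz' hne hzv.symm hA hA2 hα hnA
    have hle : Nat.card (m.diagPart ⊓ centralizer ({v} : Set X) : Subgroup X) ≤ 4 :=
      (card_le_of_le inf_le_right).trans hC
    have hl := m.large
    obtain ⟨j, hj⟩ := m.odd
    by_cases hsq : IsSquare α
    · rw [h1 hsq] at hle; omega
    · rw [h2 hsq] at hle; omega

end CfsgLib.SuborbitThree
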