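import Cfsg.Agent.SuborbitThree.SDKill
import Cfsg.Agent.GLTwoThreeRecog.Main

/-!
# Centralizers of parts of the kernel; the kernel is trivial
-/

set_option autoImplicit false
set_option linter.style.haveILetI false
set_option linter.unusedSectionVars false

namespace CfsgLib.SuborbitThree

open scoped ComplexConjugate Pointwise commutatorElement
open CfsgLib.Characters CfsgLib.Characters.GL23

universe u

/-- A `2`-group normalizing a subgroup of odd order normalizes one of its Sylow `r`-subgroups. -/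
theorem exists_invariant_sylow {G : Type u} [Group G] [Finite G] (Q K : Subgroup G)
    (hQ : IsPGroup 2 Q) (hK : Odd (Nat.card K)) (hQK : Q ≤ Subgroup.normalizer (K : Set G))
    (r : ℕ) [Fact r.Prime] :
    ∃ P : Sylow r K, ∀ q ∈ Q, ∀ x ∈ (P : Subgroup K).map K.subtype,
      q * x * q⁻¹ ∈ (P : Subgroup K).map K.subtype := by
  let φ : Q →* MulAut K := K.normalizerMonoidHom.comp (Subgroup.inclusion hQK)
  letI : MulDistribMulAction Q K := MulDistribMulAction.compHom K φ
  haveI : Fact (Nat.Prime 2) := ⟨Nat.prime_two⟩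
  obtain ⟨P0⟩ : Nonempty (Sylow r K) := inferInstance
  have hodd : ¬ 2 ∣ Nat.card (Sylow r K) := fun h => by
    have h1 := (h.trans P0.card_dvd_index).trans (Subgroup.index_dvd_card _)
    exact (Nat.not_even_iff_odd.2 hK) (even_iff_two_dvd.2 h1)
  obtain ⟨P, hP⟩ := hQ.nonempty_fixed_point_of_prime_not_dvd_card (Sylow r K) hodd
  refine ⟨P, fun q hq x hx => ?_⟩
  obtain ⟨p, hp, rfl⟩ := Subgroup.mem_map.1 hx
  have hfix := hP (⟨q, hq⟩ : Q)
  have hmem : (⟨q, hq⟩ : Q) • p ∈ (P : Subgroup K) := by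
    rw [← hfix, Sylow.pointwise_smul_def]
    exact Subgroup.smul_mem_pointwise_smul p _ _ hp
  exact Subgroup.mem_map.2 ⟨_, hmem, rfl⟩

theorem centralizing_q8' (v : M3) (hv : v ∈ elts) (hd : det3 v = 1)
    (h : ∀ w ∈ elts, InQ8 w → mul3 v w = mul3 w v) : v = one3 ∨ v = m1 :=
  centralizing_q8 v hv hd (h _ (by decide) (by decide)) (h _ (by decide) (by decide))

namespace SDPres

variable {G : Type u} [Group G] [Fintype G] {z : G} (D : SDPres z)

theorem yG_not_centralizing {O1 : Subgroup G} (hO1 : O1 ≤ D.OG) (hne : O1 ≠ ⊥) {x : G}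
    (hxC : x ∈ Subgroup.centralizer ({z} : Set G)) (hx : x ∈ Subgroup.centralizer (O1 : Set G)) :
    (⟨x, hxC⟩ : Subgroup.centralizer ({z} : Set G)) ∈ D.plus := by
  by_contra hp
  obtain ⟨o, ho, ho1⟩ := (Subgroup.bot_or_exists_ne_one O1).resolve_left hne
  obtain ⟨oc, hoc, rfl⟩ := D.mem_OG.1 (hO1 ho)
  set xc : Subgroup.centralizer ({z} : Set G) := ⟨x, hxC⟩
  rw [D.mem_plus] at hp
  have hmem : xc * D.y ∈ D.plus := by
    rw [mem_plus, co_mul, det3_mul _ (D.co_mem _) _ (D.co_mem _), D.det_y,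
      (det3_cases _ (D.co_mem xc)).resolve_left hp]
    decide
  have h1 := D.comm_of_det hmem hoc
  have h2 : xc * oc = oc * xc := Subtype.ext (Subgroup.mem_centralizer_iff.1 hx _ ho).symm
  have h3 : D.y * oc = oc * D.y := mul_left_cancel (a := xc) (by
    rw [← mul_assoc, h1, ← mul_assoc, ← mul_assoc, h2])
  have h4 := D.y_inv _ hoc
  rw [h3, mul_inv_cancel_right] at h4
  exact ho1 (by rw [eq_inv_self_odd h4 (D.ker_odd_order hoc)]; rfl)

variable {D}

/-- A nontrivial subgroup of the kernel has its centralizer inside that of `z`. -/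
theorem SmallChar.centralizer_le [IsSimpleGroup G] (S : SmallChar D) {O1 : Subgroup G}
    (hO1 : O1 ≤ D.OG) (hne : O1 ≠ ⊥) :
    Subgroup.centralizer (O1 : Set G) ≤ Subgroup.centralizer ({z} : Set G) := by
  classical
  set W := Subgroup.centralizer (O1 : Set G) with hW
  have hQW : ∀ q ∈ D.QG, q ∈ W := fun q hq => Subgroup.mem_centralizer_iff.2 fun o ho =>
    (D.QG_OG hq (hO1 ho)).symm
  have hzW : z ∈ W := hQW z D.z_mem_QG
  obtain ⟨o0, ho0, ho01⟩ := (Subgroup.bot_or_exists_ne_one O1).resolve_left hne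
  -- `z` is isolated
  have hiso : Cfsg.IsIsolatedInvolution (⟨z, hzW⟩ : W) := by
    refine ⟨by rw [← Subgroup.orderOf_coe]; exact D.ord_z, fun g hg => Subtype.ext ?_⟩
    refine D.eq_z ?_ (congrArg Subtype.val hg.eq).symm (hO1 ho0) ho01
      (Subgroup.mem_centralizer_iff.1 (g * ⟨z, hzW⟩ * g⁻¹).2 o0 ho0).symm
    simpa using (MulAut.conj (g : G)).orderOf_eq z |>.trans D.ord_z
  obtain ⟨K', hK'n, hK'odd, hK'⟩ := ZStar.exists_oddNormal hiso
  set K : Subgroup G := K'.map W.subtype with hK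
  have hKodd : Odd (Nat.card K) := by
    rwa [hK, Subgroup.card_map_of_injective (Subgroup.subtype_injective _)]
  have hKW : K ≤ W := Subgroup.map_subtype_le _
  have hWK : ∀ w ∈ W, ∀ k ∈ K, w * k * w⁻¹ ∈ K := by
    intro w hw k hk
    obtain ⟨k', hk', rfl⟩ := Subgroup.mem_map.1 hk
    exact Subgroup.mem_map.2 ⟨⟨w, hw⟩ * k' * ⟨w, hw⟩⁻¹, hK'n.conj_mem _ hk' _, rfl⟩
  have hord : ∀ k ∈ K, Odd (orderOf k) := fun k hk =>
    hKodd.of_dvd_nat (by
      rw [show orderOf k = orderOf (⟨k, hk⟩ : K) from (Subgroup.orderOf_mk k hk).symm]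
      exact orderOf_dvd_natCard _)
  -- elements of `K` fixed by `z` are in the kernel
  have hfix : ∀ k ∈ K, z * k = k * z → k ∈ D.OG := by
    intro k hk hkz
    have hkC : k ∈ Subgroup.centralizer ({z} : Set G) :=
      Subgroup.mem_centralizer_singleton_iff.2 hkz.symm
    set kc : Subgroup.centralizer ({z} : Set G) := ⟨k, hkC⟩ with hkc
    have hplus : kc ∈ D.plus := D.yG_not_centralizing hO1 hne hkC (hKW hk)
    have hcomm : ∀ q ∈ D.Q, kc * q = q * kc := by
      intro q hq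
      have hqG : (q : G) ∈ D.QG := D.mem_QG.2 ⟨q, hq, rfl⟩
      have h1 : ((kc * q * kc⁻¹ * q⁻¹ : Subgroup.centralizer ({z} : Set G)) : G) ∈ K := by
        simp only [Subgroup.coe_mul, Subgroup.coe_inv, mul_assoc]
        refine mul_mem hk ?_
        rw [← mul_assoc]
        exact hWK _ (hQW _ hqG) _ (inv_mem hk)
      have h2 : kc * q * kc⁻¹ * q⁻¹ ∈ D.Q := mul_mem ((Q_normal D).conj_mem q hq kc) (inv_mem hq)
      have h3 : kc * q * kc⁻¹ * q⁻¹ = 1 := by
        refine eq_one_of_ord_dvd (a := 4) (b := orderOf ((kc * q * kc⁻¹ * q⁻¹ :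
          Subgroup.centralizer ({z} : Set G)) : G)) (orderOf_dvd_of_pow_eq_one h2.2)
          (by rw [Subgroup.orderOf_coe]) ?_
        exact Nat.Coprime.pow_left 2 (Nat.coprime_two_left.2 (hord _ h1))
      exact mul_inv_eq_iff_eq_mul.1 (mul_inv_eq_one.1 h3)
    have hv := centralizing_q8' (D.co kc) (D.co_mem _) hplus (fun w hw hw8 => by
      obtain ⟨q, ⟨hq, rfl⟩, -⟩ := D.existsUnique_Q hw hw8
      rw [← co_mul, ← co_mul, hcomm q hq])
    rcases hv with h | h
    · exact D.mem_OG.2 ⟨kc, D.co_eq_one_iff.1 h, rfl⟩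
    · exfalso
      have ho : Odd (orderOf kc) := by rw [← Subgroup.orderOf_coe]; exact hord k hk
      have h1 : pow3 (D.co kc) (orderOf kc) = one3 := by rw [← co_pow, pow_orderOf_eq_one, co_one]
      obtain ⟨j, hj⟩ := ho
      rw [h, hj, ← D.co_tC, ← co_pow, pow_succ, pow_mul, D.tC_sq, one_pow, one_mul, D.co_tC] at h1
      exact absurd h1 (by decide)
  -- `z` centralizes the invariant Sylow subgroups
  have hz2 := D.z_sq
  have hzi := D.z_inv
  have hQ2 : IsPGroup 2 D.QG := IsPGroup.of_card (n := 3) (by rw [D.card_QG]; norm_num)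
  have hQN : D.QG ≤ Subgroup.normalizer (K : Set G) := by
    intro q hq
    rw [Subgroup.mem_normalizer_iff]
    refine fun k => ⟨fun h => hWK q (hQW q hq) k h, fun h => ?_⟩
    have := hWK q⁻¹ (inv_mem (hQW q hq)) _ h
    rwa [inv_inv, ← mul_assoc, ← mul_assoc, inv_mul_cancel, one_mul, inv_mul_cancel_right] at this
  have hcent : ∀ (r : ℕ) [Fact r.Prime] (R : Subgroup G), R ≤ K → IsPGroup r R →
      (∀ q ∈ D.QG, ∀ x ∈ R, q * x * q⁻¹ ∈ R) → ∀ x ∈ R, z * x = x * z := by
    intro r _ R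
    induction R using WellFoundedLT.induction with
    | _ U ih =>
    intro hUK hUp hUQ
    by_contra hcon
    push Not at hcon
    obtain ⟨u0, hu0, hu0z⟩ := hcon
    haveI : Nontrivial U :=
      ⟨⟨⟨u0, hu0⟩, 1, fun h => hu0z (by rw [show u0 = 1 from congrArg Subtype.val h]; simp)⟩⟩
    have hr2 : r ≠ 2 := by
      intro hr
      subst hr
      obtain ⟨m, hm, hcard⟩ := hUp.nontrivial_iff_card.1 inferInstance
      have h1 := Subgroup.card_dvd_of_le hUK
      rw [hcard] at h1
      exact (Nat.not_even_iff_odd.2 hKodd) (even_iff_two_dvd.2 ((dvd_pow_self 2 (by omega)).trans h1))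
    set Φ : Subgroup G := (frattini U).map U.subtype with hΦ
    have hΦU : Φ ≤ U := Subgroup.map_subtype_le _
    have hΦlt : Φ < U := by
      refine lt_of_le_of_ne hΦU fun h => ?_
      have h1 : frattini U = ⊤ := by
        refine Subgroup.map_injective U.subtype_injective ?_
        rw [← hΦ, h, ← MonoidHom.range_eq_map, Subgroup.range_subtype]
      have h2 := frattini_nongenerating (G := U) (K := ⊥) (by rw [h1, bot_sup_eq])
      exact bot_ne_top h2
    have hconjU : ∀ u ∈ U, ∀ f ∈ Φ, u * f * u⁻¹ ∈ Φ := by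
      intro u hu f hf
      obtain ⟨f', hf', rfl⟩ := Subgroup.mem_map.1 hf
      exact Subgroup.mem_map.2 ⟨⟨u, hu⟩ * f' * ⟨u, hu⟩⁻¹,
        (inferInstance : (frattini U).Normal).conj_mem _ hf' _, rfl⟩
    have hΦQ : ∀ q ∈ D.QG, ∀ f ∈ Φ, q * f * q⁻¹ ∈ Φ := by
      intro q hq f hf
      obtain ⟨f', hf', rfl⟩ := Subgroup.mem_map.1 hf
      let α : U ≃* U :=
        { toFun := fun v => ⟨q * v * q⁻¹, hUQ q hq v v.2⟩
          invFun := fun v => ⟨q⁻¹ * v * q, by
            simpa using hUQ q⁻¹ (inv_mem hq) v v.2⟩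
          left_inv := fun v => Subtype.ext (by show q⁻¹ * (q * v * q⁻¹) * q = v; group)
          right_inv := fun v => Subtype.ext (by show q * (q⁻¹ * v * q) * q⁻¹ = v; group)
          map_mul' := fun v w => Subtype.ext (by
            show q * ((v : G) * w) * q⁻¹ = (q * v * q⁻¹) * (q * w * q⁻¹)
            group) }
      refine Subgroup.mem_map.2 ⟨α f', ?_, rfl⟩
      rw [← (inferInstance : (frattini U).Characteristic).fixed α] at hf'
      exact hf'
    have hΦz : ∀ f ∈ Φ, z * f = f * z := ih Φ hΦlt (hΦU.trans hUK) (hUp.to_le hΦU) hΦQ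
    have hΦO : Φ ≤ D.OG := fun f hf => hfix f (hUK (hΦU hf)) (hΦz f hf)
    have hwU : ∀ u ∈ U, u⁻¹ * (z * u * z⁻¹) ∈ U :=
      fun u hu => mul_mem (inv_mem hu) (hUQ z D.z_mem_QG u hu)
    have hwinv : ∀ u : G, z * (u⁻¹ * (z * u * z⁻¹)) * z⁻¹ = (u⁻¹ * (z * u * z⁻¹))⁻¹ := by
      intro u
      rw [_root_.mul_inv_rev, inv_inv, hzi]
      calc z * (u⁻¹ * (z * u * z)) * z = z * u⁻¹ * z * u * (z * z) := by group
        _ = z * u⁻¹ * z * u := by rw [hz2, mul_one]
        _ = (z * u * z)⁻¹ * u := by rw [_root_.mul_inv_rev, _root_.mul_inv_rev, hzi, mul_assoc z]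
    -- `U` centralizes its Frattini subgroup
    have hUΦ : ∀ u ∈ U, ∀ f ∈ Φ, u * f = f * u := by
      have hw : ∀ u ∈ U, ∀ f ∈ Φ, u⁻¹ * (z * u * z⁻¹) * f = f * (u⁻¹ * (z * u * z⁻¹)) := by
        intro u hu f hf
        have h1 := hΦz _ (hconjU u hu f hf)
        have h2 := hΦz f hf
        have h3 : z * u * z⁻¹ * f * (z * u * z⁻¹)⁻¹ = u * f * u⁻¹ := by
          calc z * u * z⁻¹ * f * (z * u * z⁻¹)⁻¹ = z * (u * (z⁻¹ * (f * z)) * u⁻¹) * z⁻¹ := by group
            _ = z * (u * f * u⁻¹) * z⁻¹ := by rw [← h2, inv_mul_cancel_left]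
            _ = u * f * u⁻¹ := by rw [h1, mul_inv_cancel_right]
        calc u⁻¹ * (z * u * z⁻¹) * f
            = u⁻¹ * (z * u * z⁻¹ * f * (z * u * z⁻¹)⁻¹) * (z * u * z⁻¹) := by group
          _ = f * (u⁻¹ * (z * u * z⁻¹)) := by rw [h3]; group
      set U1 : Subgroup G := U ⊓ Subgroup.centralizer (Φ : Set G) with hU1
      by_cases hU1eq : U1 = U
      · intro u hu f hf
        have : u ∈ U1 := hU1eq ▸ hu
        exact (Subgroup.mem_centralizer_iff.1 this.2 f hf).symm
      · exfalso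
        have hlt : U1 < U := lt_of_le_of_ne inf_le_left hU1eq
        have hQ1 : ∀ q ∈ D.QG, ∀ x ∈ U1, q * x * q⁻¹ ∈ U1 := by
          intro q hq x hx
          refine ⟨hUQ q hq x hx.1, Subgroup.mem_centralizer_iff.2 fun f hf => ?_⟩
          have h1 := hΦQ q⁻¹ (inv_mem hq) f hf
          rw [inv_inv] at h1
          have h2 := Subgroup.mem_centralizer_iff.1 hx.2 _ h1
          calc f * (q * x * q⁻¹) = q * ((q⁻¹ * f * q) * x) * q⁻¹ := by group
            _ = q * (x * (q⁻¹ * f * q)) * q⁻¹ := by rw [h2]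
            _ = q * x * q⁻¹ * f := by group
        have hz1 := ih U1 hlt (inf_le_left.trans hUK) (hUp.to_le inf_le_left) hQ1
        refine hu0z ?_
        have hmem : u0⁻¹ * (z * u0 * z⁻¹) ∈ U1 := ⟨hwU u0 hu0,
          Subgroup.mem_centralizer_iff.2 fun f hf => (hw u0 hu0 f hf).symm⟩
        have h5 := hwinv u0
        rw [hz1 _ hmem, mul_inv_cancel_right] at h5
        have h6 := eq_inv_self_odd h5 (hord _ (hUK (hwU u0 hu0)))
        rw [inv_mul_eq_one] at h6
        exact (mul_inv_eq_iff_eq_mul.1 h6.symm)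
    -- `U` is abelian
    haveI : Fact r.Prime := inferInstance
    have hΦc : commutator U ≤ frattini U := Solvable.commutator_le_frattini hUp
    have hUc : ∀ a ∈ U, ∀ b ∈ U, a * b = b * a := by
      intro a ha b hb
      have hε : a⁻¹ * b * a * b⁻¹ ∈ Φ := by
        refine Subgroup.mem_map.2 ⟨⁅(⟨a, ha⟩ : U)⁻¹, ⟨b, hb⟩⁆, hΦc (by
          rw [commutator_def]
          exact Subgroup.commutator_mem_commutator (Subgroup.mem_top _) (Subgroup.mem_top _)), ?_⟩
        simp [commutatorElement_def]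
      have h1 := S.kill_commutator (B := Φ) hΦO hr2 (a := a) (b := b)
        (ε := a⁻¹ * b * a * b⁻¹) (hUΦ a ha) (hUΦ b hb)
        (Subgroup.mem_map.2 ⟨_, Solvable.pow_mem_frattini hUp ⟨a, ha⟩, rfl⟩) hε (by group)
      rw [mul_inv_eq_one] at h1
      calc a * b = a * (a⁻¹ * b * a) := by rw [h1]
        _ = b * a := by group
    -- the inverted part
    let V : Subgroup G :=
      { carrier := {v | ∃ u ∈ U, v = u⁻¹ * (z * u * z⁻¹)}
        one_mem' := ⟨1, U.one_mem, by simp⟩
        mul_mem' := by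
          rintro v w ⟨u, hu, rfl⟩ ⟨u', hu', rfl⟩
          refine ⟨u * u', mul_mem hu hu', ?_⟩
          have h1 := hUQ z D.z_mem_QG u hu
          have h2 := hUQ z D.z_mem_QG u' hu'
          calc u⁻¹ * (z * u * z⁻¹) * (u'⁻¹ * (z * u' * z⁻¹))
              = u⁻¹ * ((z * u * z⁻¹) * u'⁻¹) * (z * u' * z⁻¹) := by group
            _ = u⁻¹ * (u'⁻¹ * (z * u * z⁻¹)) * (z * u' * z⁻¹) := by rw [hUc _ h1 _ (inv_mem hu')]
            _ = (u⁻¹ * u'⁻¹) * ((z * u * z⁻¹) * (z * u' * z⁻¹)) := by group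
            _ = (u'⁻¹ * u⁻¹) * ((z * u * z⁻¹) * (z * u' * z⁻¹)) := by
              rw [hUc _ (inv_mem hu) _ (inv_mem hu')]
            _ = (u * u')⁻¹ * (z * (u * u') * z⁻¹) := by group
        inv_mem' := by
          rintro v ⟨u, hu, rfl⟩
          refine ⟨u⁻¹, inv_mem hu, ?_⟩
          have h1 := hUQ z D.z_mem_QG u hu
          rw [_root_.mul_inv_rev, inv_inv, hUc _ (inv_mem h1) u hu]
          group }
    have hVU : V ≤ U := by
      rintro v ⟨u, hu, rfl⟩
      exact hwU u hu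
    have hVbot := S.kill_abelian (V := V) hO1 hne (fun a ha b hb => hUc a (hVU ha) b (hVU hb))
      (fun v hv => hord v (hUK (hVU hv)))
      (fun v hv o ho => (Subgroup.mem_centralizer_iff.1 (hKW (hUK (hVU hv))) o ho).symm)
      (by rintro v ⟨u, hu, rfl⟩; exact hwinv u)
      (by
        rintro q hq v ⟨u, hu, rfl⟩
        refine ⟨q * u * q⁻¹, hUQ q hq u hu, ?_⟩
        have hqz : q * z = z * q := Subgroup.mem_centralizer_singleton_iff.1 (D.QG_le_C hq)
        calc q * (u⁻¹ * (z * u * z⁻¹)) * q⁻¹ = (q * u * q⁻¹)⁻¹ * (q * z) * u * (q * z)⁻¹ := by group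
          _ = (q * u * q⁻¹)⁻¹ * (z * (q * u * q⁻¹) * z⁻¹) := by rw [hqz]; group)
    refine hu0z ?_
    have : u0⁻¹ * (z * u0 * z⁻¹) ∈ V := ⟨u0, hu0, rfl⟩
    rw [hVbot, Subgroup.mem_bot, inv_mul_eq_one] at this
    exact (mul_inv_eq_iff_eq_mul.1 this.symm)
  have hKC : ∀ k ∈ K, z * k = k * z := by
    intro k hk
    have hle : K ≤ Subgroup.centralizer ({z} : Set G) := by
      have h1 : Nat.card K ∣ Nat.card (K ⊓ Subgroup.centralizer ({z} : Set G) : Subgroup G) := by
        refine (Nat.dvd_iff_prime_pow_dvd_dvd _ _).2 fun p j hp hdvd => ?_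
        haveI := Fact.mk hp
        obtain ⟨P, hP⟩ := exists_invariant_sylow D.QG K hQ2 hKodd hQN p
        have hPK : (P : Subgroup K).map K.subtype ≤ K := Subgroup.map_subtype_le _
        have hz := hcent p _ hPK (P.2.map _) hP
        have hle : (P : Subgroup K).map K.subtype ≤
            K ⊓ Subgroup.centralizer ({z} : Set G) := fun x hx =>
          ⟨hPK hx, Subgroup.mem_centralizer_singleton_iff.2 (hz x hx).symm⟩
        have h2 := Subgroup.card_dvd_of_le hle
        rw [Subgroup.card_map_of_injective (Subgroup.subtype_injective _)] at h2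
        exact (P.pow_dvd_card_of_pow_dvd_card hdvd).trans h2
      have heq : K ⊓ Subgroup.centralizer ({z} : Set G) = K :=
        Subgroup.eq_of_le_of_card_ge inf_le_left (Nat.le_of_dvd Nat.card_pos h1)
      exact heq ▸ inf_le_right
    exact (Subgroup.mem_centralizer_singleton_iff.1 (hle hk)).symm
  intro g hg
  refine Subgroup.mem_centralizer_singleton_iff.2 ?_
  set k := z * g * z⁻¹ * g⁻¹ with hk
  have hkK : k ∈ K := Subgroup.mem_map.2 ⟨_, hK' ⟨g, hg⟩, by simp [hk]⟩
  have h5 : z * k * z⁻¹ = k⁻¹ := by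
    rw [hk]; simp only [_root_.mul_inv_rev, inv_inv, hzi]
    calc z * (z * g * z * g⁻¹) * z = (z * z) * g * z * g⁻¹ * z := by group
      _ = g * (z * (g⁻¹ * z)) := by rw [hz2, one_mul]; group
  rw [hKC k hkK, mul_inv_cancel_right] at h5
  have h6 := eq_inv_self_odd h5 (hord k hkK)
  rw [hk, mul_inv_eq_one, mul_inv_eq_iff_eq_mul] at h6
  exact h6.symm

/-- The kernel is trivial. -/
theorem n_eq_one [IsSimpleGroup G] (D : SDPres z) : D.n = 1 := by
  classical
  by_contra hn
  obtain ⟨S⟩ : Nonempty (SmallChar D) := by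
    rcases D.exists_small_char with ⟨-, χ, h1, h2⟩ | ⟨-, χ, h1, h2⟩
    · refine ⟨⟨χ, 12, 4, by exact_mod_cast h1, fun o ho => ?_, Or.inl ⟨rfl, rfl⟩⟩⟩
      obtain ⟨o', ho', rfl⟩ := D.mem_OG.1 ho
      have := h2 o' ho'
      push_cast
      simpa [tC] using this
    · refine ⟨⟨χ, 10, -2, by exact_mod_cast h1, fun o ho => ?_, Or.inr ⟨rfl, rfl⟩⟩⟩
      obtain ⟨o', ho', rfl⟩ := D.mem_OG.1 ho
      have := h2 o' ho'
      push_cast
      simpa [tC] using this
  set r := D.n.minFac with hr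
  haveI : Fact r.Prime := ⟨Nat.minFac_prime hn⟩
  set C := Subgroup.centralizer ({z} : Set G) with hC
  obtain ⟨P⟩ : Nonempty (Sylow r C) := inferInstance
  set PG : Subgroup G := (P : Subgroup C).map C.subtype with hPG
  -- `P` meets the kernel
  obtain ⟨⟨o, ho⟩, hord⟩ := exists_prime_orderOf_dvd_card' (G := D.π.ker) r (Nat.minFac_dvd _)
  rw [Subgroup.orderOf_mk] at hord
  have hzo : IsPGroup r (Subgroup.zpowers o) :=
    IsPGroup.of_card (n := 1) (by rw [Nat.card_zpowers, hord, pow_one])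
  obtain ⟨P0, hP0⟩ := hzo.exists_le_sylow
  obtain ⟨g, hg⟩ := MulAction.exists_smul_eq C P0 P
  have ho' : g * o * g⁻¹ ∈ (P : Subgroup C) := by
    rw [← hg, Sylow.coe_subgroup_smul]
    exact Subgroup.smul_mem_pointwise_smul o (MulAut.conj g) _ (hP0 (Subgroup.mem_zpowers o))
  have hne : PG ⊓ D.OG ≠ ⊥ := by
    refine Subgroup.ne_bot_iff_exists_ne_one.2 ⟨⟨((g * o * g⁻¹ : C) : G),
      Subgroup.mem_map.2 ⟨_, ho', rfl⟩,
      D.mem_OG.2 ⟨_, (inferInstance : D.π.ker.Normal).conj_mem o ho g, rfl⟩⟩, fun h => ?_⟩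
    have h1 : (g * o * g⁻¹ : C) = 1 := by
      refine Subtype.ext ?_
      simpa using congrArg Subtype.val h
    rw [conj_eq_one_iff] at h1
    rw [h1, orderOf_one] at hord
    exact (Fact.out : r.Prime).one_lt.ne hord
  have hcl := S.centralizer_le (O1 := PG ⊓ D.OG) inf_le_right hne
  -- the normalizer of `P` centralizes `z`
  have hN : Subgroup.normalizer (PG : Set G) ≤ C := by
    intro x hx
    have hxz : x * z * x⁻¹ ∈ Subgroup.centralizer ((PG ⊓ D.OG : Subgroup G) : Set G) := by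
      refine Subgroup.mem_centralizer_iff.2 fun p hp => ?_
      have h1 := (Subgroup.mem_normalizer_iff''.1 hx p).1 hp.1
      have h2 := Subgroup.mem_centralizer_singleton_iff.1 (Subgroup.map_subtype_le _ h1)
      calc p * (x * z * x⁻¹) = x * ((x⁻¹ * p * x) * z) * x⁻¹ := by group
        _ = x * (z * (x⁻¹ * p * x)) * x⁻¹ := by rw [h2]
        _ = x * z * x⁻¹ * p := by group
    have hxC := Subgroup.mem_centralizer_singleton_iff.1 (hcl hxz)
    obtain ⟨p, hp, hp1⟩ := (Subgroup.bot_or_exists_ne_one (PG ⊓ D.OG)).resolve_left hne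
    have h3 := D.eq_z (w := x * z * x⁻¹)
      (by simpa using (MulAut.conj x).orderOf_eq z |>.trans D.ord_z) hxC hp.2 hp1
      (Subgroup.mem_centralizer_iff.1 hxz p hp).symm
    rw [mul_inv_eq_iff_eq_mul] at h3
    exact Subgroup.mem_centralizer_singleton_iff.2 h3
  -- so it is a Sylow subgroup of `G`
  obtain ⟨R, hR⟩ := (P.2.map C.subtype : IsPGroup r PG).exists_le_sylow
  have hPR : PG = R := by
    by_contra hne'
    have hlt : PG.subgroupOf R < ⊤ := by
      rw [lt_top_iff_ne_top]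
      intro h
      exact hne' (le_antisymm hR (Subgroup.subgroupOf_eq_top.1 h))
    haveI : Group.IsNilpotent (R : Subgroup G) := R.2.isNilpotent
    obtain ⟨-, x, hx, hxP⟩ := SetLike.lt_iff_le_and_exists.1
      (Group.normalizerCondition_of_isNilpotent (G := (R : Subgroup G)) (PG.subgroupOf R) hlt)
    have hxN : (x : G) ∈ Subgroup.normalizer (PG : Set G) := by
      rw [Subgroup.mem_normalizer_iff]
      intro p
      rw [Subgroup.mem_normalizer_iff] at hx
      refine ⟨fun hp => Subgroup.mem_subgroupOf.1 ((hx ⟨p, hR hp⟩).1 hp), fun hp => ?_⟩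
      have hpR : p ∈ (R : Subgroup G) := by
        have := mul_mem (mul_mem (inv_mem x.2) (hR hp)) x.2
        simpa [mul_assoc] using this
      exact Subgroup.mem_subgroupOf.1 ((hx ⟨p, hpR⟩).2 hp)
    have hxC := hN hxN
    set xc : C := ⟨x, hxC⟩
    have hxnorm : xc ∈ Subgroup.normalizer ((P : Subgroup C) : Set C) := by
      rw [Subgroup.mem_normalizer_iff]
      intro p
      have key : ∀ q : C, q ∈ (P : Subgroup C) ↔ (q : G) ∈ PG := fun q =>
        (Subgroup.mem_map_iff_mem C.subtype_injective).symm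
      rw [key, key]
      exact Subgroup.mem_normalizer_iff.1 hxN (p : G)
    have hxp : IsPGroup r (Subgroup.zpowers xc) := by
      obtain ⟨j, hj⟩ := R.2 x
      refine IsPGroup.of_card (p := r) (n := (Nat.dvd_prime_pow (Fact.out : r.Prime)).1
        (show Nat.card (Subgroup.zpowers xc) ∣ r ^ j by
          rw [Nat.card_zpowers]
          refine orderOf_dvd_of_pow_eq_one (Subtype.ext ?_)
          simpa [xc] using congrArg Subtype.val hj) |>.choose) ?_
      exact ((Nat.dvd_prime_pow (Fact.out : r.Prime)).1 (show Nat.card (Subgroup.zpowers xc) ∣ r ^ j by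
          rw [Nat.card_zpowers]
          refine orderOf_dvd_of_pow_eq_one (Subtype.ext ?_)
          simpa [xc] using congrArg Subtype.val hj)).choose_spec.2
    have hsup : IsPGroup r ((Subgroup.zpowers xc) ⊔ (P : Subgroup C) : Subgroup C) :=
      hxp.to_sup_of_normal_right' P.2 (Subgroup.zpowers_le.2 hxnorm)
    have heq := P.3 hsup le_sup_right
    refine hxP (Subgroup.mem_subgroupOf.2 (Subgroup.mem_map.2 ⟨xc, ?_, rfl⟩))
    rw [← heq]
    exact Subgroup.mem_sup_left (Subgroup.mem_zpowers xc)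
  have hcardR : Nat.card R = r ^ (D.n.factorization r + (48 : ℕ).factorization r) := by
    rw [← hPR, hPG, Subgroup.card_map_of_injective (Subgroup.subtype_injective _),
      P.card_eq_multiplicity, hC, D.card_centralizer,
      Nat.factorization_mul (by norm_num) D.n_pos.ne', Finsupp.add_apply, add_comm]
  rw [R.card_eq_multiplicity] at hcardR
  have h2 := Nat.pow_right_injective (Fact.out : r.Prime).two_le hcardR
  have hn3 : D.n ^ 3 ≠ 0 := pow_ne_zero 3 D.n_pos.ne'
  have hdvd : r ∣ D.n := Nat.minFac_dvd _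
  have ha : 1 ≤ D.n.factorization r :=
    ((Fact.out : r.Prime).factorization_pos_of_dvd D.n_pos.ne' hdvd)
  have hkey : (48 : ℕ).factorization r ≤ (5616 : ℕ).factorization r ∧
      (48 : ℕ).factorization r ≤ (7920 : ℕ).factorization r :=
    ⟨(Nat.factorization_le_iff_dvd (by norm_num) (by norm_num)).2 (by norm_num) r,
      (Nat.factorization_le_iff_dvd (by norm_num) (by norm_num)).2 (by norm_num) r⟩
  rcases D.exists_small_char with ⟨hG, -⟩ | ⟨hG, -⟩ <;>
    rw [hG, Nat.factorization_mul (by norm_num) hn3, Nat.factorization_pow, Finsupp.add_apply,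
      Finsupp.smul_apply, smul_eq_mul] at h2 <;>
    omega

/-- The centralizer of `z` is `GL(2, 3)`. -/
theorem nonempty_mulEquiv [IsSimpleGroup G] (D : SDPres z) :
    Nonempty (Subgroup.centralizer ({z} : Set G) ≃* GLTT) := by
  refine ⟨MulEquiv.ofBijective D.π ⟨?_, D.surj⟩⟩
  rw [← MonoidHom.ker_eq_bot_iff, ← Subgroup.card_eq_one]
  exact D.n_eq_one

include D in
/-- Recognition of `L₃(3)` and `M₁₁`. -/
theorem recognition [IsSimpleGroup G] :
    Nonempty (G ≃* Matrix.ProjectiveSpecialLinearGroup (Fin 3) (ZMod 3)) ∨ Cfsg.Spor.IsoM11 G := by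
  haveI : Fact (Nat.Prime 3) := ⟨Nat.prime_three⟩
  obtain ⟨e⟩ := D.nonempty_mulEquiv
  rcases Characters.GL23.card_eq_5616_or_7920 e D.ord_z with h | h
  · left
    obtain ⟨f⟩ := GLTwoThreeRecog.Ctx.nonempty_mulEquiv ⟨z, e, D.ord_z, h⟩
    obtain ⟨f'⟩ := GLTwoThreeRecog.nonempty_PSL_mulEquiv
    exact ⟨f.trans f'.symm⟩
  · exact Or.inr (MElevenUnique.nonempty_mulEquiv_SporM11 inferInstance h)

end SDPres

end CfsgLib.SuborbitThree
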