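import Cfsg.Agent.SuborbitThree.Four
import Cfsg.Agent.SuborbitThree.SDQuot
import Cfsg.Agent.SuborbitThree.SDTrivial
import Cfsg.Agent.TwoGroups.SemidihedralSubgroups
import Cfsg.Agent.Inv53.TransferTwo
import Cfsg.Agent.Inv54.CentralizerFour
import Cfsg.Agent.ExtremelyClosed.Reduction
import Cfsg.Agent.ZCGroup.Model
import Cfsg.Agent.S3304
import Cfsg.Agent.LargeExtraspecial.Basic

/-!
# Simple groups with a self-centralizing four-group and semidihedral Sylow 2-subgroups
-/

set_option autoImplicit false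
set_option linter.style.haveILetI false
set_option linter.unusedSectionVars false

open Subgroup CfsgLib.Characters.GL23 CfsgLib.TwoGroups

namespace CfsgLib.SuborbitThree

universe u

theorem kleinS4_of_two_group_normal : ∀ σ : Equiv.Perm (Fin 4), σ ∉ ZCGroup.kleinS4 →
    (σ ^ 3 = 1 ∧ σ ≠ 1) ∨
      ∃ τ, (σ * τ * σ⁻¹ * τ⁻¹) ^ 3 = 1 ∧ σ * τ * σ⁻¹ * τ⁻¹ ≠ 1 := by decide +kernel

theorem kleinS4_transitive : ∀ a b : Equiv.Perm (Fin 4), a ∈ ZCGroup.kleinS4 →
    b ∈ ZCGroup.kleinS4 → a ≠ 1 → b ≠ 1 → ∃ s, s * a * s⁻¹ = b := by decide +kernel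

theorem kleinS4_sq : ∀ a : Equiv.Perm (Fin 4), a ∈ ZCGroup.kleinS4 → a * a = 1 := by decide +kernel

theorem mul3_m1 : ∀ w ∈ elts, mul3 w m1 = mul3 m1 w := by decide +kernel

/-- The structure of a group with central involution `c`, quotient `S₄`, no odd core, and
semidihedral Sylow 2-subgroup, given through an injection. -/
theorem nonempty_equiv_gl23 {E : Type u} [Group E] [Finite E] {S : Type u} [Group S] [Finite S]
    {n : ℕ} {x y : S} (d : SDPair n x y) (f : S →* E) (hf : Function.Injective f)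
    {c : E} (hc : orderOf c = 2) (hcz : c ∈ center E) (hfc : f (x ^ hh n) = c)
    (e : E →* Equiv.Perm (Fin 4)) (he : Function.Surjective e) (hker : e.ker = zpowers c)
    (h16 : Nat.card S = 16) : Nonempty (E ≃* GLTT) := by
  classical
  haveI : Fact (Nat.Prime 2) := ⟨Nat.prime_two⟩
  have hE : Nat.card E = 48 := by
    have h := e.ker.card_mul_index
    rw [Subgroup.index_ker, MonoidHom.range_eq_top.2 he, card_top, hker, Nat.card_zpowers, hc,
      Nat.card_perm, Nat.card_fin] at h
    rw [← h]; rfl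
  set R : Subgroup E := ZCGroup.kleinS4.comap e with hR
  haveI hk : ZCGroup.kleinS4.Normal := ⟨fun k hk s => ZCGroup.kleinS4_normal s k hk⟩
  haveI hRn : R.Normal := Subgroup.Normal.comap hk e
  have hR8 : Nat.card R = 8 := by
    have h1 := R.card_mul_index
    rw [hR, Subgroup.index_comap_of_surjective _ he, hE] at h1
    have h2 := ZCGroup.kleinS4.card_mul_index
    rw [ZCGroup.card_kleinS4, Nat.card_perm, Nat.card_fin] at h2
    norm_num [Nat.factorial] at h2
    have h6 : (ZCGroup.kleinS4).index = 6 := by omega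
    rw [h6] at h1
    rw [hR]; omega
  have hRp : IsPGroup 2 R := IsPGroup.of_card (n := 3) (by rw [hR8]; rfl)
  have hcR : c ∈ R := by
    show e c ∈ ZCGroup.kleinS4
    rw [MonoidHom.mem_ker.1 (hker.ge (mem_zpowers c))]
    exact one_mem _
  have hck : ∀ g, e g = 1 → g = 1 ∨ g = c := by
    intro g hg
    obtain ⟨i, rfl⟩ := mem_zpowers_iff.1 (hker.le (MonoidHom.mem_ker.2 hg))
    rcases Int.even_or_odd' i with ⟨m, rfl | rfl⟩
    · left
      rw [zpow_mul, zpow_two, Small.mul_self_of_orderOf_two hc, one_zpow]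
    · right
      rw [zpow_add_one, zpow_mul, zpow_two, Small.mul_self_of_orderOf_two hc, one_zpow, one_mul]
  -- a Sylow subgroup
  have hfr : Nat.card f.range = 16 := by
    rw [← h16]; exact (Nat.card_congr (MonoidHom.ofInjective hf).toEquiv).symm
  let T : Sylow 2 E := (IsPGroup.of_card (n := 4) (p := 2) (G := f.range) (by rw [hfr]; rfl)).toSylow
    (by
      have h1 := f.range.card_mul_index
      rw [hfr, hE] at h1
      rw [show f.range.index = 3 by omega]
      norm_num)
  have hRT : R ≤ f.range := hRp.le_sylow_of_normal T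
  -- `R` has one involution
  have huniq : ∀ r ∈ R, r * r = 1 → r ≠ 1 → r = c := by
    intro r hr hr2 hr1
    by_contra hrc
    have hall : ∀ s ∈ R, s * s = 1 := by
      intro s hs
      by_cases h1 : e s = 1
      · rcases hck s h1 with rfl | rfl
        · exact one_mul 1
        · exact Small.mul_self_of_orderOf_two hc
      have hr' : e r ≠ 1 := fun h => (hck r h).elim hr1 hrc
      obtain ⟨σ, hσ⟩ := kleinS4_transitive _ _ hr hs hr' h1
      obtain ⟨g, rfl⟩ := he σ
      have h2 : e ((g * r * g⁻¹)⁻¹ * s) = 1 := by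
        rw [map_mul, map_inv, map_mul, map_mul, map_inv, hσ, inv_mul_cancel]
      have hgg : g * r * g⁻¹ * (g * r * g⁻¹) = 1 := by
        calc g * r * g⁻¹ * (g * r * g⁻¹) = g * (r * r) * g⁻¹ := by group
          _ = 1 := by rw [hr2]; group
      have hc1 := mem_center_iff.1 hcz (g * r * g⁻¹)
      rcases hck _ h2 with h | h
      · rw [inv_mul_eq_one] at h
        rwa [← h]
      · rw [inv_mul_eq_iff_eq_mul] at h
        generalize g * r * g⁻¹ = A at h hgg hc1
        rw [h, mul_assoc, ← mul_assoc c, ← hc1, mul_assoc, Small.mul_self_of_orderOf_two hc,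
          mul_one, hgg]
    set A : Subgroup S := R.comap f with hA
    have hAc : Nat.card A = 8 := by
      rw [← hR8, ← card_map_of_injective hf, hA, map_comap_eq_self hRT]
    have hA2 : ∀ a ∈ A, a * a = 1 := fun a ha => hf (by rw [map_mul, map_one]; exact hall _ ha)
    have hcl : ∀ a ∈ A, a = 1 ∨ a = x ^ hh n ∨ ∃ i : ℤ, 2 ∣ i ∧ a = x ^ i * y := fun a ha => by
      by_cases h1 : a = 1
      · exact Or.inl h1
      · exact Or.inr (d.orderOf_eq_two_iff.1 (Small.orderOf_eq_two_iff_sq.2 ⟨h1, hA2 a ha⟩))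
    have hle : Nat.card A ≤ 4 := by
      by_cases hex : ∃ i : ℤ, x ^ i * y ∈ A
      · obtain ⟨i, hi⟩ := hex
        rw [← SetLike.coe_sort_coe, Nat.card_coe_set_eq]
        refine (Set.ncard_le_ncard (t := ({1, x ^ hh n, x ^ i * y, x ^ hh n * (x ^ i * y)} : Set S))
          (fun a ha => ?_) (Set.toFinite _)).trans ?_
        · rcases hcl a ha with h | h | ⟨l, -, h⟩
          · exact Or.inl h
          · exact Or.inr (Or.inl h)
          · subst h
            have hcomm : Commute (x ^ l * y) (x ^ i * y) := by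
              have h := hA2 _ (mul_mem ha hi)
              have e1 : (x ^ l * y)⁻¹ = x ^ l * y := inv_eq_of_mul_eq_one_right (hA2 _ ha)
              have e2 : (x ^ i * y)⁻¹ = x ^ i * y := inv_eq_of_mul_eq_one_right (hA2 _ hi)
              have := inv_eq_of_mul_eq_one_right h
              rw [mul_inv_rev, e1, e2] at this
              exact this.symm
            rcases d.zpow_of_hh_dvd (d.commute_zpow_y.1 hcomm) with h' | h'
            · refine Or.inr (Or.inr (Or.inl ?_))
              rw [show l = (l - i) + i by ring, zpow_add, h', one_mul]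
            · refine Or.inr (Or.inr (Or.inr ?_))
              rw [Set.mem_singleton_iff, show l = (l - i) + i by ring, zpow_add, h', mul_assoc]
        · refine (Set.ncard_insert_le _ _).trans (Nat.succ_le_succ ?_)
          refine (Set.ncard_insert_le _ _).trans (Nat.succ_le_succ ?_)
          refine (Set.ncard_insert_le _ _).trans (Nat.succ_le_succ ?_)
          rw [Set.ncard_singleton]
      · rw [← SetLike.coe_sort_coe, Nat.card_coe_set_eq]
        refine ((Set.ncard_le_ncard (t := ({1, x ^ hh n} : Set S)) (fun a ha => ?_)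
          (Set.toFinite _)).trans ((Set.ncard_insert_le _ _).trans
            (by rw [Set.ncard_singleton]))).trans (by norm_num)
        rcases hcl a ha with h | h | ⟨l, -, h⟩
        · exact Or.inl h
        · exact Or.inr h
        · exact absurd ⟨l, h ▸ ha⟩ hex
    omega
  have hu : TwoGroupsQ.HasUniqueOrderP R 2 := TwoGroupsQ.hasUniqueOrderP_two fun p q hp hp1 hq hq1 =>
    Subtype.ext ((huniq p p.2 (congrArg Subtype.val (sq p ▸ hp)) fun h => hp1 (Subtype.ext h)).trans
      (huniq q q.2 (congrArg Subtype.val (sq q ▸ hq)) fun h => hq1 (Subtype.ext h)).symm)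
  obtain ⟨eR⟩ : Nonempty (R ≃* QuaternionGroup 2) := by
    rcases TwoGroupsQ.isCyclic_or_quaternion hRp hu with hcyc | ⟨-, m, -, ⟨eR⟩⟩
    · exfalso
      obtain ⟨g, hg⟩ := hcyc.exists_generator
      have h8 := orderOf_eq_card_of_forall_mem_zpowers hg
      rw [hR8] at h8
      have h4 : g ^ 4 = 1 := by
        have h2 : e ((g : E) * g) = 1 := by rw [map_mul]; exact kleinS4_sq _ g.2
        refine Subtype.ext ?_
        rw [SubgroupClass.coe_pow, show 4 = 2 * 2 from rfl, pow_mul, sq, sq]
        rcases hck _ h2 with h | h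
        · rw [h, one_mul]; rfl
        · rw [h, Small.mul_self_of_orderOf_two hc]; rfl
      have := Nat.le_of_dvd (by norm_num) (orderOf_dvd_of_pow_eq_one h4)
      omega
    · have h1 := Nat.card_congr eR.toEquiv
      rw [hR8, Nat.card_eq_fintype_card, QuaternionGroup.card] at h1
      rw [show 2 ^ m = 2 by omega] at eR
      exact ⟨eR⟩
  have hcore : ∀ N : Subgroup E, N.Normal → IsPGroup 2 N → N ≤ R := by
    intro N hN hN2 g hg
    show e g ∈ ZCGroup.kleinS4
    by_contra hgk
    haveI : (N.map e).Normal := hN.map e he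
    have h3 : ∃ s ∈ N.map e, s ^ 3 = 1 ∧ s ≠ 1 := by
      rcases kleinS4_of_two_group_normal _ hgk with h | ⟨τ, h⟩
      · exact ⟨e g, mem_map_of_mem e hg, h⟩
      · refine ⟨_, ?_, h⟩
        rw [show e g * τ * (e g)⁻¹ * τ⁻¹ = e g * (τ * (e g)⁻¹ * τ⁻¹) by group]
        exact mul_mem (mem_map_of_mem e hg)
          (Normal.conj_mem inferInstance _ (inv_mem (mem_map_of_mem e hg)) τ)
    obtain ⟨s, hs, hs3, hs1⟩ := h3
    obtain ⟨k, hk⟩ := (hN2.map e) ⟨s, hs⟩
    have h2 : orderOf s ∣ 2 ^ k := orderOf_dvd_of_pow_eq_one (congrArg Subtype.val hk)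
    exact hs1 (orderOf_eq_one_iff.1 (Nat.eq_one_of_dvd_coprimes
      (Nat.Coprime.pow_left k (by norm_num : Nat.Coprime 2 3)) h2 (orderOf_dvd_of_pow_eq_one hs3)))
  have hcent : centralizer (R : Set E) ≤ R := by
    intro g hg
    show e g ∈ ZCGroup.kleinS4
    refine ZCGroup.kleinS4_self _ fun k hk => ?_
    obtain ⟨r, rfl⟩ := he k
    rw [← map_mul, ← map_mul]
    exact congrArg e (mem_centralizer_iff.1 hg r hk).symm
  have hncl : ¬ ∃ P : Sylow 2 E, (P : Subgroup E).Normal := by
    rintro ⟨P, hP⟩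
    have h := card_dvd_of_le (hcore _ hP P.isPGroup')
    rw [Nat.card_congr (Sylow.equiv P T).toEquiv, hR8] at h
    change Nat.card f.range ∣ 8 at h
    rw [hfr] at h
    norm_num at h
  rcases Cfsg.Agent.S3304.structure_q8 R hcore hcent eR hncl with h | ⟨-, -, -, h⟩
  · exact h
  · exfalso
    obtain ⟨eT⟩ := h T
    have key : ∀ p q : QuaternionGroup 4, p * p = 1 → p ≠ 1 → q * q = 1 → q ≠ 1 → p = q := by
      decide +kernel
    have hmem : ∀ s : S, f s ∈ (T : Subgroup E) := fun s => ⟨s, rfl⟩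
    have h1 : (x ^ hh n : S) = x ^ (0 : ℤ) * y := by
      apply hf
      refine congrArg Subtype.val (eT.injective (a₁ := ⟨_, hmem (x ^ hh n)⟩)
        (a₂ := ⟨_, hmem (x ^ (0 : ℤ) * y)⟩) (key _ _ ?_ ?_ ?_ ?_))
      all_goals first
        | (rw [← map_mul, MulEquiv.map_eq_one_iff]; refine Subtype.ext ?_
           show f _ * f _ = 1
           rw [← map_mul]
           first
             | rw [d.z_sq, map_one]
             | rw [d.zpow_y_sq (dvd_zero 2), map_one])
        | (rw [Ne, MulEquiv.map_eq_one_iff]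
           intro h
           have h' : f _ = 1 := congrArg Subtype.val h
           rw [← map_one f] at h'
           first
             | exact d.z_ne_one (hf h')
             | exact d.zpow_y_ne_one 0 (hf h'))
    exact d.zpow_y_ne_zpow 0 _ h1.symm

variable {G : Type u} [Group G] [Finite G] {V : Subgroup G}

/-- The semidihedral case gives `PSL₃(3)` or `M₁₁`. -/
theorem FourPres.sd_recognition [IsSimpleGroup G] (P : FourPres V) {S : Sylow 2 G} {c : G}
    (hVS : V ≤ (S : Subgroup G)) (hcV : c ∈ V) (hc : orderOf c = 2)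
    (hcs : ∀ s ∈ (S : Subgroup G), s * c = c * s)
    (hQ : Cfsg.IsQuasiDihedral (S : Subgroup G)) :
    Nonempty (G ≃* Matrix.ProjectiveSpecialLinearGroup (Fin 3) (ZMod 3)) ∨ Cfsg.Spor.IsoM11 G := by
  classical
  haveI : Fact (Nat.Prime 2) := ⟨Nat.prime_two⟩
  obtain ⟨n, x, y, d⟩ := exists_sdPair hQ
  have hc1 : c ≠ 1 := Small.ne_one_of_orderOf_two hc
  have hn := d.le
  have hScard : Nat.card (S : Subgroup G) = 2 ^ (n + 1) := d.card
  have h16 : 16 ≤ Nat.card (S : Subgroup G) :=
    hScard ▸ (show 2 ^ 4 ≤ 2 ^ (n + 1) from Nat.pow_le_pow_right two_pos (by omega))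
  -- the central involution
  have hzc : ((x ^ hh n : (S : Subgroup G)) : G) = c := by
    set z : (S : Subgroup G) := x ^ hh n
    have hz : ∀ s ∈ (S : Subgroup G), s * (z : G) = z * s := fun s hs =>
      congrArg Subtype.val (mem_center_iff.1 d.z_mem_center ⟨s, hs⟩)
    have hzV : (z : G) ∈ V := P.cent.le (mem_centralizer_iff.2 fun v hv => hz v (hVS hv))
    by_contra hne
    have hsub : (S : Subgroup G) ≤ V := fun s hs => P.mem_of_commute hzV hcV
      (fun h => d.z_ne_one (Subtype.ext h)) hc1 hne (hz s hs) (hcs s hs)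
    have := (card_le_of_le hsub).trans_eq P.card_V
    omega
  obtain ⟨v, hvV, hv1, hvc⟩ := P.exists_other c
  set C := centralizer ({c} : Set G) with hC
  have hSC : (S : Subgroup G) ≤ C := fun s hs => mem_centralizer_singleton_iff.2 (hcs s hs)
  set SC : Sylow 2 C := S.subtype hSC with hSCdef
  set j : (S : Subgroup G) →* C := Subgroup.inclusion hSC with hj
  have hjr : ∀ g : C, g ∈ (SC : Subgroup C) ↔ ∃ s, j s = g := by
    intro g
    refine ⟨fun hg => ⟨⟨g, hg⟩, rfl⟩, ?_⟩
    rintro ⟨s, rfl⟩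
    exact s.2
  set vC : C := j ⟨v, hVS hvV⟩ with hvC
  have hCv : Nat.card (centralizer ({vC} : Set C)) ≤ 4 := by
    rw [← P.card_V]
    refine Nat.card_le_card_of_injective (fun g => ⟨g.1.1, ?_⟩) fun a b hab =>
      Subtype.ext (Subtype.ext (congrArg Subtype.val hab :))
    exact P.mem_of_commute hvV hcV hv1 hc1 hvc
      (congrArg Subtype.val (mem_centralizer_singleton_iff.1 g.2))
      (mem_centralizer_singleton_iff.1 g.1.2)
  -- modulo the odd core
  set O := Cfsg.oddCore C with hO
  set π1 : C →* C ⧸ O := QuotientGroup.mk' O with hπ1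
  have hπ1s : Function.Surjective π1 := QuotientGroup.mk'_surjective O
  set f1 : (S : Subgroup G) →* C ⧸ O := π1.comp j with hf1
  have hf1i : Function.Injective f1 := by
    rw [injective_iff_map_eq_one]
    intro s hs
    have h1 : j s ∈ O := (QuotientGroup.eq_one_iff _).1 hs
    have h2 : j s ∈ (SC : Subgroup C) := (hjr _).2 ⟨s, rfl⟩
    have h3 : j s = 1 := Subgroup.mem_bot.1
      ((CfsgLib.PLocal.disjoint_of_isPGroup_of_coprime (p := 2) SC.isPGroup'
        (CfsgLib.PLocal.coprime_card_pPrimeCore 2 C)).le ⟨h2, h1⟩)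
    exact Subtype.ext (congrArg Subtype.val h3 :)
  set c1 : C ⧸ O := f1 (x ^ hh n) with hc1def
  have hc1o : orderOf c1 = 2 := by rw [hc1def, orderOf_injective f1 hf1i, d.orderOf_z]
  have hc1z : c1 ∈ center (C ⧸ O) := by
    refine mem_center_iff.2 fun g => ?_
    obtain ⟨g, rfl⟩ := hπ1s g
    show π1 g * π1 (j (x ^ hh n)) = π1 (j (x ^ hh n)) * π1 g
    rw [← map_mul, ← map_mul]
    refine congrArg π1 (Subtype.ext ?_)
    show (g : G) * ((x ^ hh n : (S : Subgroup G)) : G) = ((x ^ hh n : (S : Subgroup G)) : G) * g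
    rw [hzc]; exact mem_centralizer_singleton_iff.1 g.2
  have hO1 : Cfsg.oddCore (C ⧸ O) = ⊥ := CfsgLib.PLocal.pPrimeCore_quotient_pPrimeCore_eq_bot 2 C
  haveI hZn : (zpowers c1).Normal := ⟨fun a ha g => by
    obtain ⟨i, rfl⟩ := mem_zpowers_iff.1 ha
    rw [(mem_center_iff.1 (zpow_mem hc1z i) g), mul_inv_cancel_right]
    exact zpow_mem (mem_zpowers c1) i⟩
  set π2 := QuotientGroup.mk' (zpowers c1) with hπ2
  set π : C →* (C ⧸ O) ⧸ zpowers c1 := π2.comp π1 with hπ
  have hπs : Function.Surjective π := (QuotientGroup.mk'_surjective _).comp hπ1s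
  have hO2 : Cfsg.oddCore ((C ⧸ O) ⧸ zpowers c1) = ⊥ :=
    ExtremelyClosed.eq_bot_of_quotient_center hc1o hc1z
      (fun N hN hNo => le_bot_iff.1 (hO1 ▸ ExtremelyClosed.le_oddCore_of_odd hN hNo))
      _ (CfsgLib.Inv54.odd_card_oddCore)
  set f2 : (S : Subgroup G) →* (C ⧸ O) ⧸ zpowers c1 := π.comp j with hf2
  have hf2k : ∀ s, f2 s = 1 → s = 1 ∨ s = x ^ hh n := by
    intro s hs
    have h1 : f1 s ∈ zpowers c1 := (QuotientGroup.eq_one_iff _).1 hs
    obtain ⟨i, hi⟩ := mem_zpowers_iff.1 h1
    have h2 : s = (x ^ hh n) ^ i := hf1i (by rw [map_zpow]; exact hi.symm)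
    rw [h2, ← zpow_mul]
    exact d.zpow_of_hh_dvd (dvd_mul_right _ _)
  have hf2z : f2 (x ^ hh n) = 1 := (QuotientGroup.eq_one_iff _).2 (mem_zpowers c1)
  set Tb : Sylow 2 ((C ⧸ O) ⧸ zpowers c1) := SC.mapSurjective hπs with hTb
  have hTbr : (Tb : Subgroup ((C ⧸ O) ⧸ zpowers c1)) = f2.range := by
    ext q
    rw [hTb, Sylow.coe_mapSurjective, mem_map]
    constructor
    · rintro ⟨g, hg, rfl⟩
      obtain ⟨s, rfl⟩ := (hjr g).1 hg
      exact ⟨s, rfl⟩
    · rintro ⟨s, rfl⟩
      exact ⟨j s, (hjr _).2 ⟨s, rfl⟩, rfl⟩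
  -- two generating involutions
  set a := f2 (x ^ (0 : ℤ) * y) with ha
  set b := f2 (x ^ (1 : ℤ) * y) with hb
  have hao : orderOf a = 2 := Small.orderOf_eq_two_iff_sq.2
    ⟨fun h => (hf2k _ h).elim (d.zpow_y_ne_one 0) (d.zpow_y_ne_zpow 0 _), by
      rw [ha, ← map_mul, d.zpow_y_sq (dvd_zero 2), map_one]⟩
  have hbo : orderOf b = 2 := Small.orderOf_eq_two_iff_sq.2
    ⟨fun h => (hf2k _ h).elim (d.zpow_y_ne_one 1) (d.zpow_y_ne_zpow 1 _), by
      rw [hb, ← map_mul, d.sq_zpow_y_odd (by norm_num), hf2z]⟩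
  have habne : a ≠ b := by
    intro h
    have h1 : f2 ((x ^ (0 : ℤ) * y) * (x ^ (1 : ℤ) * y)) = 1 := by
      rw [map_mul, ← ha, ← hb, ← h]; exact Small.mul_self_of_orderOf_two hao
    have e1 : (x ^ (0 : ℤ) * y) * (x ^ (1 : ℤ) * y) = x ^ (hh n - 1) := by
      rw [zpow_zero, one_mul, ← mul_assoc, d.y_mul, mul_assoc, d.y_mul_y, mul_one, mul_one]
    rw [e1] at h1
    have h4 : (4 : ℤ) ≤ hh n := by
      rw [hh, show (4 : ℤ) = 2 ^ 2 by norm_num]
      exact pow_le_pow_right₀ (by norm_num) (by omega)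
    rcases hf2k _ h1 with h' | h'
    · have := Int.le_of_dvd (by omega) (d.zpow_eq_one.1 h'); omega
    · have := d.zpow_eq.1 h'
      rw [show hh n - (hh n - 1) = 1 by ring] at this
      have := Int.le_of_dvd one_pos this; omega
  have hgen : f2.range = closure ({a, b} : Set _) := by
    refine le_antisymm ?_ ((closure_le _).2 ?_)
    · rw [MonoidHom.range_eq_map, ← d.closure_eq_top, map_le_iff_le_comap, sup_le_iff,
        zpowers_le, zpowers_le, mem_comap, mem_comap]
      have ea : f2 y = a := by rw [ha, zpow_zero, one_mul]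
      have eb : f2 x = b * a := by
        rw [ha, hb, ← map_mul, zpow_zero, one_mul, mul_assoc, d.y_mul_y, mul_one, zpow_one]
      rw [ea, eb]
      exact ⟨mul_mem (subset_closure (by simp)) (subset_closure (by simp)),
        subset_closure (by simp)⟩
    · rintro q (rfl | rfl)
      · exact ⟨_, rfl⟩
      · exact ⟨_, rfl⟩
  have hDih : GW.DihType ((C ⧸ O) ⧸ zpowers c1) := GW.dihType_of_sylow Tb
    ((MulEquiv.subgroupCongr (hTbr.trans hgen)).trans
      (Small.closurePairEquivDihedral hao hbo habne))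
  have hker2 : Nat.card f2.ker = 2 := by
    refine Eq.trans ?_ ((Nat.card_zpowers _).trans d.orderOf_z)
    refine Nat.card_congr (MulEquiv.subgroupCongr (le_antisymm (fun s hs => ?_) ?_)).toEquiv
    · rcases hf2k s hs with rfl | rfl
      · exact one_mem _
      · exact mem_zpowers _
    · exact zpowers_le.2 hf2z
  have hTcard : Nat.card (Tb : Subgroup ((C ⧸ O) ⧸ zpowers c1)) = 2 ^ n := by
    have h := f2.ker.card_mul_index
    rw [Subgroup.index_ker, hker2, hScard, ← hTbr, pow_succ'] at h
    exact Nat.eq_of_mul_eq_mul_left two_pos h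
  have h8 : 8 ∣ Nat.card (Tb : Subgroup ((C ⧸ O) ⧸ zpowers c1)) :=
    hTcard ▸ (show 2 ^ 3 ∣ 2 ^ n from pow_dvd_pow 2 hn)
  have hvb : orderOf (π vC) = 2 := by
    refine Small.orderOf_eq_two_iff_sq.2 ⟨fun h => ?_, ?_⟩
    · rcases hf2k _ h with h' | h'
      · exact hv1 (congrArg Subtype.val h')
      · exact hvc ((congrArg Subtype.val h').trans hzc)
    · rw [← map_mul, show vC * vC = 1 from Subtype.ext (Small.kleinFour_mul_self P.klein hvV),
        map_one]
  have hC1 : Nat.card (centralizer ({π1 vC} : Set (C ⧸ O))) ≤ 4 :=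
    (Inv54.card_centralizer_quotient_le O vC).trans hCv
  have hC2 : Nat.card (centralizer ({π vC} : Set ((C ⧸ O) ⧸ zpowers c1))) ≤ 4 :=
    (Inv54.card_centralizer_quotient_le (zpowers c1) (π1 vC)).trans hC1
  have hcard1 : Nat.card (C ⧸ O) = Nat.card ((C ⧸ O) ⧸ zpowers c1) * 2 := by
    rw [Subgroup.card_eq_card_quotient_mul_card_subgroup (zpowers c1), Nat.card_zpowers, hc1o]
  rcases two_group_or_perm_four hDih hO2 Tb h8 hvb (hTbr ▸ ⟨_, rfl⟩) hC2 with h2g | ⟨⟨e4⟩⟩
  · -- a transfer
    exfalso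
    obtain ⟨k, hk⟩ := IsPGroup.iff_card.1 h2g
    have hp1 : IsPGroup 2 (C ⧸ O) := IsPGroup.of_card (n := k + 1) (by rw [hcard1, hk, pow_succ])
    have htop : ((SC.mapSurjective hπ1s : Sylow 2 (C ⧸ O)) : Subgroup (C ⧸ O)) = ⊤ :=
      (SC.mapSurjective hπ1s).is_maximal' (hp1.of_equiv Subgroup.topEquiv.symm) le_top |>.symm
    have hsurj : ∀ q : C ⧸ O, ∃ s, f1 s = q := by
      intro q
      have hq : q ∈ ((SC.mapSurjective hπ1s : Sylow 2 (C ⧸ O)) : Subgroup (C ⧸ O)) := htop ▸ mem_top q
      rw [Sylow.coe_mapSurjective, mem_map] at hq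
      obtain ⟨g, hg, rfl⟩ := hq
      obtain ⟨s, rfl⟩ := (hjr g).1 hg
      exact ⟨s, rfl⟩
    set M : Subgroup G := (d.maxSub 0).map (S : Subgroup G).subtype with hM
    have hMS : M ≤ (S : Subgroup G) := map_subtype_le _
    have hMi : M.relIndex (S : Subgroup G) = 2 := by
      show (M.subgroupOf (S : Subgroup G)).index = 2
      rw [hM, subgroupOf, comap_map_eq_self_of_injective (S : Subgroup G).subtype_injective]
      exact d.index_maxSub 0
    have hord : ∀ s ∈ (S : Subgroup G), s ∉ M → 2 ^ (2 - 1) < orderOf s := by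
      intro s hs hsM
      have hnm : (⟨s, hs⟩ : (S : Subgroup G)) ∉ d.maxSub 0 := fun h => hsM ⟨_, h, rfl⟩
      have hpos := orderOf_pos s
      by_contra hle
      rw [show 2 ^ (2 - 1) = 2 from rfl, not_lt] at hle
      have h12 : orderOf s = 1 ∨ orderOf s = 2 := by omega
      rcases h12 with h | h
      · exact hsM (by rw [orderOf_eq_one_iff.1 h]; exact one_mem _)
      · rcases d.orderOf_eq_two_iff.1
          (show orderOf (⟨s, hs⟩ : (S : Subgroup G)) = 2 by rw [Subgroup.orderOf_mk]; exact h) with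
          h' | ⟨i, hi, h'⟩
        · exact hnm (h' ▸ d.zpow_mem_maxSub.2 ⟨qq n, d.hh_eq⟩)
        · exact hnm (h' ▸ d.zpow_y_mem_maxSub.2 (by simpa using hi))
    set x4 : (S : Subgroup G) := x ^ (1 : ℤ) * y with hx4
    have hx4o : orderOf (x4 : G) = 2 ^ 2 := by
      rw [Subgroup.orderOf_coe, hx4, d.orderOf_zpow_y_odd (by norm_num)]; rfl
    have hno : ∀ g : G, g * x4 * g⁻¹ ∉ M := by
      rintro g ⟨m, hm, hmg⟩
      have hmo : orderOf m = 4 := by
        rw [← Subgroup.orderOf_coe, show (m : G) = g * x4 * g⁻¹ from hmg, Small.orderOf_conj_eq,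
          hx4o]
        rfl
      have hm2 : m * m = x ^ hh n := by
        rcases d.orderOf_eq_four_iff.1 hmo with h | h | ⟨i, hi, h⟩
        · rw [h, ← zpow_add, d.hh_eq]; congr 1; ring
        · rw [h, ← zpow_add, d.zpow_eq, d.hh_eq]; exact ⟨1, by ring⟩
        · rw [h] at hm
          exact absurd (by simpa using d.zpow_y_mem_maxSub.1 hm) hi
      have hx2 : x4 * x4 = x ^ hh n := d.sq_zpow_y_odd (by norm_num)
      have hgc : g * c * g⁻¹ = c := by
        rw [← hzc]
        nth_rewrite 1 [← hx2]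
        rw [← hm2]
        simp only [Subgroup.coe_mul]
        rw [show (m : G) = g * x4 * g⁻¹ from hmg, show (x4 : G) = ((x ^ (1 : ℤ) : (S : Subgroup G)) : G) * y from rfl]
        group
      set gC : C := ⟨g, mem_centralizer_singleton_iff.2 (mul_inv_eq_iff_eq_mul.1 hgc)⟩
      obtain ⟨s, hs⟩ := hsurj (π1 gC)
      have hconj : s * x4 * s⁻¹ = m := by
        apply hf1i
        rw [map_mul, map_mul, map_inv, hs]
        show π1 gC * π1 (j x4) * (π1 gC)⁻¹ = π1 (j m)
        rw [← map_inv, ← map_mul, ← map_mul]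
        exact congrArg π1 (Subtype.ext hmg.symm)
      haveI hn2 : (d.maxSub 0).Normal := normal_of_index_eq_two (d.index_maxSub 0)
      have hx4M := hn2.conj_mem m hm s⁻¹
      rw [← hconj, show s⁻¹ * (s * x4 * s⁻¹) * s⁻¹⁻¹ = x4 by group] at hx4M
      exact absurd (d.zpow_y_mem_maxSub.1 hx4M) (by norm_num)
    obtain ⟨K, hKn, hK2, -⟩ :=
      Inv53.exists_index_two_notMem S M hMS hMi (n := 2) (by norm_num) hord hx4o hno
    rcases IsSimpleGroup.eq_bot_or_eq_top_of_normal K hKn with h | h
    · rw [h, index_bot] at hK2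
      have := Nat.le_of_dvd Nat.card_pos P.big
      omega
    · rw [h, index_top] at hK2; omega
  · -- the group `GL(2, 3)`
    have hn3 : n = 3 := by
      have h := (card_subgroup_dvd_card (Tb : Subgroup ((C ⧸ O) ⧸ zpowers c1)))
      rw [hTcard, Nat.card_congr e4.toEquiv, Nat.card_perm, Nat.card_fin] at h
      by_contra hne
      have h2 := (pow_dvd_pow 2 (show 4 ≤ n by omega)).trans h
      norm_num [Nat.factorial] at h2
    obtain ⟨eG⟩ := nonempty_equiv_gl23 d f1 hf1i hc1o hc1z rfl
      (e4.toMonoidHom.comp π2) (e4.surjective.comp (QuotientGroup.mk'_surjective _))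
      (by
        ext q
        rw [MonoidHom.mem_ker, MonoidHom.comp_apply, MulEquiv.coe_toMonoidHom,
          MulEquiv.map_eq_one_iff]
        exact QuotientGroup.eq_one_iff q) (by rw [hScard, hn3]; rfl)
    set p : C →* GLTT := eG.toMonoidHom.comp π1 with hp
    have hpk : p.ker = O := by
      ext q
      rw [hp, MonoidHom.mem_ker, MonoidHom.comp_apply, MulEquiv.coe_toMonoidHom,
        MulEquiv.map_eq_one_iff]
      exact QuotientGroup.eq_one_iff q
    have hv2 : vC * vC = 1 := Subtype.ext (Small.kleinFour_mul_self P.klein hvV)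
    let D : SDPres c :=
      { π := p
        surj := eG.surjective.comp hπ1s
        odd_ker := hpk ▸ CfsgLib.Inv54.odd_card_oddCore
        ord_z := hc
        y := vC
        y_sq := hv2
        y_det := by
          have hinv : IsInv3 (toM3 (p vC)) := by
            refine ⟨by rw [← toM3_mul, ← map_mul, hv2, map_one, toM3_one], fun h => ?_⟩
            rw [← toM3_one] at h
            have h1 := toM3_injective h
            rw [hp, MonoidHom.comp_apply, ← map_one eG.toMonoidHom] at h1
            have h2 : f1 ⟨v, hVS hvV⟩ = f1 1 := by rw [map_one]; exact eG.injective h1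
            exact hv1 (congrArg Subtype.val (hf1i h2))
          refine det3_refl _ (toM3_mem _) hinv fun h => ?_
          have hcen : ∀ q, π1 vC * q = q * π1 vC := fun q => by
            apply eG.injective
            apply toM3_injective
            rw [map_mul, map_mul, toM3_mul, toM3_mul]
            change mul3 (toM3 (p vC)) _ = mul3 _ (toM3 (p vC))
            rw [h]
            exact (mul3_m1 _ (toM3_mem _)).symm
          have hle : Nat.card (C ⧸ O) ≤ 4 := by
            refine le_trans (le_of_eq ?_) hC1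
            rw [show centralizer ({π1 vC} : Set (C ⧸ O)) = ⊤ from
              (eq_top_iff' _).2 fun q => mem_centralizer_singleton_iff.2 (hcen q).symm, card_top]
          have := Nat.le_of_dvd Nat.card_pos (card_subgroup_dvd_card f1.range)
          rw [Nat.card_congr (MonoidHom.ofInjective hf1i).toEquiv.symm] at this
          omega
        y_inv := by
          intro o ho
          rw [hpk] at ho
          refine LargeExtraspecial.conj_eq_inv_of_fixedPointFree
            (by rw [hvC, orderOf_injective j (Subgroup.inclusion_injective hSC),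
              Subgroup.orderOf_mk]; exact P.orderOf_mem hvV hv1)
            (by rw [normalizer_eq_top_iff.2 inferInstance]; trivial) ?_ ho
          intro k hk hkv
          have hkV : (k : G) ∈ V := P.mem_of_commute hvV hcV hv1 hc1 hvc
            (congrArg Subtype.val hkv) (mem_centralizer_singleton_iff.1 k.2)
          have h2 : k * k = 1 := Subtype.ext (Small.kleinFour_mul_self P.klein hkV)
          by_contra hk1
          have ho2 : orderOf k = 2 := Small.orderOf_eq_two_iff_sq.2 ⟨hk1, h2⟩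
          have hd := (O : Subgroup C).orderOf_dvd_natCard hk
          rw [ho2] at hd
          exact (CfsgLib.Inv54.odd_card_oddCore (G := C)).not_two_dvd_nat hd }
    haveI := Fintype.ofFinite G
    exact D.recognition

end CfsgLib.SuborbitThree
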