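import Cfsg.Agent.SuborbitThree.EightLocal
import Cfsg.Agent.SuborbitThree.SD
import Cfsg.Agent.SuborbitThree.PSLFour
import Cfsg.Agent.GW.Classification
import Cfsg.Agent.S2060

/-!
# Suborbits of length three: stabilizer `S₄ × 2`
-/

set_option autoImplicit false
set_option linter.style.haveILetI false
set_option linter.unusedSectionVars false

open Subgroup Matrix
open scoped MatrixGroups

namespace CfsgLib.SuborbitThree

universe u

theorem congr_conj {A B : Type*} [Group A] [Group B] (ε : A ≃* B) (a : A) :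
    MulAut.congr ε (MulAut.conj a) = MulAut.conj (ε a) := by
  ext b
  simp [MulAut.congr]

variable {G : Type u} [Group G] [Finite G] {H : Subgroup G}

/-- The stabilizer `S₄ × 2` gives an extension of `PSL₃(3)`. -/
theorem case_eight (S : Stab H)
    (hH : Nonempty (H ≃* Equiv.Perm (Fin 4) × Multiplicative (ZMod 2))) :
    ∃ N : Subgroup G, N.Normal ∧ N.index = 2 ∧ centralizer (N : Set G) = ⊥ ∧
      Nonempty (N ≃* ProjectiveSpecialLinearGroup (Fin 3) (ZMod 3)) := by
  classical
  haveI : Fact (Nat.Prime 2) := ⟨Nat.prime_two⟩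
  obtain ⟨z, V, E, P⟩ := S.exists_eightPres hH
  obtain ⟨h32, K, hKn, hK2, hzK⟩ := P.exists_index_two S
  haveI := hKn
  have hz2 := Small.mul_self_of_orderOf_two P.ord_z
  have hzH : z ∈ H := P.E_le P.z_mem
  have hVH : V ≤ H := P.V_le.trans P.E_le
  have hVK : V ≤ K := by
    intro v hv
    obtain ⟨h, -, rfl⟩ := P.roots v hv
    exact mul_self_mem_of_index_two hK2 h
  have hout : ∀ q : G, q ∉ K → z * q ∈ K := fun q hq =>
    (mul_mem_iff_of_index_two hK2).2 ⟨fun h => absurd h hzK, fun h => absurd h hq⟩
  -- the local data inside `K`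
  set V0 := V.subgroupOf K with hV0
  have hV0k : IsKleinFour V0 := isKleinFour_congr P.klein (subgroupOfEquivOfLe hVK).symm
  have hidxV : (V.subgroupOf E).index = 2 := by
    have h1 := (V.subgroupOf E).card_mul_index
    rw [Nat.card_congr (subgroupOfEquivOfLe P.V_le).toEquiv, P.klein.card_four, P.card_E] at h1
    omega
  have hcent0 : centralizer (V0 : Set K) = V0 := by
    refine le_antisymm (fun x hx => ?_) (fun x hx => mem_centralizer_iff.2 fun y hy =>
      Small.kleinFour_comm hV0k hy hx)
    have hxE : (x : G) ∈ E := by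
      rw [← P.cent_V]
      exact mem_centralizer_iff.2 fun v hv =>
        congrArg Subtype.val (mem_centralizer_iff.1 hx ⟨v, hVK hv⟩ hv)
    by_contra hxV
    have h1 := mul_mem_iff_of_index_two hidxV (a := ⟨z, P.z_mem⟩) (b := ⟨x, hxE⟩)
    rw [mem_subgroupOf, mem_subgroupOf, mem_subgroupOf] at h1
    have h2 := hVK (h1.2 ⟨fun h => absurd h P.z_notMem, fun h => absurd h hxV⟩)
    exact hzK ((K.mul_mem_cancel_right x.2).1 h2)
  have hnorm0 : normalizer (V0 : Set K) = H.subgroupOf K := by
    ext x
    rw [mem_subgroupOf, ← P.norm_V, mem_normalizer_iff, mem_normalizer_iff]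
    refine ⟨fun h w => ⟨fun hw => ?_, fun hw => ?_⟩, fun h w => h w⟩
    · exact (h ⟨w, hVK hw⟩).1 hw
    · have hwK : w ∈ K := by
        have := K.mul_mem (K.mul_mem (K.inv_mem x.2) (hVK hw)) x.2
        simpa [mul_assoc] using this
      exact (h ⟨w, hwK⟩).2 hw
  have hc24 : Nat.card (H.subgroupOf K) = 24 := by
    have e1 : Nat.card (H.subgroupOf K) = Nat.card (K.subgroupOf H) :=
      Nat.card_congr
        { toFun := fun x => ⟨⟨x.1.1, x.2⟩, x.1.2⟩
          invFun := fun x => ⟨⟨x.1.1, x.2⟩, x.1.2⟩
          left_inv := fun _ => rfl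
          right_inv := fun _ => rfl }
    have hidx : (K.subgroupOf H).index = 2 := by
      refine index_eq_two_iff.2 ⟨⟨z, hzH⟩, fun b => ?_⟩
      simp only [mem_subgroupOf, Subgroup.coe_mul]
      by_cases hb : (b : G) ∈ K
      · exact Or.inr ⟨hb, fun h => hzK ((K.mul_mem_cancel_left hb).1 h)⟩
      · exact Or.inl ⟨(mul_mem_iff_of_index_two hK2).2
          ⟨fun h => absurd h hb, fun h => absurd h hzK⟩, hb⟩
    have h1 := (K.subgroupOf H).card_mul_index
    rw [hidx, P.card_H] at h1
    omega
  have h16 : 16 ∣ Nat.card K := by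
    have h1 := K.card_mul_index
    rw [hK2] at h1
    refine Nat.dvd_of_mul_dvd_mul_left two_pos ?_
    rw [mul_comm 2 (Nat.card K), h1]
    exact h32
  have P0 : FourPres V0 := ⟨hV0k, hcent0, by rw [hnorm0, hc24], h16⟩
  -- normal subgroups of `G` inside `K`
  have hall : ∀ X : Subgroup G, X.Normal → X ≤ K → X ≠ ⊥ → X = K := by
    intro X hX hXK hne
    haveI := hX
    have h1 : X.subgroupOf K = ⊤ := by
      refine P0.eq_top_of_sup (hX.subgroupOf K) ?_
      rw [hnorm0, eq_top_iff]
      intro k _
      obtain ⟨m, hm, h, hh, hk⟩ := S.exists_mul hX hne (k : G)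
      have hhK : h ∈ K := by
        have := K.mul_mem (K.inv_mem (hXK hm)) k.2
        rwa [hk, inv_mul_cancel_left] at this
      have hk' : k = ⟨m, hXK hm⟩ * ⟨h, hhK⟩ := Subtype.ext hk
      rw [hk']
      exact mul_mem (mem_sup_left hm) (mem_sup_right hh)
    exact le_antisymm hXK (subgroupOf_eq_top.1 h1)
  haveI : Nontrivial K := Finite.one_lt_card_iff_nontrivial.1
    (lt_of_lt_of_le (by norm_num) (Nat.le_of_dvd Nat.card_pos h16))
  haveI hsimple : IsSimpleGroup K := by
    refine ⟨fun N hN => (em (N = ⊥)).imp_right fun hne => ?_⟩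
    haveI := hN
    set N1 := N.map K.subtype with hN1
    set N2 := N1.map (MulAut.conj z).toMonoidHom with hN2
    have hN1K : N1 ≤ K := map_subtype_le N
    have hN2K : N2 ≤ K := by
      rintro _ ⟨x, hx, rfl⟩
      exact hKn.conj_mem x (hN1K hx) z
    have hswap : N2.map (MulAut.conj z).toMonoidHom = N1 := by
      rw [hN2, map_conj_map, hz2, map_conj_one]
    have hKN1 : ∀ k ∈ K, N1.map (MulAut.conj k).toMonoidHom = N1 := by
      intro k hk
      refine eq_of_le_of_card_ge ?_ (card_map_of_injective (MulAut.conj k).injective).ge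
      rintro _ ⟨_, ⟨x, hx, rfl⟩, rfl⟩
      exact ⟨⟨k, hk⟩ * x * ⟨k, hk⟩⁻¹, hN.conj_mem x hx ⟨k, hk⟩, rfl⟩
    have hKN2 : ∀ k ∈ K, N2.map (MulAut.conj k).toMonoidHom = N2 := by
      intro k hk
      rw [hN2, map_conj_map]
      conv_rhs => rw [← hKN1 (z⁻¹ * k * z) (by simpa using hKn.conj_mem k hk z⁻¹), map_conj_map]
      congr 1
      simp [mul_assoc]
    have hnormal : ∀ X : Subgroup G, (∀ k ∈ K, X.map (MulAut.conj k).toMonoidHom = X) →
        X.map (MulAut.conj z).toMonoidHom = X → X.Normal := by
      intro X hk hz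
      refine normalizer_eq_top_iff.1 (eq_top_iff.2 fun q _ => ?_)
      by_cases hq : q ∈ K
      · exact mem_norm_iff.2 (hk q hq)
      · have := mul_mem (inv_mem (mem_norm_iff.2 hz)) (mem_norm_iff.2 (hk _ (hout q hq)))
        rwa [inv_mul_cancel_left] at this
    have hI : (N1 ⊓ N2).Normal := hnormal _
      (fun k hk => by rw [Subgroup.map_inf _ _ _ (MulAut.conj k).injective, hKN1 k hk, hKN2 k hk])
      (by rw [Subgroup.map_inf _ _ _ (MulAut.conj z).injective, ← hN2, hswap, inf_comm])
    by_cases hIb : N1 ⊓ N2 = ⊥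
    · exfalso
      have hJ : N1 ⊔ N2 = K := by
        refine hall _ (hnormal _ (fun k hk => by rw [Subgroup.map_sup, hKN1 k hk, hKN2 k hk])
          (by rw [Subgroup.map_sup, ← hN2, hswap, sup_comm])) (sup_le hN1K hN2K) fun h => hne ?_
        have h1 : N1 = ⊥ := le_bot_iff.1 (h ▸ le_sup_left)
        exact Subgroup.map_injective K.subtype_injective (by rw [Subgroup.map_bot]; exact h1)
      set M := N2.subgroupOf K with hM
      haveI hMn : M.Normal := by
        refine normal_subgroupOf_of_le_normalizer fun k hk => mem_norm_iff.2 (hKN2 k hk)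
      have hMc : Nat.card M = Nat.card N := by
        rw [hM, Nat.card_congr (subgroupOfEquivOfLe hN2K).toEquiv, hN2,
          card_map_of_injective (MulAut.conj z).injective, hN1,
          card_map_of_injective K.subtype_injective]
      have hdisj : N ⊓ M = ⊥ := by
        refine (eq_bot_iff_forall _).2 fun x hx => ?_
        have h1 : (x : G) ∈ N1 ⊓ N2 := ⟨mem_map_of_mem _ hx.1, hx.2⟩
        rw [hIb, mem_bot] at h1
        exact Subtype.ext h1
      have hNM : N ⊔ M = ⊤ := by
        refine Subgroup.map_injective K.subtype_injective ?_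
        rw [Subgroup.map_sup, ← hN1, hM, map_subgroupOf_eq_of_le hN2K, hJ, ← MonoidHom.range_eq_map,
          K.range_subtype]
      have hcd : Nat.card K ∣ Nat.card N * Nat.card M := by
        rw [← N.card_mul_index]
        refine Nat.mul_dvd_mul_left _ ?_
        rw [← relIndex_top_right, ← hNM, relIndex_sup_left]
        exact index_dvd_card _
      have heven : 2 ∣ Nat.card N := by
        by_contra hodd
        have h2 : 2 ∣ Nat.card N * Nat.card N := by
          rw [hMc] at hcd
          exact (dvd_trans (by norm_num) h16).trans hcd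
        exact hodd ((Nat.prime_two.dvd_mul.1 h2).elim id id)
      obtain ⟨T, hVT⟩ := P0.isPGroup.exists_le_sylow
      have h16T : 2 ^ 4 ∣ Nat.card (T : Subgroup K) := T.pow_dvd_card_of_pow_dvd_card h16
      haveI : Nontrivial (T : Subgroup K) := Finite.one_lt_card_iff_nontrivial.1
        (lt_of_lt_of_le (by norm_num) (Nat.le_of_dvd Nat.card_pos h16T))
      have hcentral : ∀ X : Subgroup K, X.Normal → 2 ∣ Nat.card X →
          ∃ c ∈ X, c ≠ 1 ∧ c ∈ V0 ∧ ∀ t ∈ (T : Subgroup K), t * c = c * t := by
        intro X hX hX2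
        haveI := hX
        have hXT : X.subgroupOf (T : Subgroup K) ≠ ⊥ := by
          intro h
          obtain ⟨w, hw⟩ := exists_prime_orderOf_dvd_card' (G := X) 2 hX2
          obtain ⟨T', hT'⟩ := (IsPGroup.of_card (n := 1) (p := 2) (G := zpowers (w : K)) (by
            rw [Nat.card_zpowers, Subgroup.orderOf_coe, hw, pow_one])).exists_le_sylow
          obtain ⟨g, hg⟩ := MulAction.exists_smul_eq K T' T
          have hmem : g * (w : K) * g⁻¹ ∈ (T : Subgroup K) := by
            rw [← hg, Sylow.coe_subgroup_smul]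
            exact ⟨w, hT' (mem_zpowers _), rfl⟩
          have h1 : (⟨_, hmem⟩ : (T : Subgroup K)) ∈ X.subgroupOf (T : Subgroup K) :=
            hX.conj_mem _ w.2 g
          rw [h, mem_bot] at h1
          have h2 : g * (w : K) * g⁻¹ = 1 := congrArg Subtype.val h1
          rw [mul_inv_eq_one, mul_eq_left] at h2
          have hw1 : w = 1 := Subtype.ext h2
          rw [hw1, orderOf_one] at hw
          omega
        obtain ⟨c, hcX, hcc, hc2⟩ := Small.exists_central_invol_mem T.isPGroup'
          (X.subgroupOf (T : Subgroup K)) hXT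
        have hct : ∀ t ∈ (T : Subgroup K), t * (c : K) = c * t := fun t ht =>
          congrArg Subtype.val (mem_center_iff.1 hcc ⟨t, ht⟩)
        refine ⟨c, hcX, fun h => Small.ne_one_of_orderOf_two hc2 (Subtype.ext h), ?_, hct⟩
        exact hcent0.le (mem_centralizer_iff.2 fun v hv => hct v (hVT hv))
      obtain ⟨c1, hc1N, hc1, hc1V, hc1t⟩ := hcentral N hN heven
      obtain ⟨c2, hc2M, hc2, hc2V, hc2t⟩ := hcentral M hMn (hMc ▸ heven)
      have hne12 : c1 ≠ c2 := fun h => hc1 (by
        have h1 : c1 ∈ N ⊓ M := ⟨hc1N, h ▸ hc2M⟩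
        rwa [hdisj, mem_bot] at h1)
      have hTV : (T : Subgroup K) ≤ V0 := fun t ht =>
        P0.mem_of_commute hc1V hc2V hc1 hc2 hne12 (hc1t t ht) (hc2t t ht)
      have h4 := h16T.trans (card_dvd_of_le hTV)
      rw [P0.card_V] at h4
      norm_num at h4
    · have h1 : K ≤ N1 := (hall _ hI (inf_le_left.trans hN1K) hIb).ge.trans inf_le_left
      refine eq_top_iff.2 fun x _ => ?_
      obtain ⟨y, hy, hyx⟩ := h1 x.2
      exact (K.subtype_injective hyx) ▸ hy
  -- the centralizer of `K`
  have hCK : centralizer (K : Set G) = ⊥ := by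
    by_contra hne
    have hinf : K ⊓ centralizer (K : Set G) = ⊥ := by
      by_contra h
      have h1 := hall _ inferInstance inf_le_left h
      have h2 : (⊤ : Subgroup K) ≤ V0 := fun x _ => by
        rw [← hcent0]
        exact mem_centralizer_iff.2 fun v _ =>
          Subtype.ext (mem_centralizer_iff.1 (h1.ge x.2).2 v v.2)
      have h3 := card_dvd_of_le h2
      rw [card_top, P0.card_V] at h3
      exact absurd (h16.trans h3) (by norm_num)
    refine S.not_solvable_normal inferInstance hne ?_
    set C := centralizer (K : Set G) with hC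
    have hinj : Function.Injective ((QuotientGroup.mk' K).comp C.subtype) := by
      refine (injective_iff_map_eq_one _).2 fun x hx => ?_
      have h1 : (x : G) ∈ K ⊓ C := ⟨(QuotientGroup.eq_one_iff (x : G)).1 hx, x.2⟩
      rw [hinf, mem_bot] at h1
      exact Subtype.ext h1
    haveI : IsCyclic (G ⧸ K) := isCyclic_of_prime_card (p := 2) (by
      rw [← Subgroup.index_eq_card]; exact hK2)
    exact Group.isSolvable_of_comm fun a b => hinj (by
      simp only [map_mul]; exact IsCyclic.isMulCommutative.is_comm.comm _ _)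
  -- the automorphism induced by `z`
  set α : MulAut K := MulAut.conjNormal z with hα
  have hα2 : α * α = 1 := by rw [hα, ← map_mul, hz2, map_one]
  have hαfix : ∀ v ∈ V0, α v = v := fun v hv => Subtype.ext (by
    rw [hα, MulAut.conjNormal_apply]
    have h1 := mem_centralizer_singleton_iff.1 (P.cent_z.ge (hVH hv))
    exact mul_inv_eq_iff_eq_mul.2 h1.symm)
  have hnotinner : ∀ k : K, α ≠ MulAut.conj k := by
    intro k hk
    have h1 : (k : G)⁻¹ * z ∈ centralizer (K : Set G) := by
      refine mem_centralizer_iff.2 fun x hx => ?_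
      have h2 := congrArg Subtype.val (DFunLike.congr_fun hk ⟨x, hx⟩)
      have h3 : z * x * z⁻¹ = (k : G) * x * (k : G)⁻¹ := by simpa [hα] using h2
      calc x * ((k : G)⁻¹ * z) = (k : G)⁻¹ * ((k : G) * x * (k : G)⁻¹) * z := by group
        _ = (k : G)⁻¹ * (z * x * z⁻¹) * z := by rw [h3]
        _ = (k : G)⁻¹ * z * x := by group
    rw [hCK, mem_bot, inv_mul_eq_one] at h1
    exact hzK (h1 ▸ k.2)
  obtain ⟨T, c, hVT, hcV, hc2, hcs, h16T, hT⟩ := P0.exists_sylow
  rcases hT with ⟨n, hn⟩ | hQ
  · exfalso
    have hn2 : 2 ≤ n := by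
      obtain ⟨δ⟩ := hn
      rw [Nat.card_congr δ.toEquiv, DihedralGroup.nat_card] at h16T
      rcases n with _ | _ | n
      · haveI : Finite (DihedralGroup 0) := Finite.of_equiv _ δ.toEquiv
        exact absurd (DihedralGroup.nat_card (n := 0)) (by
          rw [mul_zero]; exact Nat.card_pos.ne')
      · norm_num at h16T
      · omega
    rcases GW.simple_dihedral T n hn2 hn with ⟨F, _, _, hodd, -, ⟨ε⟩⟩ | ⟨⟨ε⟩⟩
    · set V' := V0.map ε.toMonoidHom with hV'
      have hV'k : IsKleinFour V' := isKleinFour_congr hV0k (V0.equivMapOfInjective _ ε.injective)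
      set α' := MulAut.congr ε α with hα'
      have hα'2 : α' * α' = 1 := by rw [hα', ← map_mul, hα2, map_one]
      have hα'fix : ∀ v ∈ V', α' v = v := by
        rintro _ ⟨v, hv, rfl⟩
        simp [hα', MulAut.congr, hαfix v hv]
      rcases inner_or_subfield hodd hV'k α' hα'2 hα'fix with ⟨_, ⟨w, -, rfl⟩, hw⟩ | ⟨q0, X, hq, hX, hXfix⟩
      · exact hnotinner w ((MulAut.congr ε).injective (hw.trans (congr_conj ε w).symm))
      · have hX0 : X.comap ε.toMonoidHom ≤ H.subgroupOf K := by
          intro x hx
          have h1 := hXfix _ hx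
          have h2 : α x = x := by
            refine ε.injective ?_
            simpa [hα', MulAut.congr] using h1
          refine mem_subgroupOf.2 (P.cent_z.le (mem_centralizer_singleton_iff.2 ?_))
          have h3 : z * (x : G) * z⁻¹ = x := by
            have := congrArg Subtype.val h2
            rwa [hα, MulAut.conjNormal_apply] at this
          exact (mul_inv_eq_iff_eq_mul.1 h3).symm
        have hXd : Nat.card X ∣ 24 := by
          rw [← hc24, ← map_comap_eq_self_of_surjective (f := ε.toMonoidHom) ε.surjective X,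
            card_map_of_injective ε.injective]
          exact card_dvd_of_le hX0
        have hle := Nat.le_of_dvd (by norm_num) hXd
        have hq3 : q0 = 3 := by
          have h2 : 2 ≤ q0 := by
            by_contra h
            have hpos := Nat.card_pos (α := X)
            interval_cases q0 <;> omega
          have h4 : q0 < 4 := by
            by_contra h
            have : 4 * 3 * 5 ≤ q0 * (q0 - 1) * (q0 + 1) :=
              Nat.mul_le_mul (Nat.mul_le_mul (by omega) (by omega)) (by omega)
            omega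
          interval_cases q0
          · rw [hq] at hodd; revert hodd; decide
          · rfl
        have hF : Fintype.card F = 9 := by rw [hq, hq3]; rfl
        have h9 := DicksonPSL2.card_PSL_formula (K := F)
        rw [hF, ← Nat.card_congr ε.toEquiv, show Nat.gcd 2 (9 - 1) = 2 from rfl] at h9
        omega
    · rw [Nat.card_congr ε.toEquiv, nat_card_alternatingGroup, Nat.card_fin] at h16
      norm_num [Nat.factorial] at h16
  · rcases P0.sd_recognition hVT hcV hc2 hcs hQ with h | ⟨⟨ε⟩⟩
    · exact ⟨K, hKn, hK2, hCK, h⟩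
    · exfalso
      have hbot : Cfsg.Inn (Cfsg.Spor.M11) = ⊤ := by
        refine Subgroup.index_eq_one.1 ?_
        rw [Subgroup.index_eq_card]
        exact Cfsg.Agent.S2060.result
      obtain ⟨m, hm⟩ : MulAut.congr ε α ∈ Cfsg.Inn (Cfsg.Spor.M11) := by rw [hbot]; trivial
      refine hnotinner (ε.symm m) ((MulAut.congr ε).injective ?_)
      rw [congr_conj, MulEquiv.apply_symm_apply]
      exact hm.symm

end CfsgLib.SuborbitThree
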