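import Cfsg.Agent.SuborbitThree.Four
import Cfsg.Agent.TwoGroups.SemidihedralSubgroups
import Cfsg.Agent.Mathieu.SmallOrders
import Cfsg.Agent.S0420
import Cfsg.Agent.S0388
import Cfsg.Agent.S1602

/-!
# In `M₁₁` the normalizer of a four-group is not maximal
-/

set_option autoImplicit false
set_option linter.style.haveILetI false
set_option linter.unusedSectionVars false

open Subgroup
open scoped Pointwise

namespace CfsgLib.SuborbitThree

universe u

/-- A dodecad, one of its points and two points outside. -/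
theorem exists_pair_config : ∃ d : Finset Cfsg.GolayPt, d ∈ Cfsg.dodecads ∧ ∃ p ∈ d,
    ∃ q q', q ∉ d ∧ q' ∉ d ∧ q ≠ q' := by
  classical
  have hd := Mathieu.squareDodecad_mem
  have h12 : Cfsg.Spor.squareDodecad.card = 12 := hd.2
  obtain ⟨p, hp⟩ := Finset.card_pos.1 (show 0 < Cfsg.Spor.squareDodecad.card by omega)
  have hc : 1 < (Cfsg.Spor.squareDodecadᶜ).card := by
    rw [Finset.card_compl, h12]
    decide
  obtain ⟨q, hq, q', hq', hne⟩ := Finset.one_lt_card.1 hc
  exact ⟨_, hd, p, hp, q, q', Finset.mem_compl.1 hq, Finset.mem_compl.1 hq', hne⟩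

/-- The four-group of double transpositions on the first four points. -/
def fourFive : Subgroup (Equiv.Perm (Fin 5)) where
  carrier := {σ | σ * σ = 1 ∧ Equiv.Perm.sign σ = 1 ∧ σ 4 = 4}
  one_mem' := by simp
  mul_mem' := by
    intro a b
    revert a b
    simp only [Set.mem_ofPred_eq]
    decide +kernel
  inv_mem' := by
    intro a
    revert a
    simp only [Set.mem_ofPred_eq]
    decide +kernel

theorem mem_fourFive {σ : Equiv.Perm (Fin 5)} :
    σ ∈ fourFive ↔ σ * σ = 1 ∧ Equiv.Perm.sign σ = 1 ∧ σ 4 = 4 := Iff.rfl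

instance : DecidablePred (· ∈ fourFive) := fun _ => decidable_of_iff _ mem_fourFive.symm

theorem fourFive_facts : Nat.card fourFive = 4 ∧ ∀ s k : Equiv.Perm (Fin 5), s 4 = 4 →
    k ∈ fourFive → s * k * s⁻¹ ∈ fourFive := by
  refine ⟨?_, by decide +kernel⟩
  rw [Nat.card_eq_fintype_card]
  decide +kernel

theorem isKleinFour_congr {A B : Type*} [Group A] [Group B] (hA : IsKleinFour A) (e : A ≃* B) :
    IsKleinFour B :=
  ⟨(Nat.card_congr e.symm.toEquiv).trans hA.card_four,
    (Monoid.exponent_eq_of_mulEquiv e).symm.trans hA.exponent_two⟩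

variable {G : Type u} [Group G] [Finite G] {V : Subgroup G}

/-- If `G ≅ M₁₁` then the normalizer of the self-centralizing four-group is not maximal. -/
theorem FourPres.not_isCoatom_of_M11 (P : FourPres V) (hG : Cfsg.Spor.IsoM11 G)
    {S : Sylow 2 G} (hVS : V ≤ (S : Subgroup G)) (hQ : Cfsg.IsQuasiDihedral (S : Subgroup G)) :
    ¬ IsCoatom (normalizer (V : Set G)) := by
  classical
  haveI : Fact (Nat.Prime 2) := ⟨Nat.prime_two⟩
  intro hco
  obtain ⟨e⟩ := hG
  have hcard : Nat.card G = 7920 := by rw [Nat.card_congr e.toEquiv, Mathieu.card_SporM11]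
  obtain ⟨d, hd, p, hp, q, q', hq, hq', hne⟩ := exists_pair_config
  have hsimple : IsSimpleGroup G := by
    haveI := Cfsg.Agent.S0388.result d hd p hp
    obtain ⟨f⟩ := Mathieu.nonempty_dodecadPointStabilizer_equiv hd hp
    haveI : Nontrivial G := Finite.one_lt_card_iff_nontrivial.1 (by omega)
    exact IsSimpleGroup.isSimpleGroup_of_surjective (e.trans f).symm.toMonoidHom (e.trans f).symm.surjective
  obtain ⟨f⟩ := Cfsg.Agent.S0420.result (G := G) ⟨hsimple, hcard⟩ d hd p hp
  obtain ⟨g5⟩ := Cfsg.Agent.S1602.result d hd p q q' hp hq hq' hne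
  set ι : Equiv.Perm (Fin 5) →* G :=
    f.symm.toMonoidHom.comp ((Subgroup.inclusion (inf_le_left (a := MulAction.stabilizer Cfsg.M24 d ⊓ MulAction.stabilizer Cfsg.M24 p))).comp g5.symm.toMonoidHom) with hι
  have hι' : Function.Injective ι := f.symm.injective.comp
    ((Subgroup.inclusion_injective (inf_le_left (a := MulAction.stabilizer Cfsg.M24 d ⊓
      MulAction.stabilizer Cfsg.M24 p))).comp g5.symm.injective)
  set W := fourFive.map ι with hW
  set N4 := (MulAction.stabilizer (Equiv.Perm (Fin 5)) (4 : Fin 5)).map ι with hN4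
  have hWc : Nat.card W = 4 := by rw [hW, card_map_of_injective hι', fourFive_facts.1]
  have hWk : IsKleinFour W := by
    refine ⟨hWc, ?_⟩
    haveI : Nontrivial W := Finite.one_lt_card_iff_nontrivial.1 (by omega)
    refine Nat.dvd_antisymm ?_ ?_
    · exact Monoid.exponent_dvd_of_forall_pow_eq_one fun w => by
        obtain ⟨s, hs, hsw⟩ := w.2
        refine Subtype.ext ?_
        rw [SubgroupClass.coe_pow, ← hsw, ← map_pow, sq, hs.1, map_one]
        rfl
    · rcases (Nat.dvd_prime Nat.prime_two).1 (Monoid.exponent_dvd_of_forall_pow_eq_one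
        (G := W) (n := 2) fun w => by
          obtain ⟨s, hs, hsw⟩ := w.2
          refine Subtype.ext ?_
          rw [SubgroupClass.coe_pow, ← hsw, ← map_pow, sq, hs.1, map_one]
          rfl) with h | h
      · exact absurd (Monoid.exp_eq_one_iff.1 h) (not_subsingleton W)
      · rw [h]
  have hN4c : Nat.card N4 = 24 := by
    rw [hN4, card_map_of_injective hι', Nat.card_eq_fintype_card]
    decide +kernel
  have hN4n : N4 ≤ normalizer (W : Set G) := by
    rintro _ ⟨s, hs, rfl⟩
    rw [mem_normalizer_iff_map_conj_eq]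
    refine eq_of_le_of_card_ge ?_ (card_map_of_injective (MulAut.conj (ι s)).injective).ge
    rintro _ ⟨_, ⟨k, hk, rfl⟩, rfl⟩
    exact ⟨s * k * s⁻¹, fourFive_facts.2 s k hs hk, by simp⟩
  -- `W` is conjugate to `V`
  obtain ⟨T, hT⟩ := (IsPGroup.of_card (n := 2) (p := 2) (G := W) (by rw [hWc]; rfl)).exists_le_sylow
  obtain ⟨g, hg⟩ := MulAction.exists_smul_eq G T S
  set W' := W.map (MulAut.conj g).toMonoidHom with hW'
  have hW'S : W' ≤ (S : Subgroup G) := by
    rw [← hg, Sylow.coe_subgroup_smul]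
    exact map_mono hT
  haveI hW'k : IsKleinFour (W'.subgroupOf (S : Subgroup G)) :=
    isKleinFour_congr hWk
      ((W.equivMapOfInjective _ (MulAut.conj g).injective).trans (subgroupOfEquivOfLe hW'S).symm)
  haveI hVk : IsKleinFour (V.subgroupOf (S : Subgroup G)) :=
    isKleinFour_congr P.klein (subgroupOfEquivOfLe hVS).symm
  obtain ⟨n, x, y, sd⟩ := TwoGroups.exists_sdPair hQ
  obtain ⟨s, hs⟩ := sd.exists_conj_kleinFour hW'k hVk
  set h := (s : G) * g with hh
  have hWV : W.map (MulAut.conj h).toMonoidHom = V := by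
    have h1 := congrArg (map (S : Subgroup G).subtype) hs
    rw [map_subgroupOf_eq_of_le hVS] at h1
    rw [← h1]
    ext w
    simp only [hW', mem_map, mem_subgroupOf, hh]
    constructor
    · rintro ⟨a, ha, rfl⟩
      have hgS : g * a * g⁻¹ ∈ (S : Subgroup G) := hW'S ⟨a, ha, rfl⟩
      exact ⟨s * ⟨_, hgS⟩ * s⁻¹, ⟨⟨_, hgS⟩, ⟨a, ha, rfl⟩, rfl⟩, by simp [mul_assoc]⟩
    · rintro ⟨_, ⟨b, ⟨a, ha, hab⟩, rfl⟩, rfl⟩
      refine ⟨a, ha, ?_⟩
      have hab' : g * a * g⁻¹ = (b : G) := hab
      simp [← hab', mul_assoc]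
  have hNW : (normalizer (W : Set G)).map (MulAut.conj h).toMonoidHom = normalizer (V : Set G) := by
    rw [map_equiv_normalizer_eq W (MulAut.conj h)] <;> rw [← hWV] <;> rfl
  have hN4eq : N4 = normalizer (W : Set G) := eq_of_le_of_card_ge hN4n (by
    rw [hN4c, ← P.card_norm, ← hNW, card_map_of_injective (MulAut.conj h).injective])
  set K := ι.range.map (MulAut.conj h).toMonoidHom with hK
  have hK120 : Nat.card K = 120 := by
    rw [hK, card_map_of_injective (MulAut.conj h).injective,
      ← Nat.card_congr (MonoidHom.ofInjective hι').toEquiv, Nat.card_perm, Nat.card_fin]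
    rfl
  have hle : normalizer (V : Set G) ≤ K := by
    rw [← hNW, ← hN4eq, hK, hN4, MonoidHom.range_eq_map]
    exact map_mono (map_mono le_top)
  have hlt : normalizer (V : Set G) < K := lt_of_le_of_ne hle fun he => by
    have h1 := P.card_norm; rw [he, hK120] at h1; omega
  have := hco.2 K hlt
  rw [this, card_top, hcard] at hK120
  omega

end CfsgLib.SuborbitThree
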