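import Cfsg.Agent.SuborbitThree.Basic
import Cfsg.Agent.SuborbitThree.Four
import Cfsg.Agent.SuborbitThree.SD
import Cfsg.Agent.SuborbitThree.MEleven
import Cfsg.Agent.SuborbitThree.PSLFour
import Cfsg.Agent.ZCGroup.Model
import Cfsg.Agent.GW.Classification
import Cfsg.Agent.FieldEmb.Basic

/-!
# Suborbits of length three: stabilizer `S₄`
-/

set_option autoImplicit false
set_option linter.style.haveILetI false
set_option linter.unusedSectionVars false

open Subgroup Matrix
open scoped MatrixGroups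

namespace CfsgLib.SuborbitThree

universe u

variable {G : Type u} [Group G] [Finite G] {H : Subgroup G}

theorem Stab.inf_normalizer_eq (S : Stab H) {D : Subgroup G} (hDH : D ≤ H) (hne : D ≠ ⊥)
    (hcard : 3 * Nat.card D = Nat.card H) (hN : ¬ normalizer (D : Set G) ≤ H) :
    normalizer (D : Set G) ⊓ H = D := by
  have hle : D ≤ normalizer (D : Set G) ⊓ H := le_inf le_normalizer hDH
  obtain ⟨j, hj⟩ := card_dvd_of_le hle
  have h1 : Nat.card (normalizer (D : Set G) ⊓ H : Subgroup G) ∣ Nat.card H :=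
    card_dvd_of_le inf_le_right
  rw [hj, ← hcard, mul_comm 3] at h1
  rcases (Nat.dvd_prime Nat.prime_three).1 (Nat.dvd_of_mul_dvd_mul_left Nat.card_pos h1) with h | h
  · exact (eq_of_le_of_card_ge hle (by rw [hj, h, mul_one])).symm
  · exfalso
    have h2 : normalizer (D : Set G) ⊓ H = H :=
      eq_of_le_of_card_ge inf_le_right (by rw [hj, h, ← hcard, mul_comm])
    exact hN (S.normalizer_eq hDH hne (inf_eq_right.1 h2)).le

/-- In a group of order eight through a self-centralizing four-group there is at most one other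
four-group. -/
theorem four_unique {V W U D : Subgroup G} (hV : IsKleinFour V) (hcent : centralizer (V : Set G) = V)
    (hW : IsKleinFour W) (hU : IsKleinFour U) (hD : Nat.card D = 8) (hVD : V ≤ D) (hWD : W ≤ D)
    (hUD : U ≤ D) (hWV : W ≠ V) (hUV : U ≠ V) : U = W := by
  classical
  have hrel : V.relIndex D = 2 := by
    have h1 := LocalEvenBasic.card_mul_relIndex_of_le V D hVD
    rw [hV.card_four, hD] at h1
    omega
  have hidx : ∀ {a b : G}, a ∈ D → b ∈ D → a ∉ V → b ∉ V → a * b ∈ V := by
    intro a b ha hb ha' hb'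
    by_contra h
    have h2 := (Subgroup.mul_mem_iff_of_index_two (H := V.subgroupOf D) hrel
      (a := ⟨a, ha⟩) (b := ⟨b, hb⟩))
    rw [mem_subgroupOf, mem_subgroupOf, mem_subgroupOf] at h2
    exact h (h2.2 (by simp [ha', hb']))
  obtain ⟨w, hw, hwV⟩ : ∃ w ∈ W, w ∉ V := by
    by_contra h
    push Not at h
    exact hWV (eq_of_le_of_card_ge h (by rw [hV.card_four, hW.card_four]))
  obtain ⟨a, haW, haV, ha1⟩ : ∃ a ∈ W, a ∈ V ∧ a ≠ 1 := by
    by_contra h
    push Not at h
    obtain ⟨w', hw', hne, hne'⟩ : ∃ w' ∈ W, w' ≠ 1 ∧ w' ≠ w := by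
      by_contra h'
      push Not at h'
      have h2 : Nat.card W ≤ 2 := by
        rw [← SetLike.coe_sort_coe, Nat.card_coe_set_eq]
        refine (Set.ncard_le_ncard (t := {1, w}) (fun y hy => ?_) (Set.toFinite _)).trans
          ((Set.ncard_insert_le _ _).trans (by rw [Set.ncard_singleton]))
        by_cases h1 : y = 1
        · exact Or.inl h1
        · exact Or.inr (h' y hy h1)
      have := hW.card_four
      omega
    by_cases h1 : w' ∈ V
    · exact hne (h w' hw' h1)
    · refine hne' ?_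
      have h2 : w' * w = 1 :=
        h (w' * w) (mul_mem hw' hw) (hidx (hWD hw') (hWD hw) h1 hwV)
      rw [eq_inv_of_mul_eq_one_left h2, inv_eq_of_mul_eq_one_right (Small.kleinFour_mul_self hW hw)]
  have hout : ∀ u ∈ U, u ∉ V → u ∈ W := by
    intro u hu huV
    set v := w * u with hv
    have hvV : v ∈ V := hidx (hWD hw) (hUD hu) hwV huV
    have hu' : u = w * v := by
      rw [hv, ← mul_assoc, Small.kleinFour_mul_self hW hw, one_mul]
    have hwv : w * v = v * w := by
      have h1 := Small.kleinFour_mul_self hU hu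
      rw [hu'] at h1
      rw [eq_inv_of_mul_eq_one_left h1, _root_.mul_inv_rev,
        inv_eq_of_mul_eq_one_right (Small.kleinFour_mul_self hV hvV),
        inv_eq_of_mul_eq_one_right (Small.kleinFour_mul_self hW hw)]
    by_cases hv1 : v = 1
    · rw [hu', hv1, mul_one]; exact hw
    by_cases hva : v = a
    · rw [hu', hva]; exact mul_mem hw haW
    exfalso
    refine hwV (hcent.le (mem_centralizer_iff.2 fun x hx => ?_))
    rcases Small.kleinFour_cases hV hvV haV hx hv1 ha1 hva with rfl | rfl | rfl | rfl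
    · simp
    · exact hwv.symm
    · exact Small.kleinFour_comm hW haW hw
    · rw [mul_assoc, Small.kleinFour_comm hW haW hw, ← mul_assoc, ← hwv, mul_assoc]
  refine eq_of_le_of_card_ge (fun u hu => ?_) (by rw [hU.card_four, hW.card_four])
  by_cases huV : u ∈ V
  · obtain ⟨u', hu', hu'V⟩ : ∃ u' ∈ U, u' ∉ V := by
      by_contra h
      push Not at h
      exact hUV (eq_of_le_of_card_ge h (by rw [hV.card_four, hU.card_four]))
    have h1 : u * u' ∉ V := fun h => hu'V (by simpa using mul_mem (inv_mem huV) h)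
    have := mul_mem (hout _ (mul_mem hu hu') h1) (inv_mem (hout _ hu' hu'V))
    rwa [mul_inv_cancel_right] at this
  · exact hout u hu huV

theorem mod_sixteen {q : ℕ} (h : 32 ∣ (q - 1) * (q + 1)) (hq : Odd q) :
    q % 16 = 1 ∨ q % 16 = 15 := by
  obtain ⟨r, rfl⟩ := hq
  have h1 : (2 * r + 1 - 1) * (2 * r + 1 + 1) = 4 * (r * (r + 1)) := by
    rw [Nat.add_sub_cancel]; ring
  rw [h1, show 32 = 4 * 8 from rfl] at h
  have h2 := Nat.dvd_of_mul_dvd_mul_left (by norm_num) h
  rw [Nat.dvd_iff_mod_eq_zero, Nat.mul_mod, Nat.add_mod] at h2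
  have h3 : r % 8 < 8 := Nat.mod_lt _ (by norm_num)
  interval_cases hr : r % 8 <;> simp_all <;> omega

/-- A maximal normalizer of a four-group in `PSL₂(q)` of order divisible by 16 needs a prime field. -/
theorem psl_prime_of_coatom {F : Type*} [Field F] [Fintype F] (hodd : Odd (Fintype.card F))
    {V : Subgroup (ProjectiveSpecialLinearGroup (Fin 2) F)} (P : FourPres V)
    (hco : IsCoatom (normalizer (V : Set (ProjectiveSpecialLinearGroup (Fin 2) F)))) :
    ∃ p : ℕ, p.Prime ∧ (p % 16 = 1 ∨ p % 16 = 15) ∧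
      Nonempty (ProjectiveSpecialLinearGroup (Fin 2) F ≃*
        ProjectiveSpecialLinearGroup (Fin 2) (ZMod p)) := by
  classical
  obtain ⟨p, hp⟩ := CharP.exists F
  obtain ⟨f, hpp, hcard⟩ := FiniteField.card F p
  haveI : Fact p.Prime := ⟨hpp⟩
  have hp2 : Odd p := by rw [hcard] at hodd; exact (Nat.odd_pow_iff f.ne_zero).1 hodd
  have hq16 : Fintype.card F % 16 = 1 ∨ Fintype.card F % 16 = 15 := by
    refine mod_sixteen ?_ hodd
    have h := DicksonPSL2.card_PSL_formula (K := F)
    rw [Nat.gcd_eq_left (by rw [Nat.dvd_iff_mod_eq_zero]; have := Nat.odd_iff.1 hodd; omega)] at h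
    have h32 : 2 * 16 ∣ Fintype.card F * ((Fintype.card F - 1) * (Fintype.card F + 1)) := by
      rw [← mul_assoc (Fintype.card F), ← h, mul_comm 2]
      first
        | exact Nat.mul_dvd_mul P.big dvd_rfl
        | (rw [mul_comm]; exact Nat.mul_dvd_mul_left _ P.big)
    exact (Nat.Coprime.dvd_of_dvd_mul_left
      ((show (32 : ℕ) = 2 ^ 5 from rfl) ▸ Nat.Coprime.pow_left 5 (Nat.coprime_two_left.2 hodd)) h32)
  by_cases hp8 : p % 8 = 1 ∨ p % 8 = 7
  · by_cases hf : (f : ℕ) = 1
    · rw [hf, pow_one] at hcard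
      refine ⟨p, hpp, hcard ▸ hq16, ?_⟩
      set ψ := DicksonPSL2.psiS (ZMod.castHom (dvd_refl p) F) (1 : Fˣ)
      have hψ := DicksonPSL2.psiS_injective (ZMod.castHom (dvd_refl p) F) (1 : Fˣ)
      have hcc : Nat.card (ProjectiveSpecialLinearGroup (Fin 2) (ZMod p)) =
          Nat.card (ProjectiveSpecialLinearGroup (Fin 2) F) := by
        have h1 := DicksonPSL2.card_PSL_formula (K := F)
        have h2 := DicksonPSL2.card_PSL_formula (K := ZMod p)
        rw [hcard] at h1
        rw [ZMod.card] at h2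
        exact Nat.eq_of_mul_eq_mul_left (Nat.gcd_pos_of_pos_left _ two_pos) (h2.trans h1.symm)
      exact ⟨(MulEquiv.ofBijective ψ ((Nat.bijective_iff_injective_and_card _).2 ⟨hψ, hcc⟩)).symm⟩
    · exfalso
      refine not_isCoatom_of_subfield hodd P (ZMod.castHom (dvd_refl p) F) ?_ ?_ hco
      · rw [ZMod.card]; exact hp8
      · rw [ZMod.card, hcard]
        exact lt_self_pow₀ hpp.one_lt (by have := f.pos; omega)
  · exfalso
    have hp35 : p % 8 = 3 ∨ p % 8 = 5 := by
      have := Nat.odd_iff.1 hp2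
      omega
    have hsq : ∀ k : ℕ, p ^ (2 * k) % 8 = 1 := by
      intro k
      rw [pow_mul, Nat.pow_mod, Nat.pow_mod p 2]
      rcases hp35 with h | h <;> rw [h] <;> norm_num [Nat.one_mod]
    obtain ⟨j, hj⟩ : Even (f : ℕ) := by
      by_contra h
      obtain ⟨k, hk⟩ := Nat.not_even_iff_odd.1 h
      have h1 : Fintype.card F % 8 = p % 8 := by
        rw [hcard, hk, pow_succ, Nat.mul_mod, hsq k]
        simp
      omega
    rw [← two_mul] at hj
    have hj1 : j ≠ 1 := by
      intro h1
      rw [h1] at hj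
      have h9 : p ^ 2 % 16 = 9 := by
        rw [Nat.pow_mod]
        have h16 : p % 16 = 3 ∨ p % 16 = 5 ∨ p % 16 = 11 ∨ p % 16 = 13 := by omega
        rcases h16 with h | h | h | h <;> rw [h] <;> norm_num
      rw [hcard, hj, mul_one, h9] at hq16
      omega
    have hj0 : j ≠ 0 := by
      intro h0
      have := f.pos
      omega
    haveI : Fintype (GaloisField p 2) := Fintype.ofFinite _
    have hKc : Fintype.card (GaloisField p 2) = p ^ 2 := by
      rw [← Nat.card_eq_fintype_card, GaloisField.card p 2 two_ne_zero]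
    obtain ⟨ι⟩ := FieldEmb.exists_ringHom (F := GaloisField p 2) (K := F) (n := j)
      (by omega) hKc (by rw [hcard, hj, pow_mul])
    refine not_isCoatom_of_subfield hodd P ι ?_ ?_ hco
    · left; rw [hKc]; exact hsq 1
    · rw [hKc, hcard, hj]
      exact Nat.pow_lt_pow_right hpp.one_lt (by omega)

/-- The stabilizer `S₄` gives `PSL₂(p)`, `p ≡ ±1 (mod 16)`, or `PSL₃(3)`. -/
theorem case_four (S : Stab H) (hH : Nonempty (H ≃* Equiv.Perm (Fin 4))) :
    (∃ p : ℕ, p.Prime ∧ (p % 16 = 1 ∨ p % 16 = 15) ∧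
      Nonempty (G ≃* ProjectiveSpecialLinearGroup (Fin 2) (ZMod p))) ∨
      Nonempty (G ≃* ProjectiveSpecialLinearGroup (Fin 3) (ZMod 3)) := by
  classical
  haveI : Fact (Nat.Prime 2) := ⟨Nat.prime_two⟩
  obtain ⟨e⟩ := hH
  have hHc : Nat.card H = 24 := by
    rw [Nat.card_congr e.toEquiv, Nat.card_perm, Nat.card_fin]; rfl
  set f : Equiv.Perm (Fin 4) →* G := H.subtype.comp e.symm.toMonoidHom with hf
  have hfi : Function.Injective f := H.subtype_injective.comp e.symm.injective
  set V := ZCGroup.kleinS4.map f with hVdef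
  have hfe : ∀ h : H, f (e h) = (h : G) := fun h => by simp [hf]
  have hHV : H ≤ normalizer (V : Set G) := by
    intro h hh
    refine mem_norm_iff.2 (eq_of_le_of_card_ge ?_ (card_map_of_injective (MulAut.conj h).injective).ge)
    rintro _ ⟨_, ⟨k, hk, rfl⟩, rfl⟩
    refine ⟨e ⟨h, hh⟩ * k * (e ⟨h, hh⟩)⁻¹, ZCGroup.kleinS4_normal _ _ hk, ?_⟩
    rw [map_mul, map_mul, map_inv, hfe]
    rfl
  have hV : IsKleinFour V :=
    (ZCGroup.klein_of_injective (P := H) f hfi (fun s => (e.symm s).2) hHV).four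
  have hVH : V ≤ H := by
    rintro _ ⟨k, -, rfl⟩
    exact (e.symm k).2
  have hVne : V ≠ ⊥ := fun h => by have := hV.card_four; rw [h, card_bot] at this; omega
  have hcent : centralizer (V : Set G) = V := by
    refine le_antisymm (fun c hc => ?_) (fun v hv => mem_centralizer_iff.2 fun w hw =>
      Small.kleinFour_comm hV hw hv)
    have hcH := S.centralizer_le hVH hVne hHV hc
    refine ⟨e ⟨c, hcH⟩, ZCGroup.kleinS4_self _ fun k hk => hfi ?_, hfe _⟩
    rw [map_mul, map_mul, hfe]
    exact (mem_centralizer_iff.1 hc _ (mem_map_of_mem f hk)).symm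
  have hNV : normalizer (V : Set G) = H := S.normalizer_eq hVH hVne hHV
  -- order divisible by 16
  have hbig : 16 ∣ Nat.card G := by
    obtain ⟨D, hDH, hDp, hDc, hDN⟩ := S.exists_normalizing ⟨3, by rw [hHc]; rfl⟩
    have hD8 : Nat.card D = 8 := by omega
    have hVD : V ≤ D := by
      have hsup : Nat.card (V ⊔ D : Subgroup G) ∣ 24 :=
        hHc ▸ card_dvd_of_le (sup_le hVH hDH)
      obtain ⟨k, hk⟩ := IsPGroup.iff_card.1 (IsPGroup.to_sup_of_normal_left'
        (p := 2) (IsPGroup.of_card (n := 2) (by rw [hV.card_four]; rfl)) hDp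
        (fun d hd => hHV (hDH hd)))
      rw [hk] at hsup
      have hk3 : k ≤ 3 := by
        by_contra h
        have := (pow_dvd_pow 2 (show 4 ≤ k by omega)).trans hsup
        norm_num at this
      have hDeq : D = V ⊔ D := eq_of_le_of_card_ge le_sup_right (by
        rw [hk, hD8]; exact Nat.pow_le_pow_right two_pos hk3)
      rw [hDeq]; exact le_sup_left
    have hDne : D ≠ ⊥ := fun h => by rw [h, card_bot] at hD8; omega
    have hND := S.inf_normalizer_eq hDH hDne (by omega) hDN
    obtain ⟨g, hg, hgH⟩ := SetLike.not_le_iff_exists.1 hDN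
    set W := V.map (MulAut.conj g).toMonoidHom with hW
    have hWk : IsKleinFour W :=
      isKleinFour_congr hV (V.equivMapOfInjective _ (MulAut.conj g).injective)
    have hWD : W ≤ D := (map_mono hVD).trans (mem_norm_iff.1 hg).le
    have hWV : W ≠ V := fun h => hgH (hNV.le (mem_norm_iff.2 h))
    set U := W.map (MulAut.conj g).toMonoidHom with hU
    have hUk : IsKleinFour U :=
      isKleinFour_congr hWk (W.equivMapOfInjective _ (MulAut.conj g).injective)
    have hUD : U ≤ D := (map_mono hWD).trans (mem_norm_iff.1 hg).le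
    have hUV : U = V := by
      by_contra h
      have h1 := four_unique hV hcent hWk hUk hD8 hVD hWD hUD hWV h
      exact hWV (map_injective (MulAut.conj g).injective h1)
    have hg2 : g * g ∈ D := by
      rw [← hND]
      refine ⟨mul_mem hg hg, ?_⟩
      rw [← hNV]
      refine mem_norm_iff.2 ?_
      rw [← map_conj_map]
      exact hUV
    set N := normalizer (D : Set G)
    have hq : orderOf (QuotientGroup.mk' (D.subgroupOf N) ⟨g, hg⟩) = 2 := by
      refine orderOf_eq_prime ?_ fun h => hgH (hDH ?_)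
      · rw [← map_pow, QuotientGroup.mk'_apply, QuotientGroup.eq_one_iff, mem_subgroupOf]
        simpa [pow_two] using hg2
      · simpa [mem_subgroupOf] using (QuotientGroup.eq_one_iff _).1 h
    have h2 : 2 ∣ Nat.card (N ⧸ D.subgroupOf N) := hq ▸ _root_.orderOf_dvd_natCard _
    have h16 : 8 * 2 ∣ Nat.card N := by
      rw [Subgroup.card_eq_card_quotient_mul_card_subgroup (D.subgroupOf N),
        Nat.card_congr (subgroupOfEquivOfLe (le_normalizer : D ≤ N)).toEquiv, hD8, mul_comm _ 8]
      exact Nat.mul_dvd_mul_left 8 h2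
    exact h16.trans (Subgroup.card_subgroup_dvd_card N)
  have P : FourPres V := ⟨hV, hcent, by rw [hNV, hHc], hbig⟩
  haveI : Nontrivial G := Finite.one_lt_card_iff_nontrivial.1
    (lt_of_lt_of_le (by norm_num) (Nat.le_of_dvd Nat.card_pos hbig))
  haveI : IsSimpleGroup G := ⟨fun N hN => (em (N = ⊥)).imp_right fun hne =>
    P.eq_top_of_sup hN (hNV.symm ▸ S.sup_eq_top hN hne)⟩
  obtain ⟨T, c, hVT, hcV, hc2, hcs, h16, hT⟩ := P.exists_sylow
  rcases hT with ⟨n, hn⟩ | hQ
  · have hn2 : 2 ≤ n := by
      obtain ⟨ε⟩ := hn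
      rw [Nat.card_congr ε.toEquiv, DihedralGroup.nat_card] at h16
      rcases n with _ | _ | n
      · haveI : Finite (DihedralGroup 0) := Finite.of_equiv _ ε.toEquiv
        exact absurd (DihedralGroup.nat_card (n := 0)) (by
          rw [mul_zero]; exact Nat.card_pos.ne')
      · norm_num at h16
      · omega
    rcases GW.simple_dihedral T n hn2 hn with ⟨F, _, _, hodd, -, ⟨ε⟩⟩ | ⟨⟨ε⟩⟩
    · left
      set V' := V.map ε.toMonoidHom with hV'
      have hV'k : IsKleinFour V' :=
        isKleinFour_congr hV (V.equivMapOfInjective _ ε.injective)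
      have hN' : normalizer (V' : Set (ProjectiveSpecialLinearGroup (Fin 2) F)) =
          (normalizer (V : Set G)).map ε.toMonoidHom := (map_equiv_normalizer_eq V ε).symm
      have hco : IsCoatom (normalizer (V' : Set (ProjectiveSpecialLinearGroup (Fin 2) F))) := by
        rw [hN', hNV]
        exact (OrderIso.isCoatom_iff ε.mapSubgroup H).2 S.coatom
      have P' := fourPres_psl hodd (Nat.card_congr ε.toEquiv ▸ hbig) hV'k
      obtain ⟨p, hp, hp16, ⟨ζ⟩⟩ := psl_prime_of_coatom hodd P' hco
      exact ⟨p, hp, hp16, ⟨ε.trans ζ⟩⟩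
    · exfalso
      rw [Nat.card_congr ε.toEquiv, nat_card_alternatingGroup, Nat.card_fin] at hbig
      norm_num [Nat.factorial] at hbig
  · rcases P.sd_recognition hVT hcV hc2 hcs hQ with h | h
    · exact Or.inr h
    · exact absurd (hNV.symm ▸ S.coatom) (P.not_isCoatom_of_M11 h hVT hQ)

end CfsgLib.SuborbitThree
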