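import Cfsg.Agent.SuborbitThree.Basic
import Cfsg.Agent.SuborbitThree.CaseFour
import Cfsg.Agent.GW.Classification
import Cfsg.Agent.GW.PSLTorus
import Cfsg.Agent.GW.TwoPGL
import Cfsg.Agent.GW.OSType.LinearFacts
import Cfsg.Agent.Inv53.TransferTwo
import Cfsg.Agent.TwoGroups.SemidihedralSubgroups
import Cfsg.Agent.AutAlt.Basic
import Cfsg.Agent.GW.TwoShape
import Cfsg.Agent.S0225
import Cfsg.Agent.S0253

/-!
# Suborbits of length three: stabilizer `D₁₂`
-/

set_option autoImplicit false
set_option linter.style.haveILetI false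
set_option linter.unusedSectionVars false

open Subgroup Matrix
open scoped MatrixGroups

namespace CfsgLib.SuborbitThree

universe u

theorem psl_congr_zmod {F : Type*} [Field F] [Fintype F] {p : ℕ} [Fact p.Prime]
    (h : Fintype.card F = p) :
    Nonempty (ProjectiveSpecialLinearGroup (Fin 2) F ≃*
      ProjectiveSpecialLinearGroup (Fin 2) (ZMod p)) := by
  classical
  haveI : CharP F p := charP_of_card_eq_prime h
  set ψ := DicksonPSL2.psiS (ZMod.castHom (dvd_refl p) F) (1 : Fˣ)
  have hψ := DicksonPSL2.psiS_injective (ZMod.castHom (dvd_refl p) F) (1 : Fˣ)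
  have hcc : Nat.card (ProjectiveSpecialLinearGroup (Fin 2) (ZMod p)) =
      Nat.card (ProjectiveSpecialLinearGroup (Fin 2) F) := by
    have h1 := DicksonPSL2.card_PSL_formula (K := F)
    have h2 := DicksonPSL2.card_PSL_formula (K := ZMod p)
    rw [h] at h1
    rw [ZMod.card] at h2
    exact Nat.eq_of_mul_eq_mul_left (Nat.gcd_pos_of_pos_left _ two_pos) (h2.trans h1.symm)
  exact ⟨(MulEquiv.ofBijective ψ ((Nat.bijective_iff_injective_and_card _).2 ⟨hψ, hcc⟩)).symm⟩

theorem eight_dvd_centralizer_alt_seven {a : alternatingGroup (Fin 7)} (ha : orderOf a = 2) :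
    8 ∣ Nat.card (centralizer ({a} : Set (alternatingGroup (Fin 7)))) := by
  classical
  haveI : Fact (Nat.Prime 2) := ⟨Nat.prime_two⟩
  obtain ⟨T⟩ : Nonempty (Sylow 2 (alternatingGroup (Fin 7))) := inferInstance
  have h8 : 2 ^ 3 ∣ Nat.card (T : Subgroup (alternatingGroup (Fin 7))) :=
    T.pow_dvd_card_of_pow_dvd_card (by
      rw [nat_card_alternatingGroup, Nat.card_fin]; norm_num [Nat.factorial])
  haveI : Nontrivial (T : Subgroup (alternatingGroup (Fin 7))) :=
    Finite.one_lt_card_iff_nontrivial.1 (lt_of_lt_of_le (by norm_num) (Nat.le_of_dvd Nat.card_pos h8))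
  obtain ⟨c, -, hcc, hc2⟩ := Small.exists_central_invol_mem T.isPGroup' ⊤ top_ne_bot
  obtain ⟨g, hg⟩ := GW.isConj_alt_seven
    (x := (c : alternatingGroup (Fin 7))) (by rw [Subgroup.orderOf_coe]; exact hc2) ha
  refine (show 8 = 2 ^ 3 from rfl) ▸ h8.trans ?_
  rw [← card_map_of_injective (K := (T : Subgroup (alternatingGroup (Fin 7))))
    (show Function.Injective (MulAut.conj g).toMonoidHom from (MulAut.conj g).injective)]
  refine card_dvd_of_le ?_
  rintro _ ⟨t, ht, rfl⟩
  refine mem_centralizer_singleton_iff.2 ?_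
  have h1 : t * (c : alternatingGroup (Fin 7)) = c * t :=
    congrArg Subtype.val (mem_center_iff.1 hcc ⟨t, ht⟩)
  rw [← hg]
  show g * t * g⁻¹ * (g * c * g⁻¹) = g * c * g⁻¹ * (g * t * g⁻¹)
  calc g * t * g⁻¹ * (g * c * g⁻¹) = g * (t * c) * g⁻¹ := by group
    _ = g * (c * t) * g⁻¹ := by rw [h1]
    _ = g * c * g⁻¹ * (g * t * g⁻¹) := by group

theorem dvd_twelve {k : ℕ} (h : k ∣ 12) : k = 1 ∨ k = 2 ∨ k = 3 ∨ k = 4 ∨ k = 6 ∨ k = 12 := by
  have := Nat.le_of_dvd (by norm_num) h
  interval_cases k <;> simp_all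

variable {G : Type u} [Group G] [Finite G] {H : Subgroup G}

/-- A `2`-subgroup of `H` over one of index three equals it. -/
theorem eq_of_two_group {D T : Subgroup G} (hc : 3 * Nat.card D = Nat.card H) (hDT : D ≤ T)
    (hTH : T ≤ H) (hT : IsPGroup 2 T) : T = D := by
  haveI : Fact (Nat.Prime 2) := ⟨Nat.prime_two⟩
  obtain ⟨j, hj⟩ := card_dvd_of_le hDT
  have h1 : Nat.card T ∣ Nat.card H := card_dvd_of_le hTH
  rw [hj, ← hc, mul_comm 3] at h1
  rcases (Nat.dvd_prime Nat.prime_three).1 (Nat.dvd_of_mul_dvd_mul_left Nat.card_pos h1) with h | h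
  · exact (eq_of_le_of_card_ge hDT (by rw [hj, h, mul_one])).symm
  · exfalso
    obtain ⟨k, hk⟩ := IsPGroup.iff_card.1 hT
    have h2 : 3 ∣ 2 ^ k := ⟨Nat.card D, by rw [← hk, hj, h, mul_comm]⟩
    have := Nat.prime_three.dvd_of_dvd_pow h2
    omega

theorem le_of_normalized {D Q : Subgroup G} (hc : 3 * Nat.card D = Nat.card H) (hDH : D ≤ H)
    (hD : IsPGroup 2 D) (hQH : Q ≤ H) (hQ : IsPGroup 2 Q) (hn : D ≤ normalizer (Q : Set G)) :
    Q ≤ D := by
  rw [← eq_of_two_group hc le_sup_right (sup_le hQH hDH) (IsPGroup.to_sup_of_normal_left' hQ hD hn)]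
  exact le_sup_left

/-- With a quasidihedral Sylow subgroup there is a normal subgroup of index two with a unique class
of involutions, central in it. -/
theorem sd_false (S : Stab H) (hO : ∀ N : Subgroup G, N.Normal → Odd (Nat.card N) → N = ⊥)
    {z : G} (hz : orderOf z = 2) (hC : centralizer ({z} : Set G) = H) (hH : Nat.card H = 12)
    (T : Sylow 2 G) (hzT : z ∈ (T : Subgroup G))
    (hQ : Cfsg.IsQuasiDihedral (T : Subgroup G)) : False := by
  classical
  haveI : Fact (Nat.Prime 2) := ⟨Nat.prime_two⟩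
  set TG : Subgroup G := (T : Subgroup G) with hTG
  obtain ⟨n, x, y, d⟩ := TwoGroups.exists_sdPair hQ
  set c0 : TG := x ^ TwoGroups.hh n with hc0
  have hcard : 16 ∣ Nat.card TG := by
    have hn := d.le
    rw [d.card]
    exact (show (16 : ℕ) = 2 ^ 4 from rfl) ▸ pow_dvd_pow 2 (show 4 ≤ n + 1 by omega)
  -- the central involution is not conjugate to `z`
  have hnc : ∀ g : G, g * z * g⁻¹ ≠ (c0 : G) := by
    intro g hg
    have hle : TG.map (MulAut.conj g⁻¹).toMonoidHom ≤ H := by
      rw [← hC]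
      rintro _ ⟨s, hs, rfl⟩
      refine mem_centralizer_singleton_iff.2 ?_
      have h1 : s * (c0 : G) = c0 * s := congrArg Subtype.val (mem_center_iff.1 d.z_mem_center ⟨s, hs⟩)
      have hz' : z = g⁻¹ * (c0 : G) * g := by rw [← hg]; group
      rw [hz']
      show g⁻¹ * s * g⁻¹⁻¹ * _ = _ * (g⁻¹ * s * g⁻¹⁻¹)
      calc g⁻¹ * s * g⁻¹⁻¹ * (g⁻¹ * c0 * g) = g⁻¹ * (s * c0) * g := by group
        _ = g⁻¹ * (c0 * s) * g := by rw [h1]
        _ = g⁻¹ * c0 * g * (g⁻¹ * s * g⁻¹⁻¹) := by group
    have h2 := card_dvd_of_le hle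
    rw [card_map_of_injective (MulAut.conj g⁻¹).injective, hH] at h2
    exact absurd (hcard.trans h2) (by norm_num)
  have hinv : ∀ w : TG, orderOf w = 2 → w = c0 ∨ ∃ i : ℤ, 2 ∣ i ∧ w = x ^ i * y :=
    fun w hw => d.orderOf_eq_two_iff.1 hw
  -- transfer off the quaternion subgroup
  set M := (d.maxSub 1).map TG.subtype with hM
  have hMT : M ≤ TG := map_subtype_le _
  have hMrel : M.relIndex TG = 2 := by
    show (M.subgroupOf TG).index = 2
    rw [hM, ← comap_subtype, comap_map_eq_self_of_injective TG.subtype_injective]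
    exact d.index_maxSub 1
  obtain ⟨K, hKn, hK2, hzK⟩ := Inv53.exists_index_two_notMem T M hMT hMrel (n := 1) le_rfl
    (fun w _ hw => by
      rw [pow_zero]
      exact lt_of_le_of_ne (orderOf_pos w) fun h =>
        hw (by rw [orderOf_eq_one_iff.1 h.symm]; exact one_mem _))
    (x := z) (by rw [hz, pow_one]) (fun g hg => by
      obtain ⟨w, hw, hwe⟩ := hg
      have hw2 : orderOf w = 2 := by
        rw [← Subgroup.orderOf_coe]
        show orderOf (TG.subtype w) = 2
        rw [hwe, show g * z * g⁻¹ = MulAut.conj g z from rfl, MulEquiv.orderOf_eq, hz]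
      rcases hinv w hw2 with h | ⟨i, hi, h⟩
      · exact hnc g (by rw [← hwe, h]; rfl)
      · rw [h] at hw
        have h1 := d.zpow_y_mem_maxSub.1 hw
        omega)
  haveI := hKn
  -- the involutions of `K ∩ T`
  have hidx : (K.subgroupOf TG).index = 2 := by
    refine index_eq_two_iff.2 ⟨⟨z, hzT⟩, fun b => ?_⟩
    rw [mem_subgroupOf, mem_subgroupOf, Subgroup.coe_mul]
    have h2 := Subgroup.mul_mem_iff_of_index_two hK2 (a := (b : G)) (b := z)
    by_cases hb : (b : G) ∈ K
    · exact Or.inr ⟨hb, fun h => hzK ((h2.1 h).1 hb)⟩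
    · exact Or.inl ⟨h2.2 ⟨fun h => absurd h hb, fun h => absurd h hzK⟩, hb⟩
  have huniq : ∀ w : G, w ∈ K → w ∈ TG → orderOf w = 2 → w = (c0 : G) := by
    intro w hwK hwT hw
    rcases hinv ⟨w, hwT⟩ (by rw [← Subgroup.orderOf_coe]; exact hw) with h | ⟨i, hi, h⟩
    · exact congrArg Subtype.val h
    exfalso
    have hmem : (⟨w, hwT⟩ : TG) ∈ K.subgroupOf TG := hwK
    rcases d.eq_maxSub_of_isCoatom (d.isCoatom_of_index_two hidx) with e | e | e
    · rw [e, h] at hmem
      exact d.zpow_y_notMem i hmem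
    · rw [e, h] at hmem
      have h1 := d.zpow_y_mem_maxSub.1 hmem
      omega
    · refine hzK (?_ : (⟨z, hzT⟩ : TG) ∈ K.subgroupOf TG)
      rw [e]
      rcases hinv ⟨z, hzT⟩ (by rw [← Subgroup.orderOf_coe]; exact hz) with h' | ⟨j, hj, h'⟩
      · exact absurd (congrArg Subtype.val h') (by simpa using hnc 1)
      · rw [h']
        exact d.zpow_y_mem_maxSub.2 (by simpa using hj)
  -- no four-group
  have hrank : ∀ E : Subgroup K, ¬ IsKleinFour E := by
    intro E hE
    set E' := E.map K.subtype with hE'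
    obtain ⟨T', hT'⟩ := (IsPGroup.of_card (n := 2) (p := 2) (G := E') (by
      rw [hE', card_map_of_injective K.subtype_injective, hE.card_four]; rfl)).exists_le_sylow
    obtain ⟨g, hg⟩ := MulAction.exists_smul_eq G T' T
    have hval : ∀ e ∈ E, e ≠ 1 → g * (e : G) * g⁻¹ = (c0 : G) := by
      intro e he he1
      refine huniq _ (hKn.conj_mem _ e.2 g) ?_ ?_
      · rw [hTG, ← hg, Sylow.coe_subgroup_smul]
        exact ⟨e, hT' (mem_map_of_mem _ he), rfl⟩
      · rw [show g * (e : G) * g⁻¹ = MulAut.conj g (e : G) from rfl, MulEquiv.orderOf_eq,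
          Subgroup.orderOf_coe]
        exact Small.orderOf_eq_two_iff_sq.2 ⟨he1, Small.kleinFour_mul_self hE he⟩
    have h2 : Nat.card E ≤ 2 := by
      rw [← SetLike.coe_sort_coe, Nat.card_coe_set_eq]
      by_cases hne : ∃ e ∈ E, e ≠ 1
      · obtain ⟨e, he, he1⟩ := hne
        refine (Set.ncard_le_ncard (t := {1, e}) (fun b hb => ?_) (Set.toFinite _)).trans
          ((Set.ncard_insert_le _ _).trans (by rw [Set.ncard_singleton]))
        by_cases hb1 : b = 1
        · exact Or.inl hb1
        · refine Or.inr (Subtype.ext ?_)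
          have := (hval b hb hb1).trans (hval e he he1).symm
          exact mul_left_cancel (mul_right_cancel this)
      · push Not at hne
        refine (Set.ncard_le_ncard (t := {1}) (fun b hb => hne b hb) (Set.toFinite _)).trans ?_
        rw [Set.ncard_singleton]; norm_num
    have := hE.card_four
    omega
  have heven : Even (Nat.card K) := by
    have h8 : 2 ∣ Nat.card (K.subgroupOf TG) := by
      have h1 := (K.subgroupOf TG).card_mul_index
      rw [hidx] at h1
      obtain ⟨j, hj⟩ := hcard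
      exact ⟨4 * j, by omega⟩
    refine even_iff_two_dvd.2 (h8.trans ?_)
    refine card_dvd_of_injective
      ((TG.subtype.comp (K.subgroupOf TG).subtype).codRestrict K fun w => w.2) fun a b hab =>
      Subtype.ext (Subtype.ext (congrArg Subtype.val hab :))
  obtain ⟨u, hu, N, hN, hNodd, hNu⟩ := Cfsg.Agent.S0225.result heven hrank
  have hOK : Cfsg.oddCore K = ⊥ := by
    refine Subgroup.map_injective K.subtype_injective ?_
    rw [Subgroup.map_bot]
    refine hO _ inferInstance ?_
    rw [card_map_of_injective K.subtype_injective]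
    exact Inv54.odd_card_oddCore
  have hN0 : N = ⊥ := le_bot_iff.1 (hOK ▸ ExtremelyClosed.le_oddCore_of_odd hN hNodd)
  have huc : u ∈ center K := by
    refine mem_center_iff.2 fun g => ?_
    have h1 : u * g * u⁻¹ * g⁻¹ = 1 := by rw [← mem_bot, ← hN0]; exact hNu g
    exact (mul_inv_eq_iff_eq_mul.1 (mul_inv_eq_one.1 h1)).symm
  refine S.not_solvable_normal (N := (center K).map K.subtype) inferInstance ?_ ?_
  · intro h
    have h1 : (u : G) ∈ (center K).map K.subtype := mem_map_of_mem _ huc
    rw [h, mem_bot] at h1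
    exact Small.ne_one_of_orderOf_two hu (Subtype.ext h1)
  · refine Group.isSolvable_of_comm fun a b => Subtype.ext ?_
    obtain ⟨_, a', ha', rfl⟩ := a
    obtain ⟨_, b', -, rfl⟩ := b
    exact (congrArg Subtype.val (mem_center_iff.1 ha' b')).symm

/-- The possibilities with a normal `PSL₂(q)` not containing `z`. -/
theorem outer_twelve (S : Stab H) {L : Subgroup G} [L.Normal] (hD : GW.DihType G)
    (hL : GW.IsPSLOrAltSeven L) (hCL : centralizer (L : Set G) = ⊥) {z c : G} (hz : orderOf z = 2)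
    (hzL : z ∉ L) (hC : centralizer ({z} : Set G) = H) (hH : Nat.card H = 12) (hc : orderOf c = 2)
    (hcz : c ≠ z) (hcomm : Commute z c) (hidx : L.index = 2) :
    Nonempty (G ≃* Equiv.Perm (Fin 5)) ∨
      Nonempty (G ≃* GL (Fin 2) (ZMod 7) ⧸ Subgroup.center (GL (Fin 2) (ZMod 7))) := by
  classical
  obtain ⟨F, iF, fF, ⟨m⟩⟩ := GW.OS.exists_model hD hCL hL hzL
  have hdiag : m.diagPart = ⊤ := by
    refine eq_top_iff.2 fun g _ => ?_
    by_cases hg : g ∈ L
    · exact GW.OS.Model.coe_mem_diagPart hg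
    · have h1 : z⁻¹ * g ∈ L := (Subgroup.mul_mem_iff_of_index_two hidx).2
        ⟨fun h => absurd (inv_mem_iff.1 h) hzL, fun h => absurd h hg⟩
      simpa using mul_mem (GW.OS.Model.involution_mem (m := m) hz)
        (GW.OS.Model.coe_mem_diagPart (m := m) h1)
  obtain ⟨A, α, hA, hA2, hα, hnA⟩ := GW.OS.Model.exists_rep_involution (m := m) hz
  have hq : Fintype.card F = 5 ∨ Fintype.card F = 7 := by
    have h := GW.OS.Model.card_diag_centralizer (m := m) hz hzL hz hc hcz hcomm hA hA2 hα hnA
    rw [hdiag, top_inf_eq, hC, hH] at h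
    have h1 := Fintype.card_pos (α := F)
    by_cases hsq : IsSquare α
    · have := h.1 hsq
      omega
    · have := h.2 hsq
      omega
  rcases hq with hq | hq
  · left
    obtain ⟨ε⟩ := Cfsg.Agent.S0253.result hq
    let e5 : L ≃* alternatingGroup (Fin 5) := m.e.trans ε
    let ec := MulEquiv.ofBijective _ (AutAlt.conjNormal_bijective (α := Fin 5) (by decide) (by decide))
    let f : G →* Equiv.Perm (Fin 5) :=
      ec.symm.toMonoidHom.comp ((MulAut.congr e5).toMonoidHom.comp MulAut.conjNormal)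
    have hf : Function.Injective f := by
      refine (injective_iff_map_eq_one f).2 fun g hg => ?_
      have h1 : MulAut.conjNormal (H := L) g = 1 := by
        refine (MulAut.congr e5).injective ?_
        rw [map_one]
        exact ec.symm.injective (hg.trans (map_one ec.symm).symm)
      have h2 : g ∈ centralizer (L : Set G) := by
        refine mem_centralizer_iff.2 fun l hl => ?_
        have h3' := DFunLike.congr_fun h1 (⟨l, hl⟩ : L)
        have h3 : g * l * g⁻¹ = l := congrArg Subtype.val h3'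
        exact (mul_inv_eq_iff_eq_mul.1 h3).symm
      rwa [hCL, mem_bot] at h2
    have hcard : Nat.card G = Nat.card (Equiv.Perm (Fin 5)) := by
      rw [← L.card_mul_index, hidx, Nat.card_congr e5.toEquiv, nat_card_alternatingGroup,
        Nat.card_perm, Nat.card_fin]
      rfl
    exact ⟨MulEquiv.ofBijective f ((Nat.bijective_iff_injective_and_card _).2 ⟨hf, hcard⟩)⟩
  · right
    haveI : Fact (Nat.Prime 7) := ⟨by norm_num⟩
    obtain ⟨ζ⟩ := psl_congr_zmod (p := 7) hq
    let m' : GW.OS.Model L (ZMod 7) := ⟨m.e.trans ζ, hCL, by rw [ZMod.card]; decide,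
      by rw [ZMod.card]; norm_num, hD⟩
    let f : GL (Fin 2) (ZMod 7) →* MulAut (ProjectiveSpecialLinearGroup (Fin 2) (ZMod 7)) :=
      (AutPSL.toPSLAut (ι := Fin 2) (F := ZMod 7)).comp AutPSL.conjSL
    have hker : f.ker = Subgroup.center (GL (Fin 2) (ZMod 7)) := by
      ext M
      rw [Matrix.GeneralLinearGroup.center_eq_range_scalar, MonoidHom.mem_ker, MonoidHom.mem_range]
      constructor
      · intro h
        have h1 : AutPSL.conjSL M = 1 :=
          AutPSL.toPSLAut_injective 7 (h.trans (map_one _).symm)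
        obtain ⟨u, hu⟩ := AutPSL.conjSL_eq_one_iff.1 h1
        exact ⟨u, hu.symm⟩
      · rintro ⟨u, rfl⟩
        show AutPSL.toPSLAut (AutPSL.conjSL _) = 1
        rw [AutPSL.conjSL_scalar, map_one]
    have hrange : f.range = m'.act.range := by
      refine le_antisymm ?_ ?_
      · rintro _ ⟨M, rfl⟩
        obtain ⟨g, M', hg, hM'⟩ := GW.OS.Model.rep_surj (m := m') hz hzL M.1
          (GW.OS.Model.det_ne M)
        have : M' = M := Units.ext hM'
        subst this
        exact ⟨g, hg⟩
      · rintro _ ⟨g, rfl⟩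
        by_cases hg : g ∈ L
        · obtain ⟨M, hM⟩ := GW.OS.Model.mem_diagPart.1 (GW.OS.Model.coe_mem_diagPart (m := m') hg)
          exact ⟨M, hM.symm⟩
        · have h1 : z⁻¹ * g ∈ L := (Subgroup.mul_mem_iff_of_index_two hidx).2
            ⟨fun h => absurd (inv_mem_iff.1 h) hzL, fun h => absurd h hg⟩
          obtain ⟨M, hM⟩ := GW.OS.Model.mem_diagPart.1
            (mul_mem (GW.OS.Model.involution_mem (m := m') hz)
              (GW.OS.Model.coe_mem_diagPart (m := m') h1))
          rw [mul_inv_cancel_left] at hM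
          exact ⟨M, hM.symm⟩
    exact ⟨(MonoidHom.ofInjective m'.act_injective).trans <|
      (MulEquiv.subgroupCongr hrange.symm).trans <|
      (QuotientGroup.quotientKerEquivRange f).symm.trans (QuotientGroup.quotientMulEquivOfEq hker)⟩

/-- The possibilities with a normal `PSL₂(q)` containing `z`. -/
theorem inner_twelve (S : Stab H) {L : Subgroup G} [L.Normal] (hL : GW.IsPSLOrAltSeven L)
    (hLne : L ≠ ⊥) {z : G} (hz : orderOf z = 2) (hzL : z ∈ L)
    (hC : centralizer ({z} : Set G) = H) (hH : Nat.card H = 12) {D : Subgroup G} (hDH : D ≤ H)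
    (hDc : 3 * Nat.card D = Nat.card H) (hDp : IsPGroup 2 D)
    (hDN : ¬ normalizer (D : Set G) ≤ H) :
    Nonempty (G ≃* ProjectiveSpecialLinearGroup (Fin 2) (ZMod 11)) ∨
      Nonempty (G ≃* ProjectiveSpecialLinearGroup (Fin 2) (ZMod 13)) := by
  classical
  have hA : Nat.card (centralizer ({(⟨z, hzL⟩ : L)} : Set L)) = Nat.card (L ⊓ H : Subgroup G) := by
    refine Nat.card_congr
      { toFun := fun a => ⟨a.1.1, a.1.2, ?_⟩
        invFun := fun a => ⟨⟨a.1, a.2.1⟩, ?_⟩
        left_inv := fun _ => rfl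
        right_inv := fun _ => rfl }
    · show (a.1.1 : G) ∈ H
      rw [← hC]
      exact mem_centralizer_singleton_iff.2 (congrArg Subtype.val (mem_centralizer_singleton_iff.1 a.2))
    · have h1 : (a.1 : G) ∈ centralizer ({z} : Set G) := by rw [hC]; exact a.2.2
      exact mem_centralizer_singleton_iff.2 (Subtype.ext (mem_centralizer_singleton_iff.1 h1))
  have hdvd : Nat.card (L ⊓ H : Subgroup G) ∣ 12 := hH ▸ card_dvd_of_le inf_le_right
  have hHn : H ≤ normalizer ((L ⊓ H : Subgroup G) : Set G) := by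
    intro h hh
    refine mem_norm_iff.2 (eq_of_le_of_card_ge ?_ (card_map_of_injective (MulAut.conj h).injective).ge)
    rintro _ ⟨x, hx, rfl⟩
    exact ⟨Subgroup.Normal.conj_mem inferInstance x hx.1 h, H.mul_mem (H.mul_mem hh hx.2) (H.inv_mem hh)⟩
  rcases hL with ⟨F, iF, fF, hodd, hlarge, ⟨e⟩⟩ | ⟨⟨e⟩⟩
  · have hea : Nat.card (centralizer ({e ⟨z, hzL⟩} : Set _)) = Nat.card (L ⊓ H : Subgroup G) := by
      rw [← hA]
      exact (Nat.card_congr (e.toEquiv.subtypeEquiv fun a => by
        rw [mem_centralizer_singleton_iff, mem_centralizer_singleton_iff]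
        exact ⟨fun h => by simpa using congrArg e h, fun h => e.injective (by simpa using h)⟩)).symm
    have ho : orderOf (e ⟨z, hzL⟩) = 2 := by
      rw [MulEquiv.orderOf_eq, ← Subgroup.orderOf_coe]; exact hz
    have h12 : Nat.card (L ⊓ H : Subgroup G) = 12 ∧
        (Fintype.card F = 13 ∨ Fintype.card F = 11) := by
      have h4 : Nat.card (L ⊓ H : Subgroup G) = 4 → False := by
        intro h4
        have hle := le_of_normalized hDc hDH hDp inf_le_right
          (IsPGroup.of_card (n := 2) (p := 2) (by rw [h4]; rfl)) (hDH.trans hHn)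
        have heq : L ⊓ H = D := eq_of_le_of_card_ge hle (by omega)
        refine hDN (S.normalizer_eq hDH ?_ (heq ▸ hHn)).le
        intro h0
        rw [h0, card_bot] at hDc
        omega
      have hle : Nat.card (L ⊓ H : Subgroup G) ≤ 12 := Nat.le_of_dvd (by norm_num) hdvd
      rcases GW.card_centralizer_involution_psl hodd ho with ⟨hm, h⟩ | ⟨hm, h⟩ <;>
        rw [hea] at h <;>
        · rcases dvd_twelve hdvd with h' | h' | h' | h' | h' | h'
          all_goals first
            | omega
            | exact (h4 h').elim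
    have htop : L = ⊤ := by
      have hle : H ≤ L := inf_eq_right.1 (eq_of_le_of_card_ge inf_le_right (by rw [h12.1, hH]))
      rw [← S.sup_eq_top (N := L) inferInstance hLne, sup_eq_left.2 hle]
    have eG : G ≃* ProjectiveSpecialLinearGroup (Fin 2) F :=
      ((MulEquiv.subgroupCongr htop).trans Subgroup.topEquiv).symm.trans e
    rcases h12.2 with hq | hq
    · haveI : Fact (Nat.Prime 13) := ⟨by norm_num⟩
      obtain ⟨ζ⟩ := psl_congr_zmod (p := 13) hq
      exact Or.inr ⟨eG.trans ζ⟩
    · haveI : Fact (Nat.Prime 11) := ⟨by norm_num⟩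
      obtain ⟨ζ⟩ := psl_congr_zmod (p := 11) hq
      exact Or.inl ⟨eG.trans ζ⟩
  · exfalso
    set a := e ⟨z, hzL⟩ with ha
    have ho : orderOf a = 2 := by rw [ha, MulEquiv.orderOf_eq, ← Subgroup.orderOf_coe]; exact hz
    have h8 := eight_dvd_centralizer_alt_seven ho
    have he : Nat.card (L ⊓ H : Subgroup G) = Nat.card (centralizer ({a} : Set (alternatingGroup (Fin 7)))) := by
      rw [← hA]
      exact Nat.card_congr (e.toEquiv.subtypeEquiv fun b => by
        rw [mem_centralizer_singleton_iff, mem_centralizer_singleton_iff]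
        exact ⟨fun h => by simpa [ha] using congrArg e h,
          fun h => e.injective (by simpa [ha] using h)⟩)
    rw [← he] at h8
    exact absurd (h8.trans hdvd) (by norm_num)

/-- The stabilizer `D₁₂`. -/
theorem case_twelve (S : Stab H) (hH : Nonempty (H ≃* DihedralGroup 6)) :
    Nonempty (G ≃* Equiv.Perm (Fin 5)) ∨
      Nonempty (G ≃* GL (Fin 2) (ZMod 7) ⧸ Subgroup.center (GL (Fin 2) (ZMod 7))) ∨
      Nonempty (G ≃* ProjectiveSpecialLinearGroup (Fin 2) (ZMod 11)) ∨
      Nonempty (G ≃* ProjectiveSpecialLinearGroup (Fin 2) (ZMod 13)) := by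
  classical
  haveI : Fact (Nat.Prime 2) := ⟨Nat.prime_two⟩
  obtain ⟨e⟩ := hH
  have hHc : Nat.card H = 12 := by rw [Nat.card_congr e.toEquiv, DihedralGroup.nat_card]
  have kcent : ∀ d : DihedralGroup 6, (∀ a, a * d = d * a) → d = 1 ∨ d = DihedralGroup.r 3 := by
    decide
  have kc3 : ∀ a : DihedralGroup 6, a * DihedralGroup.r 3 = DihedralGroup.r 3 * a := by decide
  have kexp : ∀ a : DihedralGroup 6, a * a * (a * a) = 1 → a * a = 1 := by decide
  set z : G := ((e.symm (DihedralGroup.r 3) : H) : G) with hzdef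
  have hzH : z ∈ H := (e.symm (DihedralGroup.r 3)).2
  have hz : orderOf z = 2 := by
    rw [hzdef, Subgroup.orderOf_coe, MulEquiv.orderOf_eq]
    exact Small.orderOf_eq_two_iff_sq.2 ⟨by decide, by decide⟩
  have hHz : ∀ h ∈ H, h * z = z * h := by
    intro h hh
    have h1 : (⟨h, hh⟩ : H) * e.symm (DihedralGroup.r 3) = e.symm (DihedralGroup.r 3) * ⟨h, hh⟩ :=
      e.injective (by rw [map_mul, map_mul, MulEquiv.apply_symm_apply]; exact kc3 _)
    exact congrArg Subtype.val h1
  set Z := zpowers z with hZdef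
  have hZH : Z ≤ H := zpowers_le.2 hzH
  have hZne : Z ≠ ⊥ := zpowers_ne_bot.2 (Small.ne_one_of_orderOf_two hz)
  have hZc : Nat.card Z = 2 := by rw [hZdef, Nat.card_zpowers, hz]
  have hZp : IsPGroup 2 Z := IsPGroup.of_card (n := 1) (by rw [hZc, pow_one])
  have hHZ : H ≤ centralizer (Z : Set G) := by
    intro h hh
    rw [hZdef, zpowers_eq_closure, centralizer_closure]
    exact mem_centralizer_singleton_iff.2 (hHz h hh)
  have hC : centralizer ({z} : Set G) = H := by
    refine le_antisymm ?_ fun h hh => mem_centralizer_singleton_iff.2 (hHz h hh)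
    rw [← centralizer_closure, ← zpowers_eq_closure, ← hZdef]
    exact S.centralizer_le hZH hZne (hHZ.trans (centralizer_le_normalizer _))
  have hO : ∀ N : Subgroup G, N.Normal → Odd (Nat.card N) → N = ⊥ := fun N hN hNo =>
    S.odd_normal_eq_bot hZH hZne hZp (hHZ.trans (centralizer_le_normalizer _)) (fun M hM _ hMo => by
      have hd : Nat.card M ∣ 12 := hHc ▸ card_dvd_of_le hM
      have hle := Nat.le_of_dvd (by norm_num) hd
      generalize Nat.card M = k at hd hle hMo ⊢
      interval_cases k <;> simp_all [Nat.odd_iff]) hN hNo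
  obtain ⟨D, hDH, hDp, hDc, hDN⟩ := S.exists_normalizing ⟨2, by rw [hHc]; rfl⟩
  have hD4 : Nat.card D = 4 := by omega
  have hzD : z ∈ D := le_of_normalized hDc hDH hDp hZH hZp
    ((hDH.trans hHZ).trans (centralizer_le_normalizer _)) (mem_zpowers z)
  obtain ⟨T, hDT⟩ := hDp.exists_le_sylow
  have hzT : z ∈ (T : Subgroup G) := hDT hzD
  have hTH : (T : Subgroup G) ⊓ H = D :=
    eq_of_two_group hDc (le_inf hDT hDH) inf_le_right (T.isPGroup'.to_le inf_le_left)
  have hCS : Nat.card (centralizer ({(⟨z, hzT⟩ : (T : Subgroup G))} : Set (T : Subgroup G))) = 4 := by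
    rw [← hD4, ← hTH]
    refine Nat.card_congr
      { toFun := fun a => ⟨a.1.1, a.1.2, ?_⟩
        invFun := fun a => ⟨⟨a.1, a.2.1⟩, ?_⟩
        left_inv := fun _ => rfl
        right_inv := fun _ => rfl }
    · show (a.1.1 : G) ∈ H
      rw [← hC]
      exact mem_centralizer_singleton_iff.2 (congrArg Subtype.val (mem_centralizer_singleton_iff.1 a.2))
    · have h1 : (a.1 : G) ∈ centralizer ({z} : Set G) := by rw [hC]; exact a.2.2
      exact mem_centralizer_singleton_iff.2 (Subtype.ext (mem_centralizer_singleton_iff.1 h1))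
  -- the type is dihedral
  have hdih : GW.DihType G := by
    rcases Inv53.dihedral_quasi_or_four T.isPGroup' ⟨z, hzT⟩
      (by rw [← Subgroup.orderOf_coe]; exact hz) hCS with ⟨n, ⟨ε⟩⟩ | hQ | h4
    · exact GW.dihType_of_sylow T ε
    · exact (sd_false S hO hz hC hHc T hzT hQ).elim
    · have hTD : (T : Subgroup G) = D := (eq_of_le_of_card_ge hDT (by rw [h4, hD4])).symm
      haveI : IsKleinFour (T : Subgroup G) := by
        refine ⟨h4, ?_⟩
        haveI : Nontrivial (T : Subgroup G) := Finite.one_lt_card_iff_nontrivial.1 (by omega)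
        rw [Monoid.exponent_eq_prime_iff Nat.prime_two]
        intro a ha
        refine orderOf_eq_prime ?_ ha
        have haH : (a : G) ∈ H := hDH (hTD.le a.2)
        have h1 : (⟨a, haH⟩ : H) ^ 4 = 1 := by
          have h2 : a ^ 4 = 1 := by rw [← h4]; exact pow_card_eq_one'
          have h2' : (a : G) ^ 4 = 1 := congrArg Subtype.val h2
          exact Subtype.ext h2'
        have h3 := kexp (e ⟨a, haH⟩) (by rw [← map_mul, ← map_mul, ← pow_two, ← pow_two, ← pow_mul, h1, map_one])
        rw [← map_mul, MulEquiv.map_eq_one_iff] at h3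
        rw [pow_two]
        have h3' : (a : G) * a = 1 := congrArg Subtype.val h3
        exact Subtype.ext h3'
      haveI : IsKleinFour (DihedralGroup 2) :=
        ⟨DihedralGroup.nat_card, by rw [DihedralGroup.exponent]; decide⟩
      exact GW.dihType_of_sylow T (n := 2)
        (IsKleinFour.nonempty_mulEquiv (G₁ := (T : Subgroup G)) (G₂ := DihedralGroup 2)).some
  have hOc : Cfsg.oddCore G = ⊥ := hO _ inferInstance Inv54.odd_card_oddCore
  rcases GW.knownCore_of_simpleHyp hdih hOc (GW.simpleHyp _) with h | ⟨⟨e4⟩⟩ | ⟨⟨e4⟩⟩ | ⟨L, hLn, hL, hCL⟩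
  · haveI : Group.IsNilpotent G := h.isNilpotent
    exact absurd (inferInstance : Group.IsSolvable G) S.nonsolv
  · refine absurd (CfsgLib.OutTwo.isSolvable_of_card_dvd_168 ?_ ?_) S.nonsolv
    all_goals rw [Nat.card_congr e4.toEquiv, nat_card_alternatingGroup, Nat.card_fin]
    all_goals norm_num [Nat.factorial]
  · refine absurd (CfsgLib.OutTwo.isSolvable_of_card_dvd_168 ?_ ?_) S.nonsolv
    all_goals rw [Nat.card_congr e4.toEquiv, Nat.card_perm, Nat.card_fin]
    all_goals norm_num [Nat.factorial]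
  haveI := hLn
  have hLne : L ≠ ⊥ := by
    intro h
    rw [h, coe_bot] at hCL
    have : z ∈ centralizer ({1} : Set G) := mem_centralizer_singleton_iff.2 (by simp)
    rw [hCL, mem_bot] at this
    exact Small.ne_one_of_orderOf_two hz this
  by_cases hzL : z ∈ L
  · exact Or.inr (Or.inr (inner_twelve S hL hLne hz hzL hC hHc hDH hDc hDp hDN))
  -- an involution of `L` central in the Sylow subgroup
  have hLT : L.subgroupOf (T : Subgroup G) ≠ ⊥ := by
    intro h
    have heven : 2 ∣ Nat.card L := by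
      by_contra hodd
      exact hLne (hO L hLn (Nat.not_even_iff_odd.1 (fun he => hodd (even_iff_two_dvd.1 he))))
    obtain ⟨w, hw⟩ := exists_prime_orderOf_dvd_card' (G := L) 2 heven
    obtain ⟨T', hT'⟩ := (IsPGroup.of_card (n := 1) (p := 2) (G := zpowers (w : G)) (by
      rw [Nat.card_zpowers, Subgroup.orderOf_coe, hw, pow_one])).exists_le_sylow
    obtain ⟨g, hg⟩ := MulAction.exists_smul_eq G T' T
    have hmem : g * (w : G) * g⁻¹ ∈ (T : Subgroup G) := by
      rw [← hg, Sylow.coe_subgroup_smul]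
      exact ⟨w, hT' (mem_zpowers _), rfl⟩
    have h1 : (⟨_, hmem⟩ : (T : Subgroup G)) ∈ L.subgroupOf (T : Subgroup G) :=
      hLn.conj_mem _ w.2 g
    rw [h, mem_bot] at h1
    have h2 : g * (w : G) * g⁻¹ = 1 := congrArg Subtype.val h1
    rw [mul_inv_eq_one, mul_eq_left] at h2
    have hw1 : w = 1 := Subtype.ext h2
    rw [hw1, orderOf_one] at hw
    omega
  haveI : Nontrivial (T : Subgroup G) := ⟨⟨⟨z, hzT⟩, 1, fun h =>
    Small.ne_one_of_orderOf_two hz (congrArg Subtype.val h)⟩⟩
  obtain ⟨c, hcL, hcc, hc2⟩ := Small.exists_central_invol_mem T.isPGroup'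
    (L.subgroupOf (T : Subgroup G)) hLT
  have hc2' : orderOf (c : G) = 2 := by rw [Subgroup.orderOf_coe]; exact hc2
  have hcomm : Commute z (c : G) := congrArg Subtype.val (mem_center_iff.1 hcc ⟨z, hzT⟩)
  have hcH : (c : G) ∈ H := by rw [← hC]; exact mem_centralizer_singleton_iff.2 hcomm.symm.eq
  have hcz : (c : G) ≠ z := fun h => hzL (h ▸ hcL)
  set A := L.subgroupOf H with hA
  haveI : A.Normal := hLn.subgroupOf H
  have hA6 : Nat.card A ∣ 6 := by
    set ZH := Z.subgroupOf H with hZH'
    haveI : ZH.Normal := normal_subgroupOf_of_le_normalizer (hHZ.trans (centralizer_le_normalizer _))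
    have hidx : Nat.card (H ⧸ ZH) = 6 := by
      have h1 := Subgroup.card_eq_card_quotient_mul_card_subgroup ZH
      have h2 : Nat.card ZH = 2 := (Nat.card_congr (subgroupOfEquivOfLe hZH).toEquiv).trans hZc
      rw [hHc, h2] at h1
      omega
    rw [← hidx]
    refine card_dvd_of_injective ((QuotientGroup.mk' ZH).comp A.subtype)
      ((injective_iff_map_eq_one _).2 fun a ha => ?_)
    have h1 : ((a : H) : G) ∈ Z := (QuotientGroup.eq_one_iff (a : H)).1 ha
    rw [hZdef, mem_zpowers_iff_mem_range_orderOf, hz] at h1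
    simp only [Finset.mem_image, Finset.mem_range] at h1
    obtain ⟨k, hk, hk'⟩ := h1
    interval_cases k
    · refine Subtype.ext (Subtype.ext ?_)
      rw [pow_zero] at hk'
      exact hk'.symm
    · rw [pow_one] at hk'
      exact absurd (hk' ▸ (a.2 : ((a : H) : G) ∈ L)) hzL
  have hcA : (⟨c, hcH⟩ : H) ∈ A := hcL
  have hA2 : Nat.card A = 6 := by
    have h2 : 2 ∣ Nat.card A := by
      have := A.orderOf_dvd_natCard hcA
      rwa [← Subgroup.orderOf_coe, show ((⟨c, hcH⟩ : H) : G) = c from rfl, hc2'] at this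
    have hne : Nat.card A ≠ 2 := by
      intro h
      have hcent : ∀ b : H, b * ⟨c, hcH⟩ = ⟨c, hcH⟩ * b := by
        intro b
        have hmem := (inferInstance : A.Normal).conj_mem _ hcA b
        obtain ⟨u, w, huw, huniv⟩ := Nat.card_eq_two_iff.1 h
        have hall : ∀ v : A, v = 1 ∨ v = ⟨⟨c, hcH⟩, hcA⟩ := by
          intro v
          have h1 : (1 : A) ≠ ⟨⟨c, hcH⟩, hcA⟩ := fun hh => Small.ne_one_of_orderOf_two hc2'
            (congrArg (fun t : A => ((t : H) : G)) hh).symm
          have hm : ∀ t : A, t = u ∨ t = w := fun t => by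
            have : t ∈ ({u, w} : Set A) := huniv ▸ Set.mem_univ t
            simpa using this
          rcases hm v with rfl | rfl <;> rcases hm 1 with h3 | h3 <;>
            rcases hm ⟨⟨c, hcH⟩, hcA⟩ with h4 | h4 <;> simp_all
        rcases hall ⟨_, hmem⟩ with h3 | h3
        · have h4 : b * ⟨c, hcH⟩ * b⁻¹ = 1 := congrArg Subtype.val h3
          rw [mul_inv_eq_one, mul_eq_left] at h4
          exact absurd (congrArg Subtype.val h4) (Small.ne_one_of_orderOf_two hc2')
        · exact mul_inv_eq_iff_eq_mul.1 (congrArg Subtype.val h3)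
      rcases kcent (e ⟨c, hcH⟩) (fun a => by
        have h5 := congrArg e (hcent (e.symm a))
        rwa [map_mul, map_mul, MulEquiv.apply_symm_apply] at h5) with h3 | h3
      · rw [MulEquiv.map_eq_one_iff] at h3
        exact Small.ne_one_of_orderOf_two hc2' (congrArg Subtype.val h3)
      · exact hcz (by rw [hzdef, ← h3, MulEquiv.symm_apply_apply])
    have hle := Nat.le_of_dvd (by norm_num) hA6
    generalize Nat.card A = k at hA6 h2 hne hle ⊢
    interval_cases k <;> simp_all
  have hidx : L.index = 2 := by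
    have h1 := A.card_mul_index
    rw [hA2, hHc] at h1
    have h2 : A.index = L.relIndex H := rfl
    rw [← relIndex_top_right, ← S.sup_eq_top hLn hLne, relIndex_sup_left, ← h2]
    omega
  rcases outer_twelve S hdih hL hCL hz hzL hC hHc hc2' hcz hcomm hidx with h | h
  · exact Or.inl h
  · exact Or.inr (Or.inl h)

end CfsgLib.SuborbitThree
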