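import Cfsg.Agent.SuborbitThree.Basic
import Cfsg.Agent.S3331
import Cfsg.Agent.S1008
import Cfsg.Agent.OutTwo.Main
import Cfsg.Agent.SmallModP.Recognition

/-!
# Suborbits of length three: stabilizer of order three or six
-/

set_option autoImplicit false
set_option linter.style.haveILetI false
set_option linter.unusedSectionVars false

open Subgroup
open scoped MatrixGroups

namespace CfsgLib.SuborbitThree

theorem card_psl_seven : Nat.card PSL(2, ZMod 7) = 168 := by
  haveI : Fact (Nat.Prime 7) := ⟨by norm_num⟩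
  have h := CfsgLib.DicksonPSL2.card_PSL_formula (K := ZMod 7)
  rw [ZMod.card] at h
  have e : Nat.gcd 2 (7 - 1) = 2 := by decide
  rw [e] at h
  omega

universe u

variable {G : Type u} [Group G] [Finite G] {H : Subgroup G}

/-- Stabilizers `C₃` and `S₃` give `A₅`. -/
theorem case_small (S : Stab H) (hH : Nonempty (H ≃* Multiplicative (ZMod 3)) ∨
    Nonempty (H ≃* Equiv.Perm (Fin 3))) : Nonempty (G ≃* alternatingGroup (Fin 5)) := by
  classical
  haveI : Fact (Nat.Prime 3) := ⟨Nat.prime_three⟩
  have hcard : Nat.card H = 3 ∨ Nat.card H = 6 := by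
    rcases hH with ⟨⟨e⟩⟩ | ⟨⟨e⟩⟩
    · left; rw [Nat.card_congr e.toEquiv]; simp
    · right; rw [Nat.card_congr e.toEquiv, Nat.card_perm, Nat.card_fin]; rfl
  obtain ⟨x, hx⟩ := exists_prime_orderOf_dvd_card' (G := H) 3 (by rcases hcard with h | h <;> simp [h])
  set X : Subgroup G := zpowers (x : G) with hX
  have hXc : Nat.card X = 3 := by rw [hX, Nat.card_zpowers, Subgroup.orderOf_coe, hx]
  have hXH : X ≤ H := zpowers_le.2 x.2
  have hXne : X ≠ ⊥ := fun h => by rw [h, card_bot] at hXc; omega
  have hXn : H ≤ normalizer (X : Set G) := by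
    have hn : ((zpowers x : Subgroup H)).Normal := by
      rcases hcard with h | h
      · rw [show (zpowers x : Subgroup H) = ⊤ from eq_top_of_card_eq _ (by rw [Nat.card_zpowers, hx, h])]
        infer_instance
      · refine normal_of_index_eq_two ?_
        have h1 := card_mul_index (zpowers x)
        rw [Nat.card_zpowers, hx, h] at h1
        omega
    intro h hh
    refine mem_norm_iff.2 (eq_of_le_of_card_ge ?_ (card_map_of_injective
      (MulAut.conj h).injective).ge)
    rw [hX, MonoidHom.map_zpowers, zpowers_le]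
    have h1 := hn.conj_mem x (mem_zpowers x) ⟨h, hh⟩
    obtain ⟨i, hi⟩ := mem_zpowers_iff.1 h1
    exact mem_zpowers_iff.2 ⟨i, by simpa using congrArg Subtype.val hi⟩
  have hCX : centralizer (X : Set G) = X := by
    refine le_antisymm (fun c hc => ?_) (fun a ha => ?_)
    · have hcH := S.centralizer_le hXH hXne hXn hc
      have hcx : (x : G) * c = c * x := mem_centralizer_iff.1 hc _ (mem_zpowers _)
      rcases hH with ⟨⟨e⟩⟩ | ⟨⟨e⟩⟩
      · have : X = H := eq_of_le_of_card_ge hXH (by rw [hXc, Nat.card_congr e.toEquiv]; simp)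
        rw [this]; exact hcH
      · have key : ∀ s t : Equiv.Perm (Fin 3), s ^ 3 = 1 → s ≠ 1 → s * t = t * s →
            t = 1 ∨ t = s ∨ t = s * s := by decide
        have hs3 : e x ^ 3 = 1 := by rw [← map_pow, show x ^ 3 = 1 from hx ▸ pow_orderOf_eq_one x, map_one]
        have hs1 : e x ≠ 1 := fun h => by
          rw [MulEquiv.map_eq_one_iff] at h
          rw [h, orderOf_one] at hx; omega
        have hst : e x * e ⟨c, hcH⟩ = e ⟨c, hcH⟩ * e x := by
          rw [← map_mul, ← map_mul]; exact congrArg e (Subtype.ext hcx)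
        rcases key _ _ hs3 hs1 hst with h | h | h
        · rw [MulEquiv.map_eq_one_iff] at h
          rw [show c = 1 from congrArg Subtype.val h]; exact one_mem _
        · rw [show c = (x : G) from congrArg Subtype.val (e.injective h)]; exact mem_zpowers _
        · rw [← map_mul] at h
          rw [show c = (x : G) * x from congrArg Subtype.val (e.injective h)]
          exact mul_mem (mem_zpowers _) (mem_zpowers _)
    · obtain ⟨i, rfl⟩ := mem_zpowers_iff.1 ha
      refine mem_centralizer_iff.2 fun b hb => ?_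
      obtain ⟨j, rfl⟩ := mem_zpowers_iff.1 hb
      exact zpow_mul_comm _ _ _
  rcases Cfsg.Agent.S3331.result X hXc hCX with ⟨N, hN, hnil, -, hq⟩ | ⟨N, hN, hcomm, -, ⟨e⟩⟩ | ⟨⟨e⟩⟩
  · exfalso
    haveI := hnil
    have hN0 : N = ⊥ := by_contra fun h => S.not_solvable_normal hN h inferInstance
    subst hN0
    refine S.nonsolv ?_
    rcases hq with hq | ⟨⟨e⟩⟩
    · rw [Nat.card_congr QuotientGroup.quotientBot.toEquiv] at hq
      haveI : IsCyclic G := isCyclic_of_prime_card hq
      exact Group.isSolvable_of_comm fun a b => mul_comm' a b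
    · have h6 : Nat.card G = 6 := by
        rw [Nat.card_congr (QuotientGroup.quotientBot.symm.trans e).toEquiv, Nat.card_perm,
          Nat.card_fin]
        rfl
      exact CfsgLib.OutTwo.isSolvable_of_card_dvd_168 (by rw [h6]; norm_num) (by omega)
  · have hN0 : N = ⊥ := by_contra fun h => S.not_solvable_normal hN h
      (Group.isSolvable_of_comm fun a b => mul_comm' a b)
    subst hN0
    exact ⟨QuotientGroup.quotientBot.symm.trans e⟩
  · exfalso
    haveI : Fact (Nat.Prime 7) := ⟨by norm_num⟩
    haveI := CfsgLib.SmallModP.isSimpleGroup_psl (p := 7) (by norm_num)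
    haveI : Nontrivial G := e.toEquiv.nontrivial
    haveI : IsSimpleGroup G := IsSimpleGroup.isSimpleGroup_of_surjective e.symm.toMonoidHom
      e.symm.surjective
    have hG : Nat.card G = 168 := by rw [Nat.card_congr e.toEquiv, card_psl_seven]
    rcases (Cfsg.Agent.S1008.result hG).1 H S.coatom with ⟨⟨e'⟩⟩ | ⟨h, -⟩
    · rw [Nat.card_congr e'.toEquiv, Nat.card_perm, Nat.card_fin] at hcard
      norm_num [Nat.factorial] at hcard
    · omega

end CfsgLib.SuborbitThree
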