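import Cfsg.Agent.CubicSuborbit.Main
import Cfsg.Agent.AGroups.Factorization
import Cfsg.Agent.Transfer.HallComplement
import Cfsg.Agent.ExtremelyClosed.Reduction
import Cfsg.Agent.Inv54.Core

/-!
# Insoluble primitive groups with a suborbit of length three: generalities

The maximal core-free subgroup `H` meets a conjugate in a subgroup of index three.
-/

set_option autoImplicit false
set_option linter.style.haveILetI false
set_option linter.unusedSectionVars false

open Subgroup
open scoped Pointwise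

namespace CfsgLib.SuborbitThree

universe u

/-- The data of the point stabilizer. -/
structure Stab {G : Type u} [Group G] (H : Subgroup G) : Prop where
  coatom : IsCoatom H
  core : ∀ N : Subgroup G, N.Normal → N ≤ H → N = ⊥
  nonsolv : ¬ Group.IsSolvable G
  solvH : Group.IsSolvable H
  edge : ∃ g : G, g ∉ H ∧ (H.map (MulAut.conj g).toMonoidHom).relIndex H = 3

variable {G : Type u} [Group G] [Finite G] {H : Subgroup G}

omit [Finite G] in
theorem map_conj_map (X : Subgroup G) (a b : G) :
    (X.map (MulAut.conj a).toMonoidHom).map (MulAut.conj b).toMonoidHom =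
      X.map (MulAut.conj (b * a)).toMonoidHom := by
  rw [map_map]
  congr 1
  ext w
  simp [mul_assoc]

omit [Finite G] in
theorem mem_norm_iff {X : Subgroup G} {x : G} :
    x ∈ normalizer (X : Set G) ↔ X.map (MulAut.conj x).toMonoidHom = X :=
  mem_normalizer_iff_map_conj_eq

omit [Finite G] in
theorem map_conj_one (X : Subgroup G) : X.map (MulAut.conj (1 : G)).toMonoidHom = X := by
  ext w
  simp

omit [Finite G] in
theorem map_subtype_map_conj (M : Subgroup G) (R : Subgroup M) (c : M) :
    (R.map (MulAut.conj c).toMonoidHom).map M.subtype =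
      (R.map M.subtype).map (MulAut.conj (c : G)).toMonoidHom := by
  rw [map_map, map_map]
  congr 1

omit [Finite G] in
theorem map_subtype_smul {p : ℕ} (M : Subgroup G) (R : Sylow p M) (c : M) :
    ((c • R : Sylow p M) : Subgroup M).map M.subtype =
      ((R : Subgroup M).map M.subtype).map (MulAut.conj (c : G)).toMonoidHom :=
  map_subtype_map_conj M (R : Subgroup M) c

namespace Stab

variable (S : Stab H)
include S

theorem sup_eq_top {N : Subgroup G} (hN : N.Normal) (hne : N ≠ ⊥) : N ⊔ H = ⊤ :=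
  S.coatom.2 _ (lt_of_le_of_ne le_sup_right fun h => hne (S.core N hN (le_sup_left.trans h.ge)))

theorem exists_mul {N : Subgroup G} (hN : N.Normal) (hne : N ≠ ⊥) (g : G) :
    ∃ m ∈ N, ∃ h ∈ H, g = m * h := by
  have hg : g ∈ ((N ⊔ H : Subgroup G) : Set G) := by rw [S.sup_eq_top hN hne]; trivial
  rw [Subgroup.normal_mul] at hg
  obtain ⟨m, hm, h, hh, e⟩ := Set.mem_mul.1 hg
  exact ⟨m, hm, h, hh, e.symm⟩

theorem not_solvable_normal {N : Subgroup G} (hN : N.Normal) (hne : N ≠ ⊥) :
    ¬ Group.IsSolvable N := by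
  intro hs
  haveI := hN
  haveI := hs
  refine S.nonsolv ?_
  have hsurj : Function.Surjective ((QuotientGroup.mk' N).comp H.subtype) := by
    intro q
    obtain ⟨g, rfl⟩ := QuotientGroup.mk'_surjective N q
    obtain ⟨m, hm, h, hh, rfl⟩ := S.exists_mul hN hne g
    refine ⟨⟨h, hh⟩, ?_⟩
    rw [MonoidHom.comp_apply, map_mul, show (QuotientGroup.mk' N) m = 1 from
      (QuotientGroup.eq_one_iff m).2 hm, one_mul]
    rfl
  haveI := S.solvH
  exact AGroups.isSolvable_of_normal N hs (Group.isSolvable_of_surjective hsurj)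

theorem ne_top : H ≠ ⊤ := S.coatom.1

/-- A nontrivial subgroup normalized by `H` and contained in it has `H` as its normalizer. -/
theorem normalizer_eq {P : Subgroup G} (hPH : P ≤ H) (hne : P ≠ ⊥)
    (hn : H ≤ normalizer (P : Set G)) : normalizer (P : Set G) = H := by
  rcases hn.eq_or_lt with h | h
  · exact h.symm
  · exact absurd (S.core P (normalizer_eq_top_iff.1 (S.coatom.2 _ h)) hPH) hne

theorem centralizer_le {P : Subgroup G} (hPH : P ≤ H) (hne : P ≠ ⊥)
    (hn : H ≤ normalizer (P : Set G)) : centralizer (P : Set G) ≤ H :=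
  (centralizer_le_normalizer _).trans (S.normalizer_eq hPH hne hn).le

/-- A normal subgroup of odd order is trivial, given a normal 2-subgroup of `H` and when the odd
normal subgroups of `H` have order one or three. -/
theorem odd_normal_eq_bot {P : Subgroup G} (hPH : P ≤ H) (hPne : P ≠ ⊥) (hP2 : IsPGroup 2 P)
    (hPn : H ≤ normalizer (P : Set G))
    (hodd : ∀ M : Subgroup G, M ≤ H → H ≤ normalizer (M : Set G) → Odd (Nat.card M) →
      Nat.card M = 1 ∨ Nat.card M = 3)
    {N : Subgroup G} (hN : N.Normal) (hNodd : Odd (Nat.card N)) : N = ⊥ := by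
  classical
  haveI : Fact (Nat.Prime 2) := ⟨Nat.prime_two⟩
  -- the regular case
  have hreg : ∀ M : Subgroup G, M.Normal → Odd (Nat.card M) → M ⊓ H = ⊥ → M = ⊥ := by
    intro M hM hMo hMH
    by_contra hMne
    haveI := hM
    obtain ⟨r, hr, hrd⟩ : ∃ r : ℕ, r.Prime ∧ r ∣ Nat.card M := Nat.exists_prime_and_dvd
      (mt (Subgroup.eq_bot_of_card_eq M) hMne)
    haveI := Fact.mk hr
    have hPM : ∀ R : Sylow r M, ∀ (Q : Subgroup G),
        Q ≤ normalizer (((R : Subgroup M).map M.subtype : Subgroup G) : Set G) ↔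
          ∀ q ∈ Q, q ∈ normalizer (((R : Subgroup M).map M.subtype : Subgroup G) : Set G) :=
      fun R Q => Iff.rfl
    letI : MulAction P (Sylow r M) :=
      MulAction.compHom _ ((MulAut.conjNormal (H := M)).comp P.subtype)
    have hcard : ¬ 2 ∣ Nat.card (Sylow r M) := by
      intro h
      obtain ⟨R⟩ : Nonempty (Sylow r M) := inferInstance
      exact hMo.not_two_dvd_nat ((h.trans R.card_dvd_index).trans (index_dvd_card _))
    obtain ⟨R, hR⟩ := hP2.nonempty_fixed_point_of_prime_not_dvd_card (Sylow r M) hcard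
    set RG : Subgroup G := (R : Subgroup M).map M.subtype with hRG
    have hPR : P ≤ normalizer (RG : Set G) := by
      intro x hx
      refine mem_norm_iff.mpr ?_
      have h1 : (MulAut.conjNormal x : MulAut M) • R = R := hR ⟨x, hx⟩
      rw [hRG]
      conv_rhs => rw [← h1]
      show ((R : Subgroup M).map M.subtype).map (MulAut.conj x).toMonoidHom =
        ((R : Subgroup M).map (MulAut.conjNormal x : MulAut M).toMonoidHom).map M.subtype
      rw [map_map, map_map]
      congr 1
    -- `H` normalizes `RG`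
    have hHR : H ≤ normalizer (RG : Set G) := by
      intro h hh
      obtain ⟨P0, hP0⟩ : ∃ P0 : Subgroup G, P0 = P := ⟨P, rfl⟩
      have hRG' : IsPGroup r RG := R.2.map _
      -- the conjugate Sylow subgroup
      set Rh : Subgroup G := RG.map (MulAut.conj h).toMonoidHom with hRh
      have hPRh : P ≤ normalizer (Rh : Set G) := by
        intro x hx
        have hx' : h⁻¹ * x * h ∈ P := by
          have := (mem_normalizer_iff.1 (hPn (inv_mem hh)) x).1 hx
          rwa [inv_inv] at this
        have h1 := mem_norm_iff.1 (hPR hx')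
        refine mem_norm_iff.mpr ?_
        rw [hRh]
        conv_rhs => rw [← h1]
        rw [map_conj_map, map_conj_map]
        congr 1
        simp [mul_assoc]
      -- conjugate inside `M`
      have hRhM : Rh ≤ M := by
        rintro _ ⟨w, hw, rfl⟩
        exact hM.conj_mem w (Subgroup.map_subtype_le _ hw) h
      obtain ⟨T, hT⟩ : ∃ T : Sylow r M, (T : Subgroup M) = Rh.subgroupOf M := by
        have hp : IsPGroup r (Rh.subgroupOf M) :=
          (hRG'.map _).of_equiv (subgroupOfEquivOfLe hRhM).symm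
        obtain ⟨T, hT⟩ := hp.exists_le_sylow
        refine ⟨T, (Subgroup.eq_of_le_of_card_ge hT ?_).symm⟩
        rw [Nat.card_congr (subgroupOfEquivOfLe hRhM).toEquiv, hRh,
          card_map_of_injective (MulAut.conj h).injective, hRG,
          card_map_of_injective M.subtype_injective, T.card_eq_multiplicity, R.card_eq_multiplicity]
      obtain ⟨c, hc⟩ := MulAction.exists_smul_eq M R T
      have hcR : RG.map (MulAut.conj (c : G)).toMonoidHom = Rh := by
        have h2 := congrArg (fun X : Sylow r M => (X : Subgroup M).map M.subtype) hc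
        simp only [map_subtype_smul, hT, map_subgroupOf_eq_of_le hRhM] at h2
        exact h2
      -- Sylow 2-subgroups of `(M P) ⊓ N(Rh)`
      set NR : Subgroup G := normalizer (Rh : Set G) ⊓ (M ⊔ P) with hNR
      have hP' : P.map (MulAut.conj (c : G)).toMonoidHom ≤ NR := by
        rintro _ ⟨x, hx, rfl⟩
        refine ⟨?_, ?_⟩
        · refine mem_norm_iff.mpr ?_
          rw [← hcR]
          conv_rhs => rw [← mem_norm_iff.1 (hPR hx)]
          rw [map_conj_map, map_conj_map]
          congr 1
          simp [mul_assoc]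
        · exact (M ⊔ P).mul_mem ((M ⊔ P).mul_mem (mem_sup_left c.2) (mem_sup_right hx))
            ((M ⊔ P).inv_mem (mem_sup_left c.2))
      have hPle : P ≤ NR := le_inf hPRh le_sup_right
      have hMP : M ⊓ P = ⊥ := (eq_bot_iff_forall _).2 fun x hx => by
        obtain ⟨k, hk⟩ := hP2 ⟨x, hx.2⟩
        have h1 : orderOf x ∣ 2 ^ k := orderOf_dvd_of_pow_eq_one (congrArg Subtype.val hk)
        have h2 : orderOf x ∣ Nat.card M := M.orderOf_dvd_natCard hx.1
        exact orderOf_eq_one_iff.1 (Nat.eq_one_of_dvd_coprimes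
          (Nat.Coprime.pow_left k (Nat.coprime_two_left.2 hMo)) h1 h2)
      have hcardMP : Nat.card (M ⊔ P : Subgroup G) ∣ Nat.card M * Nat.card P := by
        have h1 := Subgroup.card_mul_index ((M.subgroupOf (M ⊔ P)))
        rw [Nat.card_congr (subgroupOfEquivOfLe (le_sup_left : M ≤ M ⊔ P)).toEquiv,
          show (M.subgroupOf (M ⊔ P)).index = M.relIndex (M ⊔ P) from rfl,
          relIndex_sup_left] at h1
        rw [← h1]
        exact Nat.mul_dvd_mul_left _ (Subgroup.index_dvd_card (M.subgroupOf P))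
      have hsyl : ∀ Q : Subgroup G, Q ≤ NR → IsPGroup 2 Q → Nat.card Q = Nat.card P →
          ∃ T2 : Sylow 2 NR, (T2 : Subgroup NR) = Q.subgroupOf NR := by
        intro Q hQ hQ2 hQc
        refine ⟨(hQ2.of_equiv (subgroupOfEquivOfLe hQ).symm).toSylow ?_, rfl⟩
        intro hd
        have h1 := Subgroup.card_mul_index (Q.subgroupOf NR)
        rw [Nat.card_congr (subgroupOfEquivOfLe hQ).toEquiv, hQc] at h1
        have h2 : Nat.card P * 2 ∣ Nat.card M * Nat.card P :=
          ((mul_dvd_mul_left _ hd).trans (dvd_of_eq h1)).trans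
            ((card_dvd_of_le inf_le_right).trans hcardMP)
        rw [mul_comm (Nat.card M)] at h2
        exact hMo.not_two_dvd_nat (Nat.dvd_of_mul_dvd_mul_left Nat.card_pos h2)
      obtain ⟨T1, hT1⟩ := hsyl P hPle hP2 rfl
      obtain ⟨T2, hT2⟩ := hsyl _ hP' (hP2.map _) (card_map_of_injective (MulAut.conj (c : G)).injective)
      obtain ⟨d, hd⟩ := MulAction.exists_smul_eq NR T1 T2
      have hdP : P.map (MulAut.conj (d : G)).toMonoidHom = P.map (MulAut.conj (c : G)).toMonoidHom := by
        have h2 := congrArg (fun X : Sylow 2 NR => (X : Subgroup NR).map NR.subtype) hd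
        simp only [map_subtype_smul, hT1, hT2, map_subgroupOf_eq_of_le hP',
          map_subgroupOf_eq_of_le hPle] at h2
        exact h2
      -- `c⁻¹ d` normalizes `P`
      have hcd : (c : G)⁻¹ * d ∈ H := by
        rw [← S.normalizer_eq hPH hPne hPn]
        refine mem_norm_iff.mpr ?_
        have h3 := congrArg (Subgroup.map (MulAut.conj (c : G)⁻¹).toMonoidHom) hdP
        rwa [map_conj_map, map_conj_map, inv_mul_cancel, map_conj_one] at h3
      -- decompose `d`
      obtain ⟨m, hm, p, hp, hmp⟩ := Set.mem_mul.1 (show (d : G) ∈ (M : Set G) * (P : Set G) by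
        rw [← Subgroup.normal_mul]; exact d.2.2)
      have hcm : (c : G)⁻¹ * m ∈ M ⊓ H := by
        refine ⟨M.mul_mem (M.inv_mem c.2) hm, (?_ : _ ∈ H)⟩
        have := mul_mem hcd (inv_mem (hPH hp))
        rwa [← hmp, ← mul_assoc, mul_inv_cancel_right] at this
      rw [hMH, mem_bot, inv_mul_eq_one] at hcm
      have hdN : (d : G) ∈ normalizer (Rh : Set G) := d.2.1
      rw [← hmp] at hdN
      have hmN : (c : G) ∈ normalizer (Rh : Set G) := by
        rw [hcm]
        simpa using mul_mem hdN (inv_mem (hPRh hp))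
      have hRc : Rh = RG := by
        have h1 := mem_norm_iff.1 hmN
        exact (Subgroup.map_injective (f := (MulAut.conj (c : G)).toMonoidHom)
          (MulAut.conj (c : G)).injective (hcR.trans h1.symm)).symm
      exact mem_norm_iff.mpr hRc
    -- so `RG` is normal
    have hRGne : RG ≠ ⊥ := by
      intro h
      have h1 : Nat.card RG = 1 := by rw [h, card_bot]
      rw [hRG, card_map_of_injective M.subtype_injective] at h1
      have := R.pow_dvd_card_of_pow_dvd_card (n := 1) (by simpa using hrd)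
      rw [h1, pow_one, Nat.dvd_one] at this
      exact hr.ne_one this
    rcases hHR.eq_or_lt with h | h
    · have : RG ≤ M ⊓ H := le_inf (Subgroup.map_subtype_le _) (by rw [h]; exact le_normalizer)
      rw [hMH] at this
      exact hRGne (le_bot_iff.1 this)
    · have hn : RG.Normal := normalizer_eq_top_iff.1 (S.coatom.2 _ h)
      haveI : Group.IsNilpotent RG := (R.2.map M.subtype : IsPGroup r RG).isNilpotent
      exact S.not_solvable_normal hn hRGne inferInstance
  by_contra hne
  haveI := hN
  have hd : Nat.card (N ⊓ H : Subgroup G) ∣ Nat.card N := card_dvd_of_le inf_le_left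
  have hMn : H ≤ normalizer ((N ⊓ H : Subgroup G) : Set G) := by
    intro h hh
    rw [mem_normalizer_iff]
    exact fun x => ⟨fun hx => ⟨hN.conj_mem x hx.1 h, H.mul_mem (H.mul_mem hh hx.2) (H.inv_mem hh)⟩,
      fun hx => ⟨by have := hN.conj_mem _ hx.1 h⁻¹; simpa [mul_assoc] using this,
        by have := H.mul_mem (H.mul_mem (H.inv_mem hh) hx.2) hh; simpa [mul_assoc] using this⟩⟩
  rcases hodd (N ⊓ H) inf_le_right hMn (hNodd.of_dvd_nat hd) with h1 | h3
  · exact hne (hreg N hN hNodd (Subgroup.eq_bot_of_card_eq _ h1))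
  -- a self-centralizing subgroup of order three
  haveI : Fact (Nat.Prime 3) := ⟨Nat.prime_three⟩
  set A : Subgroup G := N ⊓ H with hA
  have hAne : A ≠ ⊥ := fun h => by rw [h, card_bot] at h3; omega
  have hNA : normalizer (A : Set G) = H := S.normalizer_eq inf_le_right hAne hMn
  set A' : Subgroup N := A.subgroupOf N with hA'
  have hA'c : Nat.card A' = 3 := by
    rw [hA', Nat.card_congr (subgroupOfEquivOfLe inf_le_left).toEquiv, h3]
  have hnA' : normalizer (A' : Set N) = A' := by
    refine le_antisymm (fun x hx => ?_) le_normalizer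
    refine mem_subgroupOf.2 ⟨x.2, ?_⟩
    refine (?_ : (x : G) ∈ H)
    rw [← hNA, mem_normalizer_iff]
    intro w
    refine ⟨fun hw => mem_subgroupOf.1 ((mem_normalizer_iff.1 hx ⟨w, hw.1⟩).1 hw), fun hw => ?_⟩
    have hwN : w ∈ N := by
      have := hN.conj_mem _ hw.1 (x : G)⁻¹
      simpa [mul_assoc] using this
    exact mem_subgroupOf.1 ((mem_normalizer_iff.1 hx ⟨w, hwN⟩).2 hw)
  have hAp : IsPGroup 3 A' := IsPGroup.of_card (n := 1) (by rw [hA'c, pow_one])
  obtain ⟨T, hT⟩ := hAp.exists_le_sylow
  have hTA : (T : Subgroup N) = A' := by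
    by_contra hne'
    haveI : Group.IsNilpotent (T : Subgroup N) := T.2.isNilpotent
    have hlt : A'.subgroupOf T < ⊤ := lt_top_iff_ne_top.2 fun h =>
      hne' (le_antisymm (subgroupOf_eq_top.1 h) hT)
    obtain ⟨-, x, hx, hxA⟩ := SetLike.lt_iff_le_and_exists.1
      (Group.normalizerCondition_of_isNilpotent (G := (T : Subgroup N)) (A'.subgroupOf T) hlt)
    refine hxA (mem_subgroupOf.2 (hnA'.le ?_))
    rw [mem_normalizer_iff] at hx ⊢
    intro w
    refine ⟨fun hw => mem_subgroupOf.1 ((hx ⟨w, hT hw⟩).1 hw), fun hw => ?_⟩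
    have hwT : w ∈ (T : Subgroup N) := by
      have := mul_mem (mul_mem (inv_mem x.2) (hT hw)) x.2
      simpa [mul_assoc] using this
    exact mem_subgroupOf.1 ((hx ⟨w, hwT⟩).2 hw)
  have hcop : Nat.Coprime (Nat.card A') A'.index := by
    rw [hA'c, (Nat.prime_three).coprime_iff_not_dvd, ← hTA]
    exact T.not_dvd_index
  have hcomm : A' ≤ centralizer (A' : Set N) := by
    haveI : IsCyclic A' := isCyclic_of_prime_card hA'c
    intro a ha
    refine mem_centralizer_iff.2 fun b hb => ?_
    obtain ⟨g0, hg0⟩ := IsCyclic.exists_generator (α := A')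
    obtain ⟨i, hi⟩ := mem_zpowers_iff.1 (hg0 ⟨a, ha⟩)
    obtain ⟨j, hj⟩ := mem_zpowers_iff.1 (hg0 ⟨b, hb⟩)
    have e1 : ((g0 ^ i : A') : N) = a := congrArg Subtype.val hi
    have e2 : ((g0 ^ j : A') : N) = b := congrArg Subtype.val hj
    rw [← e1, ← e2, ← Subgroup.coe_mul, ← Subgroup.coe_mul, ← zpow_add, ← zpow_add, add_comm]
  obtain ⟨M', hM'n, hM'c⟩ := Transfer.exists_normal_complement_of_normalizer_le_centralizer A'
    hcop (hnA'.le.trans hcomm)
  haveI := hM'n
  -- the complement is normal in `G`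
  have hM'card : (Nat.card M').Coprime 3 := by
    rw [Nat.coprime_comm, ← hA'c, ← hM'c.index_eq_card]; exact hcop
  have hmem : ∀ x : N, (orderOf x).Coprime 3 → x ∈ M' := by
    intro x hx
    refine (QuotientGroup.eq_one_iff x).1 (orderOf_eq_one_iff.1 (Nat.eq_one_of_dvd_coprimes hx
      (orderOf_map_dvd (QuotientGroup.mk' M') x) ?_))
    exact (_root_.orderOf_dvd_natCard _).trans (by rw [← index_eq_card, hM'c.symm.index_eq_card, hA'c])
  set M : Subgroup G := M'.map N.subtype with hM
  have hMn' : M.Normal := ⟨by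
    rintro _ ⟨x, hx, rfl⟩ g
    refine mem_map.2 ⟨⟨g * x * g⁻¹, hN.conj_mem x x.2 g⟩, hmem _ ?_, rfl⟩
    rw [← Subgroup.orderOf_coe]
    show (orderOf (MulAut.conj g (x : G))).Coprime 3
    rw [MulEquiv.orderOf_eq, Subgroup.orderOf_coe]
    exact hM'card.coprime_dvd_left (M'.orderOf_dvd_natCard hx)⟩
  have hMH : M ⊓ H = ⊥ := (eq_bot_iff_forall _).2 fun w hw => by
    obtain ⟨x, hx, rfl⟩ := mem_map.1 hw.1
    have h1 : x ∈ A' := mem_subgroupOf.2 ⟨x.2, hw.2⟩
    rw [show x = 1 from mem_bot.1 (hM'c.disjoint.le_bot ⟨hx, h1⟩)]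
    rfl
  have hMbot := hreg M hMn' (hNodd.of_dvd_nat (card_dvd_of_le (Subgroup.map_subtype_le _))) hMH
  have hM'bot : M' = ⊥ := Subgroup.map_injective N.subtype_injective (by rw [Subgroup.map_bot, ← hM, hMbot])
  rw [hM'bot, isComplement'_bot_left] at hM'c
  haveI : IsCyclic A' := isCyclic_of_prime_card hA'c
  haveI : IsCyclic N := by
    rw [hM'c] at *
    exact Subgroup.topEquiv.isCyclic.1 inferInstance
  haveI : IsMulCommutative N := IsCyclic.isMulCommutative
  exact S.not_solvable_normal hN hne (Group.isSolvable_of_comm fun a b => mul_comm' a b)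

/-- The Sylow `2`-subgroup of `H` has its normalizer outside `H`. -/
theorem exists_normalizing (hH : ∃ k, Nat.card H = 3 * 2 ^ k) :
    ∃ D : Subgroup G, D ≤ H ∧ IsPGroup 2 D ∧ 3 * Nat.card D = Nat.card H ∧
      ¬ normalizer (D : Set G) ≤ H := by
  classical
  haveI : Fact (Nat.Prime 2) := ⟨Nat.prime_two⟩
  obtain ⟨g, hg, h3⟩ := S.edge
  obtain ⟨k, hk⟩ := hH
  set J := H.map (MulAut.conj g).toMonoidHom with hJ
  set D := H ⊓ J with hD
  have hc : Nat.card D = 2 ^ k := by
    have h1 := LocalEvenBasic.card_mul_relIndex_of_le D H inf_le_left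
    rw [hD, inf_relIndex_left, h3, hk] at h1
    rw [hD]; omega
  have hDp : IsPGroup 2 D := IsPGroup.of_card hc
  refine ⟨D, inf_le_left, hDp, by rw [hc, hk], fun hN => ?_⟩
  have hsyl : ∀ Q : Subgroup G, Q ≤ H → Nat.card Q = 2 ^ k →
      ∃ T : Sylow 2 H, (T : Subgroup H) = Q.subgroupOf H := by
    intro Q hQ hQc
    refine ⟨((IsPGroup.of_card hQc).of_equiv (subgroupOfEquivOfLe hQ).symm).toSylow ?_, rfl⟩
    intro hd
    have h1 := Subgroup.card_mul_index (Q.subgroupOf H)
    rw [Nat.card_congr (subgroupOfEquivOfLe hQ).toEquiv, hQc, hk, mul_comm 3] at h1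
    rw [Nat.eq_of_mul_eq_mul_left (pow_pos two_pos k) h1] at hd
    norm_num at hd
  set D' := D.map (MulAut.conj g⁻¹).toMonoidHom with hD'
  have hD'H : D' ≤ H := by
    rintro _ ⟨x, hx, rfl⟩
    obtain ⟨w, hw, rfl⟩ := hx.2
    simpa [mul_assoc] using hw
  obtain ⟨T1, hT1⟩ := hsyl D inf_le_left hc
  obtain ⟨T2, hT2⟩ := hsyl D' hD'H (by rw [hD', card_map_of_injective (MulAut.conj g⁻¹).injective, hc])
  obtain ⟨h, hh⟩ := MulAction.exists_smul_eq H T2 T1
  have he : D'.map (MulAut.conj (h : G)).toMonoidHom = D := by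
    have h2 := congrArg (fun X : Sylow 2 H => (X : Subgroup H).map H.subtype) hh
    simp only [map_subtype_smul, hT1, hT2, map_subgroupOf_eq_of_le hD'H] at h2
    exact h2.trans (map_subgroupOf_eq_of_le inf_le_left)
  have hmem : (h : G) * g⁻¹ ∈ normalizer (D : Set G) := by
    refine mem_norm_iff.mpr ?_
    conv_rhs => rw [← he, hD', map_conj_map]
  have := mul_mem (inv_mem h.2) (hN hmem)
  rw [inv_mul_cancel_left, inv_mem_iff] at this
  exact hg this

end Stab

/-- The stabilizer of a primitive action with a suborbit of length three. -/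
theorem stab_of_primitive {G Ω : Type*} [Group G] [Finite G] [MulAction G Ω] [FaithfulSMul G Ω]
    [Finite Ω] (hsol : ¬ Group.IsSolvable G) (hprim : MulAction.IsPreprimitive G Ω) (a b : Ω)
    (h3 : Nat.card (MulAction.orbit (MulAction.stabilizer G a) b) = 3)
    (hH : Group.IsSolvable (MulAction.stabilizer G a)) : Stab (MulAction.stabilizer G a) := by
  haveI := hprim
  have hfix : ¬ MulAction.stabilizer G a ≤ MulAction.stabilizer G b := by
    intro hle
    haveI : Subsingleton (MulAction.orbit (MulAction.stabilizer G a) b) := ⟨by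
      rintro ⟨_, s, rfl⟩ ⟨_, t, rfl⟩
      exact Subtype.ext ((hle s.2).trans (hle t.2).symm)⟩
    have := Finite.card_le_one_iff_subsingleton.2 ‹Subsingleton (MulAction.orbit (MulAction.stabilizer G a) b)›
    omega
  have hab : a ≠ b := fun h => hfix (by rw [h])
  haveI : Nontrivial Ω := ⟨⟨a, b, hab⟩⟩
  obtain ⟨g, hg⟩ := MulAction.exists_smul_eq G a b
  have hJ : (MulAction.stabilizer G a).map (MulAut.conj g).toMonoidHom = MulAction.stabilizer G b := by
    rw [← hg, MulAction.stabilizer_smul_eq_stabilizer_map_conj]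
  refine ⟨(MulAction.isCoatom_stabilizer_iff_preprimitive G a).2 hprim, fun N hN hNa => ?_, hsol, hH,
    g, fun h => hab ((MulAction.mem_stabilizer_iff.1 h).symm.trans hg), ?_⟩
  · rw [eq_bot_iff]
    intro n hn
    rw [Subgroup.mem_bot]
    refine eq_of_smul_eq_smul (α := Ω) fun x => ?_
    obtain ⟨u, rfl⟩ := MulAction.exists_smul_eq G a x
    have h1 : (u⁻¹ * n * u) • a = a := hNa (by simpa using hN.conj_mem n hn u⁻¹)
    rw [one_smul]
    calc n • u • a = u • (u⁻¹ * n * u) • a := by simp [smul_smul, mul_assoc]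
      _ = u • a := by rw [h1]
  · rw [hJ]
    show ((MulAction.stabilizer G b).subgroupOf (MulAction.stabilizer G a)).index = 3
    rw [show (MulAction.stabilizer G b).subgroupOf (MulAction.stabilizer G a) =
      MulAction.stabilizer (MulAction.stabilizer G a) b from Subgroup.ext fun _ => Iff.rfl,
      Subgroup.index_eq_card, ← Nat.card_congr (MulAction.orbitEquivQuotientStabilizer _ b)]
    exact h3

end CfsgLib.SuborbitThree
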