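import Mathlib.GroupTheory.Perm.Cycle.Type
import Mathlib.GroupTheory.Index
import Mathlib.GroupTheory.GroupAction.Quotient
import Mathlib.Tactic

/-!
# Suborbits of length three: transfer by counting fixed cosets

An involution fixing a multiple of four cosets of a subgroup of index twice an odd number is an odd
permutation of the cosets.
-/

set_option autoImplicit false
set_option linter.style.haveILetI false
set_option linter.unusedSectionVars false

open Subgroup MulAction

namespace CfsgLib.SuborbitThree

variable {G : Type*} [Group G] [Finite G]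

/-- If `M` has index twice an odd number and, for each conjugate `y` of the involution `x` in `M`,
`4 |C_M(y)|` divides `|C(x)|`, then `x` lies outside a subgroup of index two. -/
theorem exists_index_two_of_fixed (M : Subgroup G) {x : G} (hx : orderOf x = 2) {m : ℕ} (hm : Odd m)
    (hidx : M.index = 2 * m)
    (h : ∀ g : G, g⁻¹ * x * g ∈ M →
      4 * Nat.card (M ⊓ centralizer ({g⁻¹ * x * g} : Set G) : Subgroup G) ∣
        Nat.card (centralizer ({x} : Set G))) :
    ∃ K : Subgroup G, K.Normal ∧ K.index = 2 ∧ x ∉ K := by
  classical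
  have : Fintype (G ⧸ M) := Fintype.ofFinite _
  set σ := MulAction.toPermHom G (G ⧸ M) x with hσ
  have hxx : σ ^ 2 = 1 := by rw [hσ, ← map_pow, ← hx, pow_orderOf_eq_one, map_one]
  set C := centralizer ({x} : Set G) with hC
  -- the fixed cosets
  let A : SubMulAction C (G ⧸ M) :=
    { carrier := {q | x • q = q}
      smul_mem' := fun c q hq => by
        show x • ((c : G) • q) = (c : G) • q
        rw [← mul_smul, ← mem_centralizer_singleton_iff.1 c.2, mul_smul, hq] }
  have hA : 4 ∣ Nat.card A := by
    haveI := Fintype.ofFinite (Quotient (MulAction.orbitRel C A))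
    rw [Nat.card_congr (MulAction.selfEquivSigmaOrbitsQuotientStabilizer C A), Nat.card_sigma]
    refine Finset.dvd_sum fun ω _ => ?_
    generalize ω.out = q
    obtain ⟨g, hg⟩ := QuotientGroup.mk_surjective (q : G ⧸ M)
    have hy : g⁻¹ * x * g ∈ M := by
      have h1 : ((x * g : G) : G ⧸ M) = (g : G ⧸ M) := by
        have := q.2
        change x • (q : G ⧸ M) = q at this
        rwa [← hg] at this
      have h2 := QuotientGroup.eq.mp h1.symm
      rwa [← mul_assoc] at h2
    have hst : Nat.card (stabilizer C q) ∣
        Nat.card (M ⊓ centralizer ({g⁻¹ * x * g} : Set G) : Subgroup G) := by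
      let f : stabilizer C q →* (M ⊓ centralizer ({g⁻¹ * x * g} : Set G) : Subgroup G) :=
        { toFun := fun c => ⟨g⁻¹ * ((c : C) : G) * g, by
            have h1 : ((c : C) : G) • (q : G ⧸ M) = q := congrArg Subtype.val c.2
            rw [← hg] at h1
            have h2 : (((c : C) : G) * g : G) = (g : G ⧸ M) := h1
            have h3 := QuotientGroup.eq.mp h2.symm
            rw [← mul_assoc] at h3
            refine ⟨h3, mem_centralizer_singleton_iff.2 ?_⟩
            have hc := mem_centralizer_singleton_iff.1 (c : C).2
            calc g⁻¹ * ((c : C) : G) * g * (g⁻¹ * x * g) = g⁻¹ * (((c : C) : G) * x) * g := by group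
              _ = g⁻¹ * (x * ((c : C) : G)) * g := by rw [hc]
              _ = g⁻¹ * x * g * (g⁻¹ * ((c : C) : G) * g) := by group⟩
          map_one' := Subtype.ext (by simp)
          map_mul' := fun a b => Subtype.ext (by simp [mul_assoc]) }
      refine Subgroup.card_dvd_of_injective f fun a b hab => ?_
      have := congrArg Subtype.val hab
      exact Subtype.ext (Subtype.ext (mul_left_cancel (mul_right_cancel this)))
    have h4 := h g hy
    have hd := (mul_dvd_mul_left 4 hst).trans h4
    rw [← Subgroup.index_eq_card]
    rw [← (stabilizer C q).index_mul_card] at hd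
    exact Nat.dvd_of_mul_dvd_mul_right Nat.card_pos hd
  have hcard : σ.support.card + Nat.card A = 2 * m := by
    rw [← hidx, Subgroup.index_eq_card, Nat.card_eq_fintype_card (α := G ⧸ M),
      ← Finset.card_add_card_compl σ.support]
    congr 1
    rw [← Nat.card_eq_finsetCard]
    refine Nat.card_congr (Equiv.subtypeEquivRight fun q => ?_)
    rw [Finset.mem_compl, Equiv.Perm.notMem_support]
    rfl
  have hct : ∃ k, σ.cycleType = Multiset.replicate k 2 := by
    refine ⟨σ.cycleType.card, Multiset.eq_replicate_card.mpr fun r hr => ?_⟩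
    have h1 : r ∣ 2 := (Equiv.Perm.dvd_of_mem_cycleType hr).trans (orderOf_dvd_of_pow_eq_one hxx)
    have h2 := Equiv.Perm.two_le_of_mem_cycleType hr
    have := Nat.le_of_dvd two_pos h1
    omega
  obtain ⟨k, hk⟩ := hct
  have hk2 : 2 * k = σ.support.card := by
    rw [← Equiv.Perm.sum_cycleType, hk, Multiset.sum_replicate, smul_eq_mul, mul_comm]
  have hkodd : Odd k := by
    obtain ⟨j, hj⟩ := hA
    obtain ⟨i, hi⟩ := hm
    exact ⟨i - j, by omega⟩
  let f : G →* ℤˣ := Equiv.Perm.sign.comp (MulAction.toPermHom G (G ⧸ M))
  have hfx : f x = -1 := by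
    show Equiv.Perm.sign σ = -1
    rw [Equiv.Perm.sign_of_cycleType, hk, Multiset.sum_replicate, Multiset.card_replicate,
      smul_eq_mul]
    refine Odd.neg_one_pow ?_
    obtain ⟨j, rfl⟩ := hkodd
    exact ⟨3 * j + 1, by ring⟩
  refine ⟨f.ker, inferInstance, ?_, ?_⟩
  · rw [Subgroup.index_ker]
    have : f.range = ⊤ := by
      refine eq_top_iff.mpr fun u _ => ?_
      rcases Int.units_eq_one_or u with rfl | rfl
      · exact one_mem _
      · exact ⟨x, hfx⟩
    rw [this, Subgroup.card_top, Nat.card_eq_fintype_card, Fintype.card_units_int]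
  · rw [MonoidHom.mem_ker, hfx]
    decide

end CfsgLib.SuborbitThree
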