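import Cfsg.Agent.SuborbitThree.Basic
import Cfsg.Agent.SuborbitThree.CaseFour
import Cfsg.Agent.SuborbitThree.CaseTwelve
import Cfsg.Agent.SuborbitThree.Transfer
import Cfsg.Agent.Inv53.TransferTwo
import Cfsg.Agent.ZCGroup.Model

/-!
# Suborbits of length three: stabilizer `S₄ × 2`, a subgroup of index two
-/

set_option autoImplicit false
set_option linter.style.haveILetI false
set_option linter.unusedSectionVars false

open Subgroup

namespace CfsgLib.SuborbitThree

universe u

/-- The subgroups of the stabilizer `S₄ × 2`. -/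
structure EightPres {G : Type u} [Group G] (H : Subgroup G) (z : G) (V E : Subgroup G) : Prop where
  card_H : Nat.card H = 48
  ord_z : orderOf z = 2
  cent_z : centralizer ({z} : Set G) = H
  E_le : E ≤ H
  card_E : Nat.card E = 8
  sq_E : ∀ x ∈ E, x * x = 1
  cent_E : centralizer (E : Set G) = E
  norm_E : normalizer (E : Set G) = H
  klein : IsKleinFour V
  V_le : V ≤ E
  z_mem : z ∈ E
  z_notMem : z ∉ V
  norm_V : normalizer (V : Set G) = H
  cent_V : centralizer (V : Set G) = E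
  sq_mem : ∀ h ∈ H, h ^ 16 = 1 → h * h ∈ V
  roots : ∀ v ∈ V, ∃ h ∈ H, h * h = v
  fuse : ∀ v ∈ V, ∀ w ∈ V, v ≠ 1 → w ≠ 1 → ∃ h ∈ H, h * v * h⁻¹ = w

variable {G : Type u} [Group G] [Finite G] {H : Subgroup G}

theorem Stab.exists_eightPres (S : Stab H)
    (hH : Nonempty (H ≃* Equiv.Perm (Fin 4) × Multiplicative (ZMod 2))) :
    ∃ z V E, EightPres H z V E := by
  classical
  obtain ⟨e⟩ := hH
  have k1 : ∀ s : Equiv.Perm (Fin 4), s ^ 16 = 1 → s * s ∈ ZCGroup.kleinS4 := by decide +kernel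
  have k2 : ∀ b : Multiplicative (ZMod 2), b * b = 1 := by decide
  set f : Equiv.Perm (Fin 4) × Multiplicative (ZMod 2) →* G := H.subtype.comp e.symm.toMonoidHom
    with hf
  have hfi : Function.Injective f := H.subtype_injective.comp e.symm.injective
  have hfH : ∀ p, f p ∈ H := fun p => (e.symm p).2
  have hfe : ∀ h : H, f (e h) = (h : G) := fun h => by simp [hf]
  set z := f (1, Multiplicative.ofAdd 1) with hz
  set V := (ZCGroup.kleinS4.prod (⊥ : Subgroup (Multiplicative (ZMod 2)))).map f with hV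
  set E := (ZCGroup.kleinS4.prod (⊤ : Subgroup (Multiplicative (ZMod 2)))).map f with hE
  have hV4 : Nat.card V = 4 := by
    rw [hV, card_map_of_injective hfi, Nat.card_congr (Subgroup.prodEquiv _ _).toEquiv, Nat.card_prod,
      ZCGroup.card_kleinS4, card_bot]
  have hE8 : Nat.card E = 8 := by
    rw [hE, card_map_of_injective hfi, Nat.card_congr (Subgroup.prodEquiv _ _).toEquiv, Nat.card_prod,
      ZCGroup.card_kleinS4, card_top, Nat.card_eq_fintype_card]
    rfl
  have hsqE : ∀ x ∈ E, x * x = 1 := by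
    rintro _ ⟨⟨s, b⟩, ⟨hs, -⟩, rfl⟩
    rw [← map_mul, show ((s, b) : Equiv.Perm (Fin 4) × Multiplicative (ZMod 2)) * (s, b) = 1 from
      Prod.ext (ZCGroup.mem_kleinS4.1 hs).1 (k2 b), map_one]
  have hVE : V ≤ E := map_mono (Subgroup.prod_mono le_rfl bot_le)
  have hEH : E ≤ H := by rintro _ ⟨p, -, rfl⟩; exact hfH p
  have hzE : z ∈ E := ⟨(1, Multiplicative.ofAdd 1), ⟨one_mem _, trivial⟩, rfl⟩
  have hzV : z ∉ V := by
    rintro ⟨⟨s, b⟩, ⟨-, hb⟩, he⟩
    have h1 := congrArg Prod.snd (hfi he)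
    change b = Multiplicative.ofAdd 1 at h1
    have hb' : b = 1 := hb
    rw [hb'] at h1
    revert h1
    clear * -
    decide
  have hz2 : orderOf z = 2 := by
    rw [hz, orderOf_injective f hfi]
    exact Small.orderOf_eq_two_iff_sq.2 ⟨by decide, by decide⟩
  have hklein : IsKleinFour V := by
    refine ⟨hV4, ?_⟩
    haveI : Nontrivial V := Finite.one_lt_card_iff_nontrivial.1 (by omega)
    rw [Monoid.exponent_eq_prime_iff Nat.prime_two]
    intro v hv
    refine orderOf_eq_prime ?_ hv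
    rw [pow_two]
    exact Subtype.ext (hsqE _ (hVE v.2))
  have hnorm : ∀ B : Subgroup (Multiplicative (ZMod 2)),
      H ≤ normalizer (((ZCGroup.kleinS4.prod B).map f : Subgroup G) : Set G) := by
    intro B h hh
    refine mem_norm_iff.2 (eq_of_le_of_card_ge ?_ (card_map_of_injective (MulAut.conj h).injective).ge)
    rintro _ ⟨_, ⟨⟨s, b⟩, ⟨hs, hb⟩, rfl⟩, rfl⟩
    refine ⟨((e ⟨h, hh⟩).1 * s * (e ⟨h, hh⟩).1⁻¹, b), ⟨ZCGroup.kleinS4_normal _ _ hs, hb⟩, ?_⟩
    have h1 : (((e ⟨h, hh⟩).1 * s * (e ⟨h, hh⟩).1⁻¹, b) : Equiv.Perm (Fin 4) × Multiplicative (ZMod 2)) =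
        e ⟨h, hh⟩ * (s, b) * (e ⟨h, hh⟩)⁻¹ := Prod.ext rfl (by simp [mul_inv_cancel_comm])
    rw [h1, map_mul, map_mul, map_inv, hfe]
    rfl
  have hVne : V ≠ ⊥ := fun h => by rw [h, card_bot] at hV4; omega
  have hEne : E ≠ ⊥ := fun h => by rw [h, card_bot] at hE8; omega
  have hcentV : centralizer (V : Set G) = E := by
    refine le_antisymm (fun c hc => ?_) (fun x hx => mem_centralizer_iff.2 fun v hv => ?_)
    · have hcH := S.centralizer_le (hVE.trans hEH) hVne (hnorm _) hc
      refine ⟨e ⟨c, hcH⟩, ⟨ZCGroup.kleinS4_self _ fun k hk => ?_, trivial⟩, hfe _⟩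
      have h1 := mem_centralizer_iff.1 hc (f (k, 1)) ⟨(k, 1), ⟨hk, one_mem _⟩, rfl⟩
      have h2 : (k, 1) * e ⟨c, hcH⟩ = e ⟨c, hcH⟩ * (k, 1) := hfi (by rw [map_mul, map_mul, hfe]; exact h1)
      exact (congrArg Prod.fst h2).symm
    · have h1 := hsqE _ (mul_mem (hVE hv) hx)
      rw [eq_inv_of_mul_eq_one_left h1, _root_.mul_inv_rev,
        inv_eq_of_mul_eq_one_right (hsqE _ hx), inv_eq_of_mul_eq_one_right (hsqE _ (hVE hv))]
  refine ⟨z, V, E, ⟨?_, hz2, ?_, hEH, hE8, hsqE, ?_, S.normalizer_eq hEH hEne (hnorm _), hklein, hVE,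
    hzE, hzV, S.normalizer_eq (hVE.trans hEH) hVne (hnorm _), hcentV, ?_, ?_, ?_⟩⟩
  · rw [Nat.card_congr e.toEquiv, Nat.card_prod, Nat.card_perm, Nat.card_fin,
      Nat.card_eq_fintype_card]
    rfl
  · have hcomm : ∀ h ∈ H, h * z = z * h := by
      intro h hh
      rw [hz, show h = f (e ⟨h, hh⟩) from (hfe ⟨h, hh⟩).symm, ← map_mul, ← map_mul]
      exact congrArg f (Prod.ext (by simp) (mul_comm _ _))
    refine le_antisymm ?_ fun h hh => mem_centralizer_singleton_iff.2 (hcomm h hh)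
    rw [← centralizer_closure, ← zpowers_eq_closure]
    refine S.centralizer_le (zpowers_le.2 (hfH _)) (zpowers_ne_bot.2 (Small.ne_one_of_orderOf_two hz2))
      (le_trans ?_ (centralizer_le_normalizer _))
    intro h hh
    rw [zpowers_eq_closure, centralizer_closure]
    exact mem_centralizer_singleton_iff.2 (hcomm h hh)
  · refine le_antisymm (fun c hc => ?_) fun x hx => mem_centralizer_iff.2 fun y hy => ?_
    · rw [← hcentV]
      exact Subgroup.centralizer_le hVE hc
    · have h1 := hsqE _ (mul_mem hy hx)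
      rw [eq_inv_of_mul_eq_one_left h1, _root_.mul_inv_rev,
        inv_eq_of_mul_eq_one_right (hsqE _ hx), inv_eq_of_mul_eq_one_right (hsqE _ hy)]
  · intro h hh h16
    have h1 : e ⟨h, hh⟩ ^ 16 = 1 := by
      rw [← map_pow]
      exact (congrArg e (Subtype.ext h16)).trans (map_one e)
    refine ⟨e ⟨h, hh⟩ * e ⟨h, hh⟩, ⟨k1 _ (congrArg Prod.fst h1), ?_⟩, by rw [map_mul, hfe]⟩
    simp only [SetLike.mem_coe, mem_bot]
    exact k2 _
  · rintro _ ⟨⟨s, b⟩, ⟨hs, hb⟩, rfl⟩
    obtain ⟨r, hr⟩ := ZCGroup.kleinS4_square s hs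
    refine ⟨f (r, 1), hfH _, ?_⟩
    simp only [SetLike.mem_coe, mem_bot] at hb
    rw [← map_mul]
    exact congrArg f (Prod.ext hr (by rw [show b = 1 from hb]; simp))
  · rintro _ ⟨⟨s, b⟩, ⟨hs, hb⟩, rfl⟩ _ ⟨⟨t, d⟩, ⟨ht, hd⟩, rfl⟩ hs1 ht1
    simp only [SetLike.mem_coe, mem_bot] at hb hd
    have hb' : b = 1 := hb
    have hd' : d = 1 := hd
    subst hb' hd'
    obtain ⟨r, hr⟩ := ZCGroup.kleinS4_transitive s hs t ht
      (fun h => hs1 (by rw [h]; exact map_one f)) (fun h => ht1 (by rw [h]; exact map_one f))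
    refine ⟨f (r, 1), hfH _, ?_⟩
    rw [← map_inv, ← map_mul, ← map_mul]
    exact congrArg f (Prod.ext hr (by simp))

/-- Two subgroups of index two meet in index two. -/
theorem card_inf_two {E X D : Subgroup G} (hE : 2 * Nat.card E = Nat.card D) (hED : E ≤ D)
    (hXD : X ≤ D) (hne : ¬ X ≤ E) : 2 * Nat.card (E ⊓ X : Subgroup G) = Nat.card X := by
  obtain ⟨a, haX, haE⟩ := SetLike.not_le_iff_exists.1 hne
  have hidx : (E.subgroupOf D).index = 2 := by
    have h1 := LocalEvenBasic.card_mul_relIndex_of_le E D hED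
    rw [← hE, mul_comm] at h1
    exact Nat.eq_of_mul_eq_mul_right Nat.card_pos h1
  have h2 : ((E ⊓ X).subgroupOf X).index = 2 := by
    refine index_eq_two_iff.2 ⟨⟨a, haX⟩, fun b => ?_⟩
    have h3 := mul_mem_iff_of_index_two hidx (a := ⟨b, hXD b.2⟩) (b := ⟨a, hXD haX⟩)
    simp only [mem_subgroupOf, Subgroup.coe_mul, mem_inf] at h3 ⊢
    by_cases hb : (b : G) ∈ E
    · exact Or.inr ⟨⟨hb, b.2⟩, fun h => haE ((h3.1 h.1).1 hb)⟩
    · exact Or.inl ⟨⟨h3.2 ⟨fun h => absurd h hb, fun h => absurd h haE⟩, mul_mem b.2 haX⟩,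
        fun h => hb h.1⟩
  have h4 := ((E ⊓ X).subgroupOf X).card_mul_index
  rw [h2, Nat.card_congr (subgroupOfEquivOfLe inf_le_right).toEquiv] at h4
  omega

variable {z : G} {V E : Subgroup G}

/-- An involution outside a self-centralizing elementary subgroup of index two lies in every other
one. -/
theorem invol_mem {X D : Subgroup G} (hE : Nat.card E = 8) (hsqE : ∀ x ∈ E, x * x = 1)
    (hcE : centralizer (E : Set G) = E) (hX : Nat.card X = 8) (hsqX : ∀ x ∈ X, x * x = 1)
    (hD : Nat.card D = 16) (hED : E ≤ D) (hXD : X ≤ D) (hXE : X ≠ E) {u : G} (hu : u ∈ D)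
    (huE : u ∉ E) (hu2 : u * u = 1) : u ∈ X := by
  have hne : ¬ X ≤ E := fun h => hXE (eq_of_le_of_card_ge h (by rw [hE, hX]))
  have h4 := card_inf_two (E := E) (by rw [hE, hD]) hED hXD hne
  obtain ⟨x, hx, hxE⟩ := SetLike.not_le_iff_exists.1 hne
  have hidx : (E.subgroupOf D).index = 2 := by
    have h1 := LocalEvenBasic.card_mul_relIndex_of_le E D hED
    rw [hE, hD] at h1
    have h2 : (E.subgroupOf D).index = E.relIndex D := rfl
    omega
  set v := x * u with hv
  have hvE : v ∈ E := by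
    have h1 := (mul_mem_iff_of_index_two hidx (a := ⟨x, hXD hx⟩) (b := ⟨u, hu⟩))
    rw [mem_subgroupOf, mem_subgroupOf, mem_subgroupOf] at h1
    exact h1.2 ⟨fun h => absurd h hxE, fun h => absurd h huE⟩
  have hu' : u = x * v := by rw [hv, ← mul_assoc, hsqX x hx, one_mul]
  have hcomm : v * x = x * v := by
    rw [hu'] at hu2
    rw [eq_inv_of_mul_eq_one_left hu2, _root_.mul_inv_rev,
      inv_eq_of_mul_eq_one_right (hsqX x hx), inv_eq_of_mul_eq_one_right (hsqE v hvE)]
  set T := E ⊓ centralizer ({x} : Set G) with hT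
  have hle : E ⊓ X ≤ T := by
    intro y hy
    refine ⟨hy.1, mem_centralizer_singleton_iff.2 ?_⟩
    have h1 := hsqX _ (mul_mem hy.2 hx)
    rw [eq_inv_of_mul_eq_one_left h1, _root_.mul_inv_rev,
      inv_eq_of_mul_eq_one_right (hsqX x hx), inv_eq_of_mul_eq_one_right (hsqX y hy.2)]
  have hTE : Nat.card T < 8 := by
    rw [← hE]
    refine lt_of_le_of_ne (Nat.le_of_dvd Nat.card_pos (card_dvd_of_le inf_le_left)) fun h => hxE ?_
    have h5 : T = E := eq_of_le_of_card_ge inf_le_left h.ge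
    rw [← hcE]
    refine mem_centralizer_iff.2 fun y hy => ?_
    exact mem_centralizer_singleton_iff.1 (h5.ge hy).2
  have hTeq : E ⊓ X = T := by
    refine eq_of_le_of_card_ge hle ?_
    have hdvd : Nat.card T ∣ 2 ^ 3 := by
      rw [show (2 : ℕ) ^ 3 = 8 from rfl, ← hE]
      exact card_dvd_of_le inf_le_left
    obtain ⟨j, hj, hj'⟩ := (Nat.dvd_prime_pow Nat.prime_two).1 hdvd
    rw [hj'] at hTE ⊢
    interval_cases j <;> omega
  have hvX : v ∈ E ⊓ X := by
    rw [hTeq]
    exact ⟨hvE, mem_centralizer_singleton_iff.2 hcomm⟩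
  rw [hu']
  exact mul_mem hx hvX.2

theorem elem_eq {X Y D : Subgroup G} (hE : Nat.card E = 8) (hsqE : ∀ x ∈ E, x * x = 1)
    (hcE : centralizer (E : Set G) = E) (hX : Nat.card X = 8) (hsqX : ∀ x ∈ X, x * x = 1)
    (hY : Nat.card Y = 8) (hsqY : ∀ x ∈ Y, x * x = 1) (hD : Nat.card D = 16) (hED : E ≤ D)
    (hXD : X ≤ D) (hYD : Y ≤ D) (hXE : X ≠ E) (hYE : Y ≠ E) : Y = X := by
  refine eq_of_le_of_card_ge (fun y hy => ?_) (by rw [hX, hY])
  obtain ⟨y0, hy0, hy0E⟩ := SetLike.not_le_iff_exists.1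
    (fun h : Y ≤ E => hYE (eq_of_le_of_card_ge h (by rw [hE, hY])))
  have hm : ∀ w ∈ Y, w ∉ E → w ∈ X := fun w hw hwE =>
    invol_mem hE hsqE hcE hX hsqX hD hED hXD hXE (hYD hw) hwE (hsqY w hw)
  by_cases hyE : y ∈ E
  · have h1 : y * y0 ∉ E := fun h => hy0E (by simpa using mul_mem (inv_mem hyE) h)
    have := mul_mem (hm _ (mul_mem hy hy0) h1) (inv_mem (hm _ hy0 hy0E))
    rwa [mul_inv_cancel_right] at this
  · exact hm y hy hyE

/-- There is a normal subgroup of index two avoiding `z`. -/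
theorem EightPres.exists_index_two (S : Stab H) (P : EightPres H z V E) :
    32 ∣ Nat.card G ∧ ∃ K : Subgroup G, K.Normal ∧ K.index = 2 ∧ z ∉ K := by
  classical
  haveI : Fact (Nat.Prime 2) := ⟨Nat.prime_two⟩
  have hz1 : z ≠ 1 := Small.ne_one_of_orderOf_two P.ord_z
  have hz2 := Small.mul_self_of_orderOf_two P.ord_z
  obtain ⟨D, hDH, hDp, hDc, hDN⟩ := S.exists_normalizing ⟨4, by rw [P.card_H]; rfl⟩
  have hD : Nat.card D = 16 := by have := P.card_H; omega
  have hED : E ≤ D := le_of_normalized hDc hDH hDp P.E_le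
    (IsPGroup.of_card (n := 3) (by rw [P.card_E]; rfl)) (hDH.trans P.norm_E.ge)
  have hDne : D ≠ ⊥ := fun h => by rw [h, card_bot] at hD; omega
  have hND := S.inf_normalizer_eq hDH hDne hDc hDN
  set R := normalizer (D : Set G) with hR
  obtain ⟨g, hg, hgH⟩ := SetLike.not_le_iff_exists.1 hDN
  have hgD : g ∉ D := fun h => hgH (hDH h)
  have hDg : D.map (MulAut.conj g).toMonoidHom = D := mem_norm_iff.1 hg
  set E' := E.map (MulAut.conj g).toMonoidHom with hE'
  have hE'D : E' ≤ D := (map_mono hED).trans hDg.le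
  have hE'8 : Nat.card E' = 8 := by
    rw [hE', card_map_of_injective (MulAut.conj g).injective, P.card_E]
  have hsqE' : ∀ x ∈ E', x * x = 1 := by
    rintro _ ⟨x, hx, rfl⟩
    rw [← map_mul, P.sq_E x hx, map_one]
  have hE'E : E' ≠ E := fun h => hgH (P.norm_E.le (mem_norm_iff.2 h))
  have hcases : ∀ Y : Subgroup G, Nat.card Y = 8 → (∀ x ∈ Y, x * x = 1) → Y ≤ D → Y = E ∨ Y = E' :=
    fun Y hY hsY hYD => (em (Y = E)).imp_right fun h =>
      elem_eq P.card_E P.sq_E P.cent_E hE'8 hsqE' hY hsY hD hED hE'D hYD hE'E h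
  have hEgg : E'.map (MulAut.conj g).toMonoidHom = E := by
    rcases hcases _ (by rw [card_map_of_injective (MulAut.conj g).injective, hE'8]) (by
      rintro _ ⟨x, hx, rfl⟩
      rw [← map_mul, hsqE' x hx, map_one]) ((map_mono hE'D).trans hDg.le) with h | h
    · exact h
    · exact absurd (map_injective (MulAut.conj g).injective h) hE'E
  have hg2 : g * g ∈ D := by
    rw [← hND]
    refine ⟨mul_mem hg hg, P.norm_E.le (mem_norm_iff.2 ?_)⟩
    rw [← map_conj_map]
    exact hEgg
  have hRmem : ∀ r ∈ R, r ∉ D → ∃ d ∈ D, r = g * d := by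
    intro r hr hrD
    refine ⟨g⁻¹ * r, ?_, (mul_inv_cancel_left g r).symm⟩
    rw [← hND]
    refine ⟨R.mul_mem (R.inv_mem hg) hr, P.norm_E.le (mem_norm_iff.2 ?_)⟩
    have h1 : E.map (MulAut.conj r).toMonoidHom = E' := by
      rcases hcases _ (by rw [card_map_of_injective (MulAut.conj r).injective, P.card_E]) (by
        rintro _ ⟨x, hx, rfl⟩
        rw [← map_mul, P.sq_E x hx, map_one]) ((map_mono hED).trans (mem_norm_iff.1 hr).le) with h | h
      · refine absurd ?_ hrD
        rw [← hND]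
        exact ⟨hr, P.norm_E.le (mem_norm_iff.2 h)⟩
      · exact h
    rw [← map_conj_map, h1, hE', map_conj_map, inv_mul_cancel, map_conj_one]
  have hDR : D ≤ R := le_normalizer
  have hRidx : (D.subgroupOf R).index = 2 := by
    refine index_eq_two_iff.2 ⟨⟨g, hg⟩, fun b => ?_⟩
    simp only [mem_subgroupOf, Subgroup.coe_mul]
    by_cases hb : (b : G) ∈ D
    · exact Or.inr ⟨hb, fun h => hgD (by simpa using mul_mem (inv_mem hb) h)⟩
    · obtain ⟨d, hd, hbd⟩ := hRmem b b.2 hb
      refine Or.inl ⟨?_, hb⟩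
      rw [hbd, show g * d * g = g * d * g⁻¹ * (g * g) by group]
      exact mul_mem (hDg.le ⟨d, hd, rfl⟩) hg2
  have hR32 : Nat.card R = 32 := by
    have h1 := (D.subgroupOf R).card_mul_index
    rw [hRidx, Nat.card_congr (subgroupOfEquivOfLe hDR).toEquiv, hD] at h1
    omega
  -- the intersection of `E` and `E'`
  set Z0 := E ⊓ E' with hZ0
  have hZ4 : Nat.card Z0 = 4 := by
    have h1 := card_inf_two (E := E) (X := E') (by rw [P.card_E, hD]) hED hE'D
      (fun h => hE'E (eq_of_le_of_card_ge h (by rw [P.card_E, hE'8])))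
    rw [hE'8] at h1
    rw [hZ0]
    omega
  have hDsup : E ⊔ E' = D := by
    refine eq_of_le_of_card_ge (sup_le hED hE'D) ?_
    have hlt : E < E ⊔ E' := lt_of_le_of_ne le_sup_left fun h =>
      hE'E (eq_of_le_of_card_ge (h ▸ le_sup_right) (by rw [P.card_E, hE'8]))
    obtain ⟨j, hj⟩ := card_dvd_of_le hlt.le
    have hne : j ≠ 1 := fun h => hlt.ne (eq_of_le_of_card_ge hlt.le (by rw [hj, h, mul_one]))
    have hpos : j ≠ 0 := fun h => by
      rw [h, mul_zero] at hj
      exact Nat.card_pos.ne' hj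
    rw [hD, hj, P.card_E]
    omega
  have hzc : ∀ d ∈ D, d * z = z * d := fun d hd =>
    mem_centralizer_singleton_iff.1 (P.cent_z.ge (hDH hd))
  have hac : ∀ d ∈ D, d * (g * z * g⁻¹) = g * z * g⁻¹ * d := by
    intro d hd
    obtain ⟨d', hd', rfl⟩ := hDg.ge hd
    show g * d' * g⁻¹ * (g * z * g⁻¹) = g * z * g⁻¹ * (g * d' * g⁻¹)
    calc g * d' * g⁻¹ * (g * z * g⁻¹) = g * (d' * z) * g⁻¹ := by group
      _ = g * (z * d') * g⁻¹ := by rw [hzc d' hd']
      _ = g * z * g⁻¹ * (g * d' * g⁻¹) := by group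
  have hcentE' : ∀ q : G, (∀ x ∈ E', x * q = q * x) → q ∈ E' := by
    intro q hq
    refine ⟨g⁻¹ * q * g, ?_, by simp [mul_assoc]⟩
    refine P.cent_E.le (mem_centralizer_iff.2 fun x hx => ?_)
    have h1 : g * x * g⁻¹ * q = q * (g * x * g⁻¹) := hq _ ⟨x, hx, rfl⟩
    calc x * (g⁻¹ * q * g) = g⁻¹ * (g * x * g⁻¹ * q) * g := by group
      _ = g⁻¹ * (q * (g * x * g⁻¹)) * g := by rw [h1]
      _ = g⁻¹ * q * g * x := by group
  have hzZ : z ∈ Z0 := ⟨P.z_mem, hcentE' z fun x hx => hzc x (hE'D hx)⟩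
  -- the square `c`
  obtain ⟨x0, hx0D, hx0⟩ : ∃ x ∈ D, x * x ≠ 1 := by
    by_contra h
    push Not at h
    have hDE : D ≤ E := by
      intro d hd
      refine P.cent_E.le (mem_centralizer_iff.2 fun x hx => ?_)
      have h1 := h _ (mul_mem (hED hx) hd)
      rw [eq_inv_of_mul_eq_one_left h1, _root_.mul_inv_rev, inv_eq_of_mul_eq_one_right (h d hd),
        inv_eq_of_mul_eq_one_right (h x (hED hx))]
    have := Nat.le_of_dvd Nat.card_pos (card_dvd_of_le hDE)
    rw [hD, P.card_E] at this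
    omega
  have h16 : ∀ d ∈ D, d ^ 16 = 1 := fun d hd => by
    rw [← hD]
    exact congrArg Subtype.val (pow_card_eq_one' (x := (⟨d, hd⟩ : D)))
  have hsqZ : ∀ d ∈ D, d * d ∈ V ⊓ Z0 := by
    intro d hd
    refine ⟨P.sq_mem d (hDH hd) (h16 d hd), ?_, ?_⟩
    · exact mem_subgroupOf.1 (mul_self_mem_of_index_two (H := E.subgroupOf D) (by
        have h1 := (E.subgroupOf D).card_mul_index
        rw [Nat.card_congr (subgroupOfEquivOfLe hED).toEquiv, P.card_E, hD] at h1
        omega) ⟨d, hd⟩)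
    · exact mem_subgroupOf.1 (mul_self_mem_of_index_two (H := E'.subgroupOf D) (by
        have h1 := (E'.subgroupOf D).card_mul_index
        rw [Nat.card_congr (subgroupOfEquivOfLe hE'D).toEquiv, hE'8, hD] at h1
        omega) ⟨d, hd⟩)
  set c := x0 * x0 with hc
  have hcVZ : c ∈ V ⊓ Z0 := hsqZ x0 hx0D
  have hVZ : ∀ q ∈ V ⊓ Z0, q = 1 ∨ q = c := by
    intro q hq
    by_contra h
    push Not at h
    have hVle : V ≤ Z0 := by
      intro v hv
      rcases Small.kleinFour_cases P.klein hq.1 hcVZ.1 hv h.1 hx0 h.2 with rfl | rfl | rfl | rfl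
      · exact one_mem _
      · exact hq.2
      · exact hcVZ.2
      · exact mul_mem hq.2 hcVZ.2
    have : V = Z0 := eq_of_le_of_card_ge hVle (by rw [hZ4, P.klein.card_four])
    exact P.z_notMem (this ▸ hzZ)
  have hgc : g * c * g⁻¹ = c := by
    have hm := hsqZ _ (hDg.le ⟨x0, hx0D, rfl⟩ : g * x0 * g⁻¹ ∈ D)
    have he : g * x0 * g⁻¹ * (g * x0 * g⁻¹) = g * c * g⁻¹ := by rw [hc]; group
    rcases hVZ _ hm with h | h
    · rw [he, mul_inv_eq_one, mul_eq_left] at h
      exact absurd h hx0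
    · rwa [he] at h
  have hZcases : ∀ q ∈ Z0, q = 1 ∨ q = c ∨ q = z ∨ q = z * c := by
    intro q hq
    have hidx : (V.subgroupOf E).index = 2 := by
      have h1 := (V.subgroupOf E).card_mul_index
      rw [Nat.card_congr (subgroupOfEquivOfLe P.V_le).toEquiv, P.klein.card_four, P.card_E] at h1
      omega
    by_cases hqV : q ∈ V
    · rcases hVZ q ⟨hqV, hq⟩ with h | h
      · exact Or.inl h
      · exact Or.inr (Or.inl h)
    · have h1 := mul_mem_iff_of_index_two hidx (a := ⟨z, P.z_mem⟩) (b := ⟨q, hq.1⟩)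
      rw [mem_subgroupOf, mem_subgroupOf, mem_subgroupOf] at h1
      rcases hVZ (z * q) ⟨h1.2 ⟨fun h => absurd h P.z_notMem, fun h => absurd h hqV⟩,
        mul_mem hzZ hq⟩ with h | h
      · right; right; left
        rw [eq_inv_of_mul_eq_one_right h, inv_eq_of_mul_eq_one_right hz2]
      · right; right; right
        rw [← h, ← mul_assoc, hz2, one_mul]
  have hga : g * z * g⁻¹ = z * c := by
    have hm : g * z * g⁻¹ ∈ Z0 :=
      ⟨P.cent_E.le (mem_centralizer_iff.2 fun x hx => hac x (hED hx)), ⟨z, P.z_mem, rfl⟩⟩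
    rcases hZcases _ hm with h | h | h | h
    · rw [mul_inv_eq_one, mul_eq_left] at h
      exact absurd h hz1
    · rw [← hgc] at h
      exact absurd (mul_left_cancel (mul_right_cancel h)) (fun h' => P.z_notMem (h' ▸ hcVZ.1))
    · exact absurd (P.cent_z.le (mem_centralizer_singleton_iff.2 (mul_inv_eq_iff_eq_mul.1 h))) hgH
    · exact h
  have hcD : ∀ d ∈ D, d * c = c * d := by
    intro d hd
    have h1 : c = z * (g * z * g⁻¹) := by rw [hga, ← mul_assoc, hz2, one_mul]
    rw [h1]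
    calc d * (z * (g * z * g⁻¹)) = d * z * (g * z * g⁻¹) := (mul_assoc _ _ _).symm
      _ = z * (d * (g * z * g⁻¹)) := by rw [hzc d hd, mul_assoc]
      _ = z * (g * z * g⁻¹) * d := by rw [hac d hd, ← mul_assoc]
  have hcR : ∀ r ∈ R, r * c * r⁻¹ = c := by
    intro r hr
    by_cases hrD : r ∈ D
    · exact mul_inv_eq_iff_eq_mul.2 (hcD r hrD)
    · obtain ⟨d, hd, rfl⟩ := hRmem r hr hrD
      calc g * d * c * (g * d)⁻¹ = g * (d * c * d⁻¹) * g⁻¹ := by group
        _ = c := by rw [mul_inv_eq_iff_eq_mul.2 (hcD d hd), hgc]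
  have hzR : ∀ r ∈ R, r ∉ D → r * z * r⁻¹ = z * c := by
    intro r hr hrD
    obtain ⟨d, hd, rfl⟩ := hRmem r hr hrD
    calc g * d * z * (g * d)⁻¹ = g * (d * z * d⁻¹) * g⁻¹ := by group
      _ = z * c := by rw [mul_inv_eq_iff_eq_mul.2 (hzc d hd), hga]
  -- `R` is a Sylow subgroup
  have hRp : IsPGroup 2 R := IsPGroup.of_card (n := 5) (by rw [hR32]; rfl)
  obtain ⟨T, hRT⟩ := hRp.exists_le_sylow
  have hTR : (T : Subgroup G) = R := by
    by_contra hne
    haveI : Group.IsNilpotent (T : Subgroup G) := T.isPGroup'.isNilpotent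
    have hlt : R.subgroupOf (T : Subgroup G) < ⊤ := lt_top_iff_ne_top.2 fun h =>
      hne (le_antisymm (subgroupOf_eq_top.1 h) hRT)
    obtain ⟨-, s, hs, hsR⟩ := SetLike.lt_iff_le_and_exists.1
      (Group.normalizerCondition_of_isNilpotent (G := (T : Subgroup G)) _ hlt)
    have hsN : (s : G) ∈ normalizer (R : Set G) := by
      rw [mem_normalizer_iff]
      intro w
      refine ⟨fun hw => mem_subgroupOf.1 ((mem_normalizer_iff.1 hs ⟨w, hRT hw⟩).1 hw), fun hw => ?_⟩
      have hwT : w ∈ (T : Subgroup G) := by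
        have := mul_mem (mul_mem (inv_mem s.2) (hRT hw)) s.2
        simpa [mul_assoc] using this
      exact mem_subgroupOf.1 ((mem_normalizer_iff.1 hs ⟨w, hwT⟩).2 hw)
    have hinD : ∀ Y : Subgroup G, Nat.card Y = 8 → (∀ x ∈ Y, x * x = 1) → Y ≤ R → Y ≤ D := by
      intro Y hY hsY hYR
      by_contra hne
      obtain ⟨y, hy, hyD⟩ := SetLike.not_le_iff_exists.1 hne
      have h4 := card_inf_two (E := D) (X := Y) (by rw [hD, hR32]) hDR hYR hne
      have hcy : ∀ w ∈ Y, y * w * y⁻¹ = w := by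
        intro w hw
        rw [mul_inv_eq_iff_eq_mul, eq_inv_of_mul_eq_one_left (hsY _ (mul_mem hy hw)),
          _root_.mul_inv_rev, inv_eq_of_mul_eq_one_right (hsY y hy),
          inv_eq_of_mul_eq_one_right (hsY w hw)]
      have hyE : ∀ w ∈ E, y * w * y⁻¹ ∈ E' := by
        intro w hw
        obtain ⟨d, hd, rfl⟩ := hRmem y (hYR hy) hyD
        refine ⟨d * w * d⁻¹, ?_, by simp [mul_assoc]⟩
        exact (mem_normalizer_iff.1 (P.norm_E.ge (hDH hd)) w).1 hw
      by_cases hsub : D ⊓ Y ≤ E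
      · have hle : D ⊓ Y ≤ Z0 := fun w hw => ⟨hsub hw, hcy w hw.2 ▸ hyE w (hsub hw)⟩
        have heq : D ⊓ Y = Z0 := eq_of_le_of_card_ge hle (by rw [hZ4]; omega)
        have hzY : z ∈ Y := (heq.ge hzZ).2
        refine hyD (hND ▸ ⟨hYR hy, P.cent_z.le (mem_centralizer_singleton_iff.2 ?_)⟩)
        exact mul_inv_eq_iff_eq_mul.1 (hcy z hzY)
      · obtain ⟨w, hw, hwE⟩ := SetLike.not_le_iff_exists.1 hsub
        have hwE' : w ∈ E' := invol_mem P.card_E P.sq_E P.cent_E hE'8 hsqE' hD hED hE'D hE'E hw.1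
          hwE (hsY w hw.2)
        apply hwE
        have hy2 : y * y = 1 := hsY y hy
        obtain ⟨d, hd, rfl⟩ := hRmem y (hYR hy) hyD
        obtain ⟨w0, hw0, rfl⟩ := hwE'
        have h1 := hcy _ hw.2
        have h2 : g * d * (g * w0 * g⁻¹) * (g * d)⁻¹ ∈ E := by
          have hdE' : d * (g * w0 * g⁻¹) * d⁻¹ ∈ E' := by
            refine ⟨g⁻¹ * d * g * w0 * (g⁻¹ * d * g)⁻¹, ?_, by simp [mul_assoc]⟩
            refine (mem_normalizer_iff.1 (P.norm_E.ge (hDH ?_)) w0).1 hw0
            obtain ⟨d', hd', hd''⟩ := hDg.ge hd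
            have : g * d' * g⁻¹ = d := hd''
            rw [← this]
            simpa [mul_assoc] using hd'
          have h3 := hEgg.le ⟨_, hdE', rfl⟩
          simpa [mul_assoc] using h3
        exact h1 ▸ h2
    have hsE : ∀ Y : Subgroup G, Nat.card Y = 8 → (∀ x ∈ Y, x * x = 1) → Y ≤ D →
        Y.map (MulAut.conj (s : G)).toMonoidHom ≤ D := fun Y hY hsY hYD => hinD _
      (by rw [card_map_of_injective (MulAut.conj (s : G)).injective, hY])
      (by rintro _ ⟨x, hx, rfl⟩; rw [← map_mul, hsY x hx, map_one])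
      ((map_mono (hYD.trans hDR)).trans (mem_norm_iff.1 hsN).le)
    apply hsR
    show (s : G) ∈ R
    refine mem_norm_iff.2 (eq_of_le_of_card_ge ?_ (card_map_of_injective
      (MulAut.conj (s : G)).injective).ge)
    conv_lhs => rw [← hDsup]
    rw [Subgroup.map_sup]
    exact sup_le (hsE E P.card_E P.sq_E hED) (hsE E' hE'8 hsqE' hE'D)
  have h32 : 32 ∣ Nat.card G := hR32 ▸ card_subgroup_dvd_card R
  -- the invariant dihedral subgroup
  set W := V.map (MulAut.conj g).toMonoidHom with hW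
  have hVH : V ≤ H := P.V_le.trans P.E_le
  have hVD : V ≤ D := P.V_le.trans hED
  have hWE' : W ≤ E' := map_mono P.V_le
  have hWD : W ≤ D := hWE'.trans hE'D
  have hDV : D ≤ normalizer (V : Set G) := hDH.trans P.norm_V.ge
  have hDW : D ≤ normalizer (W : Set G) := by
    intro d hd
    refine mem_norm_iff.2 ?_
    obtain ⟨d', hd', rfl⟩ := hDg.ge hd
    rw [hW, map_conj_map]
    conv_rhs => rw [← mem_norm_iff.1 (hDV hd'), map_conj_map]
    congr 1
    simp [mul_assoc]
  have hWg : W.map (MulAut.conj g).toMonoidHom = V := by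
    rw [hW, map_conj_map]
    exact mem_norm_iff.1 (hDV hg2)
  have hVW : ∀ q, q ∈ V → q ∈ W → q = 1 ∨ q = c := fun q hq hq' =>
    hVZ q ⟨hq, P.V_le hq, hWE' hq'⟩
  set M0 := V ⊔ W with hM0
  have hM0D : M0 ≤ D := sup_le hVD hWD
  have hM0mul : ∀ q ∈ M0, ∃ v ∈ V, ∃ w ∈ W, v * w = q := by
    intro q hq
    rw [← SetLike.mem_coe, hM0, coe_mul_of_right_le_normalizer_left V W (hWD.trans hDV)] at hq
    exact Set.mem_mul.1 hq
  have hM0E : ∀ q ∈ M0, q ∈ E → q ∈ V := by
    intro q hq hqE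
    obtain ⟨v, hv, w, hw, rfl⟩ := hM0mul q hq
    have hwE : w ∈ E := by
      have := mul_mem (inv_mem (P.V_le hv)) hqE
      rwa [inv_mul_cancel_left] at this
    obtain ⟨v', hv', hv''⟩ := hw
    have hv''' : g * v' * g⁻¹ = w := hv''
    rcases hZcases w ⟨hwE, hWE' ⟨v', hv', hv''⟩⟩ with h | h | h | h
    · rw [h, mul_one]; exact hv
    · rw [h]; exact mul_mem hv hcVZ.1
    · exfalso
      refine P.z_notMem ?_
      have h1 : g * w * g⁻¹ ∈ V := hWg.le ⟨_, ⟨v', hv', hv''⟩, rfl⟩
      rw [h, hga] at h1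
      have := mul_mem h1 (inv_mem hcVZ.1)
      rwa [mul_inv_cancel_right] at this
    · exfalso
      rw [h, ← hga] at hv'''
      exact P.z_notMem (mul_left_cancel (mul_right_cancel hv''') ▸ hv')
  have hzM0 : z ∉ M0 := fun h => P.z_notMem (hM0E z h P.z_mem)
  have hM0g : M0.map (MulAut.conj g).toMonoidHom = M0 := by
    rw [hM0, Subgroup.map_sup, hWg, ← hW, sup_comm]
  have hM0R : ∀ r ∈ R, ∀ m ∈ M0, r * m * r⁻¹ ∈ M0 := by
    have hD0 : D ≤ normalizer (M0 : Set G) := by
      intro d hd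
      refine mem_norm_iff.2 ?_
      rw [hM0, Subgroup.map_sup, mem_norm_iff.1 (hDV hd), mem_norm_iff.1 (hDW hd)]
    have hR0 : R ≤ normalizer (M0 : Set G) := by
      intro r hr
      by_cases hrD : r ∈ D
      · exact hD0 hrD
      · obtain ⟨d, hd, rfl⟩ := hRmem r hr hrD
        exact mul_mem (mem_norm_iff.2 hM0g) (hD0 hd)
    exact fun r hr m hm => (mem_normalizer_iff.1 (hR0 hr) m).1 hm
  have hVne : V ≠ W := fun h => hgH (P.norm_V.le (mem_norm_iff.2 h.symm))
  have hM08 : Nat.card M0 = 8 := by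
    have hd : Nat.card M0 ∣ 2 ^ 4 := by
      rw [show (2 : ℕ) ^ 4 = 16 from rfl, ← hD]; exact card_dvd_of_le hM0D
    have hlt : Nat.card M0 < 16 := by
      refine lt_of_le_of_ne (Nat.le_of_dvd (by norm_num) hd) fun h => hzM0 ?_
      rw [eq_of_le_of_card_ge hM0D (by rw [h, hD])]
      exact hED P.z_mem
    have hgt : 4 < Nat.card M0 := by
      by_contra h
      have h4 : V = M0 := eq_of_le_of_card_ge le_sup_left (by rw [P.klein.card_four]; omega)
      refine hVne (eq_of_le_of_card_ge (h4.symm ▸ le_sup_right) ?_).symm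
      rw [hW, card_map_of_injective (MulAut.conj g).injective]
    obtain ⟨j, hj, hj'⟩ := (Nat.dvd_prime_pow Nat.prime_two).1 hd
    rw [hj'] at hlt hgt ⊢
    interval_cases j <;> omega
  have hM0idx : (M0.subgroupOf D).index = 2 := by
    have h1 := (M0.subgroupOf D).card_mul_index
    rw [Nat.card_congr (subgroupOfEquivOfLe hM0D).toEquiv, hM08, hD] at h1
    omega
  have hinvM0 : ∀ q ∈ M0, q * q = 1 → q ∈ V ∨ q ∈ W := by
    intro q hq hq2
    by_cases hqE : q ∈ E
    · exact Or.inl (hM0E q hq hqE)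
    refine Or.inr ?_
    have hqE' := invol_mem P.card_E P.sq_E P.cent_E hE'8 hsqE' hD hED hE'D hE'E (hM0D hq) hqE hq2
    obtain ⟨q0, hq0, rfl⟩ := hqE'
    refine ⟨q0, hM0E q0 ?_ hq0, rfl⟩
    obtain ⟨m, hm, hm'⟩ := hM0g.ge hq
    exact (MulAut.conj g).injective hm' ▸ hm
  have hswap : ∀ r ∈ R, r ∉ D → ∀ v ∈ V, r * v * r⁻¹ ∈ W := by
    intro r hr hrD v hv
    obtain ⟨d, hd, rfl⟩ := hRmem r hr hrD
    exact ⟨d * v * d⁻¹, (mem_normalizer_iff.1 (hDV hd) v).1 hv, by simp [mul_assoc]⟩
  have hswap' : ∀ r ∈ R, r ∉ D → ∀ w ∈ W, r * w * r⁻¹ ∈ V := by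
    intro r hr hrD w hw
    obtain ⟨d, hd, rfl⟩ := hRmem r hr hrD
    have h1 : g * (d * w * d⁻¹) * g⁻¹ ∈ V :=
      hWg.le ⟨_, (mem_normalizer_iff.1 (hDW hd) w).1 hw, rfl⟩
    simpa [mul_assoc] using h1
  have hc1 : c ≠ 1 := hx0
  refine ⟨h32, ?_⟩
  suffices hK : ∃ K : Subgroup G, K.Normal ∧ K.index = 2 by
    obtain ⟨K, hKn, hK2⟩ := hK
    refine ⟨K, hKn, hK2, fun hzK => ?_⟩
    have hVK : V ≤ K := by
      intro v hv
      obtain ⟨h, -, rfl⟩ := P.roots v hv
      exact mul_self_mem_of_index_two hK2 h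
    have hEK : E ≤ K := by
      intro q hq
      by_cases hqV : q ∈ V
      · exact hVK hqV
      have hidx : (V.subgroupOf E).index = 2 := by
        have h1 := (V.subgroupOf E).card_mul_index
        rw [Nat.card_congr (subgroupOfEquivOfLe P.V_le).toEquiv, P.klein.card_four, P.card_E] at h1
        omega
      have h1 := mul_mem_iff_of_index_two hidx (a := ⟨z, P.z_mem⟩) (b := ⟨q, hq⟩)
      rw [mem_subgroupOf, mem_subgroupOf, mem_subgroupOf] at h1
      have h2 := hVK (h1.2 ⟨fun h => absurd h P.z_notMem, fun h => absurd h hqV⟩)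
      simpa using mul_mem (inv_mem hzK) h2
    have hE'K : E' ≤ K := by rintro _ ⟨q, hq, rfl⟩; exact hKn.conj_mem q (hEK hq) g
    have hDK : D ≤ K := hDsup ▸ sup_le hEK hE'K
    have hd2 : K.relIndex H ∣ 2 := hK2 ▸ relIndex_dvd_index_of_normal K H
    have hd3 : K.relIndex H ∣ 3 := by
      refine (relIndex_dvd_of_le_left H hDK).trans (dvd_of_eq ?_)
      have h1 := LocalEvenBasic.card_mul_relIndex_of_le D H hDH
      rw [hD, P.card_H] at h1
      omega
    have hHK : H ≤ K := relIndex_eq_one.1 (Nat.eq_one_of_dvd_coprimes (by norm_num) hd2 hd3)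
    rcases hHK.eq_or_lt with h | h
    · have hH : H = ⊥ := S.core H (h ▸ hKn) le_rfl
      have := P.card_H
      rw [hH, card_bot] at this
      omega
    · rw [S.coatom.2 K h, index_top] at hK2
      omega
  by_cases hA : ∃ g' ∈ R, g' ∉ D ∧ g' * g' ∈ M0
  · -- counting fixed cosets
    obtain ⟨g', hg', hg'D, hg'2⟩ := hA
    have hconj : ∀ m ∈ M0, g'⁻¹ * m * g' ∈ M0 := fun m hm => by
      simpa using hM0R g'⁻¹ (inv_mem hg') m hm
    let M : Subgroup G :=
      { carrier := {q | q ∈ M0 ∨ q * g' ∈ M0}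
        one_mem' := Or.inl (one_mem _)
        mul_mem' := by
          rintro p q (hp | hp) (hq | hq)
          · exact Or.inl (mul_mem hp hq)
          · exact Or.inr (by rw [mul_assoc]; exact mul_mem hp hq)
          · refine Or.inr ?_
            rw [show p * q * g' = p * g' * (g'⁻¹ * q * g') by group]
            exact mul_mem hp (hconj q hq)
          · refine Or.inl ?_
            rw [show p * q = p * g' * (g'⁻¹ * (q * g') * g') * (g' * g')⁻¹ by group]
            exact mul_mem (mul_mem hp (hconj _ hq)) (inv_mem hg'2)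
        inv_mem' := by
          rintro q (hq | hq)
          · exact Or.inl (inv_mem hq)
          · refine Or.inr ?_
            rw [show q⁻¹ * g' = g' * (q * g')⁻¹ * g'⁻¹ * (g' * g') by group]
            exact mul_mem (hM0R g' hg' _ (inv_mem hq)) hg'2 }
    have hmemM : ∀ q, q ∈ M ↔ q ∈ M0 ∨ q * g' ∈ M0 := fun q => Iff.rfl
    have hM0M : M0 ≤ M := fun q hq => Or.inl hq
    have hMR : M ≤ R := by
      rintro q (hq | hq)
      · exact hDR (hM0D hq)
      · have := mul_mem (hDR (hM0D hq)) (inv_mem hg')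
        rwa [mul_inv_cancel_right] at this
    have hMout : ∀ q ∈ M, q ∉ M0 → q ∉ D := by
      rintro q (hq | hq) hq' hqD
      · exact hq' hq
      · refine hg'D ?_
        have := mul_mem (inv_mem hqD) (hM0D hq)
        rwa [inv_mul_cancel_left] at this
    have hg'M : g' ∈ M := Or.inr hg'2
    have hMidx : (M0.subgroupOf M).index = 2 := by
      refine index_eq_two_iff.2 ⟨⟨g', hg'M⟩, fun b => ?_⟩
      simp only [mem_subgroupOf, Subgroup.coe_mul]
      by_cases hb : (b : G) ∈ M0
      · refine Or.inr ⟨hb, fun h => hg'D (hM0D ?_)⟩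
        simpa using mul_mem (inv_mem hb) h
      · exact Or.inl ⟨((hmemM _).1 b.2).resolve_left hb, hb⟩
    have hM16 : Nat.card M = 16 := by
      have h1 := (M0.subgroupOf M).card_mul_index
      rw [hMidx, Nat.card_congr (subgroupOfEquivOfLe hM0M).toEquiv, hM08] at h1
      omega
    have hRodd : Odd R.index := by
      rw [Nat.odd_iff]
      have := T.not_dvd_index
      rw [hTR] at this
      omega
    have hidx : M.index = 2 * R.index := by
      have h1 := LocalEvenBasic.card_mul_relIndex_of_le M R hMR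
      rw [hM16, hR32] at h1
      rw [← relIndex_mul_index hMR, show M.relIndex R = 2 by omega]
    obtain ⟨K, hKn, hK2, -⟩ := exists_index_two_of_fixed M P.ord_z hRodd hidx (fun u hy => by
      set y := u⁻¹ * z * u with hy'
      have hy2 : y * y = 1 := by
        rw [hy', show u⁻¹ * z * u * (u⁻¹ * z * u) = u⁻¹ * (z * z) * u by group, hz2]; group
      have hy1 : y ≠ 1 := fun h => hz1 (by
        rw [hy', mul_eq_one_iff_eq_inv, mul_eq_left] at h
        exact h)
      -- `y` is not conjugate into `V`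
      have hcard : ¬ 32 ∣ Nat.card (centralizer ({z} : Set G)) := by
        rw [P.cent_z, P.card_H]; norm_num
      have hnV : ∀ v ∈ V, v ≠ 1 → ∀ k : G, k * z * k⁻¹ ≠ v := by
        intro v hv hv1 k hk
        obtain ⟨h, -, hh⟩ := P.fuse v hv c hcVZ.1 hv1 hc1
        rw [← hk] at hh
        have hle : R.map (MulAut.conj (h * k)⁻¹).toMonoidHom ≤ centralizer ({z} : Set G) := by
          rintro _ ⟨r, hr, rfl⟩
          refine mem_centralizer_singleton_iff.2 ?_
          have h1 : r * c = c * r := mul_inv_eq_iff_eq_mul.1 (hcR r hr)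
          rw [← hh] at h1
          show (h * k)⁻¹ * r * (h * k)⁻¹⁻¹ * z = z * ((h * k)⁻¹ * r * (h * k)⁻¹⁻¹)
          calc (h * k)⁻¹ * r * (h * k)⁻¹⁻¹ * z
              = (h * k)⁻¹ * (r * (h * (k * z * k⁻¹) * h⁻¹)) * (h * k) := by group
            _ = (h * k)⁻¹ * (h * (k * z * k⁻¹) * h⁻¹ * r) * (h * k) := by rw [h1]
            _ = z * ((h * k)⁻¹ * r * (h * k)⁻¹⁻¹) := by group
        have h2 := card_dvd_of_le hle
        rw [card_map_of_injective (show Function.Injective (MulAut.conj (h * k)⁻¹).toMonoidHom from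
          (MulAut.conj (h * k)⁻¹).injective), hR32] at h2
        exact hcard h2
      have hyM0 : y ∉ M0 := by
        intro h
        rcases hinvM0 y h hy2 with h' | h'
        · exact hnV y h' hy1 u⁻¹ (by rw [hy', inv_inv])
        · obtain ⟨v, hv, hve⟩ := h'
          have hve' : g * v * g⁻¹ = y := hve
          refine hnV v hv (fun h1 => hy1 (by rw [← hve', h1]; group)) (g⁻¹ * u⁻¹) ?_
          rw [show v = g⁻¹ * y * g by rw [← hve']; group, hy']
          group
      have hyR := hMR hy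
      have hyD := hMout y hy hyM0
      set Cy := M ⊓ centralizer ({y} : Set G) with hCy
      have hfix : ∀ q ∈ M0, q * y = y * q → q = 1 ∨ q = c := by
        intro q hq hqy
        have hq' : y * q * y⁻¹ = q := mul_inv_eq_iff_eq_mul.2 hqy.symm
        by_cases hq2 : q * q = 1
        · rcases hinvM0 q hq hq2 with h | h
          · exact hVW q h (hq' ▸ hswap y hyR hyD q h)
          · exact hVW q (hq' ▸ hswap' y hyR hyD q h) h
        exfalso
        obtain ⟨v, hv, w, hw, rfl⟩ := hM0mul q hq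
        have hv1 : v ≠ 1 ∧ v ≠ c := by
          refine ⟨fun h => hq2 ?_, fun h => hq2 ?_⟩
          · rw [h, one_mul]; exact hsqE' w (hWE' hw)
          · rw [h]
            exact hsqE' _ (mul_mem hcVZ.2.2 (hWE' hw))
        set w1 := y * v * y⁻¹ with hw1
        have hw1W : w1 ∈ W := hswap y hyR hyD v hv
        have hyw1 : y * w1 * y⁻¹ = v := by
          rw [hw1, show y * (y * v * y⁻¹) * y⁻¹ = y * y * v * (y * y)⁻¹ by group, hy2]
          group
        have hdiff : w1⁻¹ * w = 1 ∨ w1⁻¹ * w = c := by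
          obtain ⟨a, ha, hae⟩ := hw1W
          obtain ⟨b, hb, hbe⟩ := hw
          have ha' : g * a * g⁻¹ = w1 := hae
          have hb' : g * b * g⁻¹ = w := hbe
          have haZ : a ∉ V ⊓ Z0 := by
            intro h
            have : w1 = 1 ∨ w1 = c := by
              rcases hVZ a h with h | h
              · left; rw [← ha', h]; group
              · right; rw [← ha', h, hgc]
            rcases this with h | h
            · exact hv1.1 (by rw [← hyw1, h]; group)
            · exact hv1.2 (by rw [← hyw1, h, hcR y hyR])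
          have ha1 : a ≠ 1 := fun h => haZ (h ▸ one_mem _)
          have hac' : a ≠ c := fun h => haZ (h ▸ hcVZ)
          rcases Small.kleinFour_cases P.klein ha hcVZ.1 hb ha1 hc1 hac' with h | h | h | h
          · exfalso; apply hq2
            have hw0 : w = 1 := by rw [← hb', h]; group
            rw [hw0, mul_one]; exact P.sq_E v (P.V_le hv)
          · left; rw [← hb', ← ha', h]; group
          · exfalso; apply hq2
            have hw0 : w = c := by rw [← hb', h, hgc]
            rw [hw0]; exact P.sq_E _ (mul_mem (P.V_le hv) (P.V_le hcVZ.1))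
          · right
            calc w1⁻¹ * w = g * a⁻¹ * g⁻¹ * (g * (a * c) * g⁻¹) := by rw [← hb', ← ha', h]; group
              _ = g * c * g⁻¹ := by group
              _ = c := hgc
        have hww : w = w1 * (w1⁻¹ * w) := (mul_inv_cancel_left w1 w).symm
        set k := w1⁻¹ * w with hk
        have hkc : y * k * y⁻¹ = k := by
          rcases hdiff with h | h <;> rw [h]
          · group
          · exact hcR y hyR
        have hkv : v * k = k * v := by
          rcases hdiff with h | h <;> rw [h]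
          · simp
          · exact hcD v (hVD hv)
        have h1 : w1 * (v * k) = v * w1 * k := by
          calc w1 * (v * k) = y * v * y⁻¹ * (y * w1 * y⁻¹) * (y * k * y⁻¹) := by
                rw [hyw1, hkc]; simp only [hw1, mul_assoc]
            _ = y * (v * (w1 * k)) * y⁻¹ := by group
            _ = v * (w1 * k) := by rw [← hww]; exact hq'
            _ = v * w1 * k := (mul_assoc _ _ _).symm
        have h2 : w1 * v = v * w1 := by
          rw [← mul_assoc] at h1
          exact mul_right_cancel h1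
        have hw1E : w1 ∈ E := by
          rw [← P.cent_V]
          refine mem_centralizer_iff.2 fun t ht => ?_
          rcases Small.kleinFour_cases P.klein hv hcVZ.1 ht hv1.1 hc1 hv1.2 with rfl | rfl | rfl | rfl
          · simp
          · exact h2.symm
          · exact (hcD w1 (hWD hw1W)).symm
          · rw [mul_assoc, ← hcD w1 (hWD hw1W), ← mul_assoc, ← h2, mul_assoc]
        rcases hVW w1 (hM0E w1 (mem_sup_right hw1W) hw1E) hw1W with h | h
        · exact hv1.1 (by rw [← hyw1, h]; group)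
        · exact hv1.2 (by rw [← hyw1, h, hcR y hyR])
      have h2 : Nat.card (M0 ⊓ Cy : Subgroup G) ≤ 2 := by
        rw [← SetLike.coe_sort_coe, Nat.card_coe_set_eq]
        refine (Set.ncard_le_ncard (t := {1, c}) (fun q hq => ?_) (Set.toFinite _)).trans
          ((Set.ncard_insert_le _ _).trans (by rw [Set.ncard_singleton]))
        exact hfix q hq.1 (mem_centralizer_singleton_iff.1 hq.2.2)
      have h4 : Nat.card Cy ≤ 4 := by
        by_cases hsub : Cy ≤ M0
        · rw [inf_eq_right.2 hsub] at h2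
          omega
        · have := card_inf_two (E := M0) (X := Cy) (by rw [hM08, hM16]) hM0M inf_le_left hsub
          omega
      have hd : Nat.card Cy ∣ 2 ^ 4 := by
        rw [show (2 : ℕ) ^ 4 = 16 from rfl, ← hM16]; exact card_dvd_of_le inf_le_left
      rw [P.cent_z, P.card_H]
      obtain ⟨j, hj, hj'⟩ := (Nat.dvd_prime_pow Nat.prime_two).1 hd
      rw [hj'] at h4 ⊢
      interval_cases j
      all_goals first
        | (norm_num at h4; done)
        | (norm_num; done))
    exact ⟨K, hKn, hK2⟩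
  · -- all elements outside `D` have order eight
    push Not at hA
    have hD4 : ∀ d ∈ D, d ^ 4 = 1 := fun d hd => by
      rw [show (4 : ℕ) = 2 * 2 from rfl, pow_mul, pow_two, pow_two]
      exact Small.kleinFour_mul_self P.klein (hsqZ d hd).1
    have hord : ∀ q ∈ R, q ∉ D → q ^ 4 ≠ 1 := by
      intro q hq hqD h4
      have hq2D : q * q ∈ D :=
        mem_subgroupOf.1 (mul_self_mem_of_index_two hRidx ⟨q, hq⟩)
      set m := z * (q * q) with hm
      have hmM : m ∈ M0 := by
        have h1 := mul_mem_iff_of_index_two hM0idx (a := ⟨z, hED P.z_mem⟩) (b := ⟨q * q, hq2D⟩)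
        rw [mem_subgroupOf, mem_subgroupOf, mem_subgroupOf] at h1
        exact h1.2 ⟨fun h => absurd h hzM0, fun h => absurd h (hA q hq hqD)⟩
      have hm2 : m * m = 1 := by
        have h4' : q * q * (q * q) = 1 := by rw [← h4]; simp [pow_succ, mul_assoc]
        rw [hm, show z * (q * q) * (z * (q * q)) = z * (q * q * z) * (q * q) by group, hzc _ hq2D,
          show z * (z * (q * q)) * (q * q) = z * z * (q * q * (q * q)) by group, hz2, h4', one_mul]
      have hqm : q * m * q⁻¹ = m * c := by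
        have hcm : q * q * c = c * (q * q) := hcD _ hq2D
        calc q * m * q⁻¹ = q * z * q⁻¹ * (q * q) := by rw [hm]; group
          _ = z * c * (q * q) := by rw [hzR q hq hqD]
          _ = z * (q * q * c) := by rw [mul_assoc, hcm]
          _ = m * c := by rw [hm, ← mul_assoc]
      have key : m = 1 ∨ m = c := by
        rcases hinvM0 m hmM hm2 with h | h
        · have h1 := hswap q hq hqD m h
          rw [hqm] at h1
          rcases hVW _ (mul_mem h hcVZ.1) h1 with h2 | h2
          · right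
            rw [eq_inv_of_mul_eq_one_left h2,
              inv_eq_of_mul_eq_one_right (Small.kleinFour_mul_self P.klein hcVZ.1)]
          · left; exact mul_eq_right.1 h2
        · have h1 := hswap' q hq hqD m h
          rw [hqm] at h1
          refine hVW m ?_ h
          have := mul_mem h1 (inv_mem hcVZ.1)
          rwa [mul_inv_cancel_right] at this
      rcases key with h | h <;> rw [h] at hqm
      · rw [mul_one, mul_inv_cancel, one_mul] at hqm
        exact hc1 hqm.symm
      · rw [hcR q hq] at hqm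
        exact hc1 (left_eq_mul.1 hqm)
    have hg8 : orderOf g = 2 ^ 3 := by
      refine orderOf_eq_prime_pow (hord g hg hgD) ?_
      rw [show (2 : ℕ) ^ (2 + 1) = 2 * 4 from rfl, pow_mul, pow_two]
      exact hD4 _ hg2
    obtain ⟨K, hKn, hK2, -⟩ := Inv53.exists_index_two_notMem T D (hTR ▸ hDR) (by rw [hTR]; exact hRidx)
      (n := 3) (by norm_num) (fun q hqT hqD => by
        rw [hTR] at hqT
        obtain ⟨k, hk⟩ := IsPGroup.iff_orderOf.1 hRp ⟨q, hqT⟩
        rw [← Subgroup.orderOf_coe] at hk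
        rw [hk]
        refine Nat.pow_lt_pow_right (by norm_num) ?_
        by_contra h
        refine hord q hqT hqD (orderOf_dvd_iff_pow_eq_one.1 ?_)
        rw [hk, show (4 : ℕ) = 2 ^ 2 from rfl]
        exact pow_dvd_pow 2 (by omega))
      hg8 (fun k hk => hord g hg hgD (by
        have h1 := hD4 _ hk
        rwa [conj_pow, mul_inv_eq_one, mul_eq_left] at h1))
    exact ⟨K, hKn, hK2⟩

end CfsgLib.SuborbitThree
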