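import Mathlib.Analysis.Complex.Basic
import Mathlib.Tactic

/-!
# The arithmetic for the order, with the kernel factor
-/

set_option autoImplicit false

namespace CfsgLib.SuborbitThree

theorem order_cases_general {M N : ℕ} (hM : Odd M) (hN : 0 < N) {r s : ℤ} (hr : r ≠ 0)
    (hr1 : -1 - r ≠ 0) (hs : s ≠ 0) (ht : -r - s ≠ 0) (hw : s + 1 + r ≠ 0)
    (h4 : (M : ℂ) * (1 + 9 / ((-1 - r : ℤ) : ℂ) + 8 / r + 1 / s + 9 / ((-r - s : ℤ) : ℂ)) = 192 * N)
    (h6 : (M : ℂ) * (1 + 4 / r + 1 / s - 16 / ((s + 1 + r : ℤ) : ℂ)) = 288 * N)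
    (h8 : 1 + 9 / ((-1 - r : ℤ) : ℂ) - 1 / s - 9 / ((-r - s : ℤ) : ℂ) = 0) :
    (M = 165 * N ∧ r = 10 ∧ s = -55) ∨ (M = 117 * N ∧ r = 26 ∧ s = -39) := by
  set p : ℤ := -1 - r with hp
  set t : ℤ := -r - s with ht'
  set w : ℤ := s + 1 + r with hw'
  have hr0 : (r : ℂ) ≠ 0 := Int.cast_ne_zero.2 hr
  have hp0 : (p : ℂ) ≠ 0 := Int.cast_ne_zero.2 hr1
  have hs0 : (s : ℂ) ≠ 0 := Int.cast_ne_zero.2 hs
  have ht0 : (t : ℂ) ≠ 0 := Int.cast_ne_zero.2 ht
  have hw0 : (w : ℂ) ≠ 0 := Int.cast_ne_zero.2 hw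
  have hmain : (M : ℂ) * (2 * r * p + 18 * r + 8 * p) = 192 * N * (r * p) := by
    have : (M : ℂ) * (2 + 18 / p + 8 / r) = 192 * N := by linear_combination h4 + (M : ℂ) * h8
    rw [← this]
    field_simp
  have hmain' : (M : ℤ) * (2 * r * p + 18 * r + 8 * p) = 192 * N * (r * p) := by exact_mod_cast hmain
  have hq : ((p + 9) * s * t - p * t - 9 * p * s : ℂ) = 0 := by
    have : ((p + 9) * s * t - p * t - 9 * p * s : ℂ) =
        (1 + 9 / (p : ℂ) - 1 / s - 9 / (t : ℂ)) * (p * s * t) := by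
      field_simp
    rw [this, h8, zero_mul]
  have hq' : (p + 9) * s * t - p * t - 9 * p * s = 0 := by exact_mod_cast hq
  rw [hp, ht'] at hq'
  rw [hp] at hmain'
  have hfac : (s - 1) * ((r - 8) * s + r * (r + 1)) = 0 := by linear_combination hq'
  have hMpos : (0 : ℤ) < M := by exact_mod_cast hM.pos
  have hNpos : (0 : ℤ) < N := by exact_mod_cast hN
  rcases mul_eq_zero.1 hfac with h1 | h1
  · exfalso
    obtain rfl : s = 1 := by omega
    have h6' : (M : ℂ) * (2 * r * w + 4 * w - 16 * r) = 288 * N * (r * w) := by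
      rw [← h6]
      field_simp
      push_cast
      ring
    have h6'' : (M : ℤ) * (2 * r * w + 4 * w - 16 * r) = 288 * N * (r * w) := by exact_mod_cast h6'
    rw [hw'] at h6''
    have h : (N : ℤ) * r * (96 * r + 384) = 0 := by linear_combination -hmain' - h6''
    rcases mul_eq_zero.1 h with h | h
    · rcases mul_eq_zero.1 h with h | h <;> omega
    · obtain rfl : r = -4 := by omega
      have he : Even M := ⟨16 * N, by
        have : (M : ℤ) = 32 * N := by linarith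
        omega⟩
      exact absurd he (Nat.not_even_iff_odd.2 hM)
  have hmo : Odd (M : ℤ) := by exact_mod_cast hM
  obtain ⟨d, rfl⟩ : ∃ d, r = d + 2 := ⟨r - 2, by ring⟩
  have h : (M : ℤ) * d ^ 2 = 96 * N * (d + 2) * (d + 3) := by linarith
  have half : ∀ x y : ℤ, (M : ℤ) * x ^ 2 = 2 * y → ∃ z, x = 2 * z := by
    intro x y hxy
    have hev : Even ((M : ℤ) * x ^ 2) := ⟨y, by rw [hxy]; ring⟩
    rcases Int.even_mul.1 hev with h' | h'
    · exact absurd h' (Int.not_even_iff_odd.2 hmo)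
    · obtain ⟨z, hz⟩ := (Int.even_pow.1 h').1
      exact ⟨z, by rw [hz]; ring⟩
  obtain ⟨d₁, rfl⟩ := half d (48 * N * (d + 2) * (d + 3)) (by rw [h]; ring)
  obtain ⟨d₂, rfl⟩ := half d₁ (24 * N * (d₁ + 1) * (2 * d₁ + 3)) (by linarith)
  obtain ⟨e, rfl⟩ := half d₂ (6 * N * (2 * d₂ + 1) * (4 * d₂ + 3)) (by linarith)
  have he : (M : ℤ) * e ^ 2 = 3 * N * (4 * e + 1) * (8 * e + 3) := by linarith
  have hdvd : (4 * e - 3) ∣ 36 :=
    ⟨-s - (8 * e + 11), by linarith⟩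
  have hub : 4 * e - 3 ≤ 36 := Int.le_of_dvd (by norm_num) hdvd
  have hlb : -36 ≤ 4 * e - 3 := by
    have := Int.le_of_dvd (by norm_num) (neg_dvd.2 hdvd)
    omega
  have e1 : -8 ≤ e := by omega
  have e2 : e ≤ 9 := by omega
  interval_cases e
  all_goals norm_num at he h1
  all_goals omega

end CfsgLib.SuborbitThree
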