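import Cfsg.Agent.Characters.GL23.Group

/-!
# An involution centralizer mapping onto `GL(2, 3)` with odd kernel inverted by an involution
-/

set_option autoImplicit false
set_option linter.style.haveILetI false
set_option linter.unusedSectionVars false

namespace CfsgLib.SuborbitThree

open Matrix CfsgLib.Characters.GL23

universe u

/-- `GL(2, 3)`. -/
abbrev GLTT : Type := GeneralLinearGroup (Fin 2) (ZMod 3)

/-- The centralizer of the involution `z` maps onto `GL(2, 3)`; the kernel has odd order and is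
inverted by an involution outside the preimage of `SL(2, 3)`. -/
structure SDPres {G : Type u} [Group G] (z : G) where
  π : Subgroup.centralizer ({z} : Set G) →* GLTT
  surj : Function.Surjective π
  odd_ker : Odd (Nat.card π.ker)
  ord_z : orderOf z = 2
  y : Subgroup.centralizer ({z} : Set G)
  y_sq : y * y = 1
  y_det : det3 (toM3 (π y)) ≠ 1
  y_inv : ∀ o ∈ π.ker, y * o * y⁻¹ = o⁻¹

theorem det3_mul : ∀ v ∈ elts, ∀ w ∈ elts, det3 (mul3 v w) = det3 v * det3 w := by decide +kernel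

theorem det3_cases : ∀ v ∈ elts, det3 v = 1 ∨ det3 v = 2 := by decide +kernel

theorem det3_refl : ∀ v ∈ elts, IsInv3 v → v ≠ m1 → det3 v ≠ 1 := by decide +kernel

theorem exists_refl_det : ∀ v ∈ elts, det3 v ≠ 1 → ∃ w ∈ elts, det3 w = 1 ∧
    IsInv3 (mul3 w v) := by decide +kernel

theorem det_one_product : ∀ v ∈ elts, det3 v = 1 → ∃ a ∈ elts, ∃ b ∈ elts, IsInv3 a ∧ a ≠ m1 ∧
    IsInv3 b ∧ b ≠ m1 ∧ mul3 a b = v := by decide +kernel

theorem pairs_not_m1 : ∀ j, ∀ v ∈ elts, IsInv3 v → IsInv3 (mul3 v (classRep j)) →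
    v ≠ m1 ∧ mul3 v (classRep j) ≠ m1 := by decide +kernel

theorem eq_inv_self_odd {G : Type u} [Group G] [Finite G] {x : G} (h : x = x⁻¹)
    (ho : Odd (orderOf x)) : x = 1 := by
  have h2 : x ^ 2 = 1 := by rw [sq]; nth_rw 1 [h]; exact inv_mul_cancel x
  have := orderOf_dvd_of_pow_eq_one h2
  rcases (Nat.dvd_prime Nat.prime_two).1 this with h' | h'
  · exact orderOf_eq_one_iff.1 h'
  · rw [h'] at ho; exact absurd ho (by decide)

namespace SDPres

variable {G : Type u} [Group G] {z : G} (D : SDPres z)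

/-- The order of the kernel. -/
noncomputable def n : ℕ := Nat.card D.π.ker

/-- Coordinates. -/
def co (x : Subgroup.centralizer ({z} : Set G)) : M3 := toM3 (D.π x)

theorem co_mul (x x' : Subgroup.centralizer ({z} : Set G)) :
    D.co (x * x') = mul3 (D.co x) (D.co x') := by simp [co, toM3_mul]

theorem co_one : D.co 1 = one3 := by simp [co, toM3_one]

theorem co_mem (x : Subgroup.centralizer ({z} : Set G)) : D.co x ∈ elts := toM3_mem _

theorem co_surj {v : M3} (hv : v ∈ elts) : ∃ x, D.co x = v := by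
  obtain ⟨g, hg⟩ := toM3_surj hv
  obtain ⟨x, rfl⟩ := D.surj g
  exact ⟨x, hg⟩

theorem co_eq_iff {x x' : Subgroup.centralizer ({z} : Set G)} :
    D.co x = D.co x' ↔ x⁻¹ * x' ∈ D.π.ker := by
  rw [co, co, toM3_injective.eq_iff, MonoidHom.mem_ker, map_mul, map_inv, inv_mul_eq_one]

theorem co_eq_one_iff {x : Subgroup.centralizer ({z} : Set G)} :
    D.co x = one3 ↔ x ∈ D.π.ker := by
  rw [← D.co_one, eq_comm, D.co_eq_iff, inv_one, one_mul]

theorem co_mul_ker {x o : Subgroup.centralizer ({z} : Set G)} (ho : o ∈ D.π.ker) :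
    D.co (x * o) = D.co x := by
  rw [eq_comm, D.co_eq_iff, inv_mul_cancel_left]; exact ho

theorem co_conj {x g : Subgroup.centralizer ({z} : Set G)} :
    mul3 (D.co g) (D.co x) = mul3 (D.co (g * x * g⁻¹)) (D.co g) := by
  rw [← co_mul, ← co_mul, inv_mul_cancel_right]

theorem co_pow (x : Subgroup.centralizer ({z} : Set G)) (k : ℕ) :
    D.co (x ^ k) = pow3 (D.co x) k := by
  induction k with
  | zero => rw [pow_zero, co_one]; rfl
  | succ k ih => rw [pow_succ, co_mul, ih]; rfl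

variable [Finite G]
include D

theorem zC_ord : orderOf (tC : Subgroup.centralizer ({z} : Set G)) = 2 := by
  rw [← Subgroup.orderOf_coe]; exact D.ord_z

theorem ker_odd_order {o : Subgroup.centralizer ({z} : Set G)} (ho : o ∈ D.π.ker) :
    Odd (orderOf o) :=
  D.odd_ker.of_dvd_nat (by
    rw [show orderOf o = orderOf (⟨o, ho⟩ : D.π.ker) from (Subgroup.orderOf_mk o ho).symm]
    exact orderOf_dvd_natCard _)

theorem ker_sqrt {o : Subgroup.centralizer ({z} : Set G)} (ho : o ∈ D.π.ker) :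
    ∃ k ∈ D.π.ker, k * k = o := by
  obtain ⟨m, hm⟩ := D.ker_odd_order ho
  refine ⟨o ^ (m + 1), pow_mem ho _, ?_⟩
  rw [← pow_add, show m + 1 + (m + 1) = orderOf o + 1 by omega, pow_succ, pow_orderOf_eq_one,
    one_mul]

theorem isInv3_of_ord {x : Subgroup.centralizer ({z} : Set G)} (hx : orderOf x = 2) :
    IsInv3 (D.co x) := by
  refine ⟨?_, fun h => ?_⟩
  · rw [← co_mul, ← sq, ← hx, pow_orderOf_eq_one, co_one]
  · have := D.ker_odd_order (D.co_eq_one_iff.1 h)
    rw [hx] at this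
    exact absurd this (by decide)

theorem co_tC : D.co tC = m1 := by
  refine eq_m1_of_central _ (D.co_mem _) (D.isInv3_of_ord D.zC_ord) fun w hw => ?_
  obtain ⟨c, rfl⟩ := D.co_surj hw
  rw [← co_mul, ← co_mul]
  exact congrArg _ (Subtype.ext (Subgroup.mem_centralizer_singleton_iff.1 c.2).symm)

theorem ker_comm {a b : Subgroup.centralizer ({z} : Set G)} (ha : a ∈ D.π.ker)
    (hb : b ∈ D.π.ker) : a * b = b * a := by
  have h := D.y_inv _ (mul_mem ha hb)
  rw [show D.y * (a * b) * D.y⁻¹ = (D.y * a * D.y⁻¹) * (D.y * b * D.y⁻¹) by group, D.y_inv a ha,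
    D.y_inv b hb] at h
  have := congrArg (·⁻¹) h
  simp only [_root_.mul_inv_rev, inv_inv] at this
  exact this.symm

/-- Elements over a reflection invert the kernel. -/
theorem inv_of_refl {x : Subgroup.centralizer ({z} : Set G)} (hx : IsInv3 (D.co x))
    (hx1 : D.co x ≠ m1) {o : Subgroup.centralizer ({z} : Set G)} (ho : o ∈ D.π.ker) :
    x * o * x⁻¹ = o⁻¹ := by
  have hy : IsInv3 (D.co D.y) := ⟨by rw [← co_mul, D.y_sq, co_one], fun h => D.y_det (by
    show det3 (D.co D.y) = 1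
    rw [h]; decide)⟩
  have hy1 : D.co D.y ≠ m1 := fun h => D.y_det (by
    show det3 (D.co D.y) = 1
    rw [h]; decide)
  obtain ⟨g, hg, hgy⟩ := conj_of_inv _ (D.co_mem D.y) hy hy1
  obtain ⟨g', hg', hgx⟩ := conj_of_inv _ (D.co_mem x) hx hx1
  obtain ⟨a, rfl⟩ := D.co_surj hg
  obtain ⟨b, rfl⟩ := D.co_surj hg'
  obtain ⟨r, hr⟩ := D.co_surj (v := (0, 1, 1, 0)) (by decide)
  rw [← hr, ← co_mul, ← co_mul, D.co_eq_iff] at hgy hgx
  -- an element over the same coordinates as `x`
  set c : Subgroup.centralizer ({z} : Set G) := b⁻¹ * (a * D.y * a⁻¹) * b with hc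
  have hcx : c⁻¹ * x ∈ D.π.ker := by
    rw [MonoidHom.mem_ker] at hgy hgx ⊢
    simp only [hc, map_mul, map_inv, inv_mul_eq_one] at hgy hgx ⊢
    rw [hgy, mul_inv_cancel_right, mul_assoc, ← hgx, inv_mul_cancel_left]
  have hk : ∀ o' ∈ D.π.ker, c * o' * c⁻¹ = o'⁻¹ := by
    intro o' ho'
    have hN : D.π.ker.Normal := inferInstance
    have h1 := D.y_inv _ (hN.conj_mem _ (hN.conj_mem _ ho' b) a⁻¹)
    rw [inv_inv] at h1
    have h2 : c * o' * c⁻¹ = b⁻¹ * (a * (D.y * (a⁻¹ * (b * o' * b⁻¹) * a) * D.y⁻¹) * a⁻¹) * b := by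
      rw [hc]; group
    rw [h2, h1]
    group
  have hco := D.ker_comm hcx ho
  calc x * o * x⁻¹ = c * (c⁻¹ * x * o * (c⁻¹ * x)⁻¹) * c⁻¹ := by group
    _ = c * o * c⁻¹ := by rw [hco]; group
    _ = o⁻¹ := hk o ho

/-- Elements over `SL(2, 3)` centralize the kernel. -/
theorem comm_of_det {x : Subgroup.centralizer ({z} : Set G)} (hx : det3 (D.co x) = 1)
    {o : Subgroup.centralizer ({z} : Set G)} (ho : o ∈ D.π.ker) : x * o = o * x := by
  obtain ⟨a, ha, b, hb, ha2, ha1, hb2, hb1, hab⟩ := det_one_product _ (D.co_mem x) hx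
  obtain ⟨a, rfl⟩ := D.co_surj ha
  obtain ⟨b, rfl⟩ := D.co_surj hb
  rw [← co_mul, D.co_eq_iff] at hab
  have h1 := D.inv_of_refl hb2 hb1 ho
  have h2 := D.inv_of_refl ha2 ha1 (inv_mem ho)
  have hk := D.ker_comm hab ho
  refine mul_inv_eq_iff_eq_mul.1 ?_
  calc x * o * x⁻¹ = a * b * ((a * b)⁻¹ * x * o * ((a * b)⁻¹ * x)⁻¹) * (a * b)⁻¹ := by group
    _ = a * (b * o * b⁻¹) * a⁻¹ := by rw [hk]; group
    _ = o := by rw [h1, h2, inv_inv]

theorem y_sq_inv : D.y⁻¹ = D.y := inv_eq_of_mul_eq_one_right D.y_sq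

theorem det_y : det3 (D.co D.y) = 2 := (det3_cases _ (D.co_mem _)).resolve_left D.y_det

/-- Elements over a reflection are involutions. -/
theorem sq_refl {x : Subgroup.centralizer ({z} : Set G)} (hx : IsInv3 (D.co x))
    (hx1 : D.co x ≠ m1) : orderOf x = 2 := by
  have h2 : x * x ∈ D.π.ker := D.co_eq_one_iff.1 (by rw [co_mul]; exact hx.1)
  have h3 := D.inv_of_refl hx hx1 h2
  rw [← mul_assoc, mul_inv_cancel_right] at h3
  have h1 : x * x = 1 := eq_inv_self_odd h3 (D.ker_odd_order h2)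
  exact orderOf_eq_prime (by rw [sq, h1]) fun h => hx.2 (by rw [h, co_one])

theorem eq_tC_of_ord {x : Subgroup.centralizer ({z} : Set G)} (hx : orderOf x = 2)
    (hco : D.co x = m1) : x = tC := by
  have hk : tC⁻¹ * x ∈ D.π.ker := D.co_eq_iff.1 (by rw [D.co_tC, hco])
  have hc : Commute (tC⁻¹ : Subgroup.centralizer ({z} : Set G)) x :=
    Commute.inv_left (Subtype.ext (Subgroup.mem_centralizer_singleton_iff.1 x.2).symm)
  have h2 : (tC⁻¹ * x) ^ 2 = 1 := by
    rw [hc.mul_pow, inv_pow]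
    nth_rw 1 [← D.zC_ord]
    rw [pow_orderOf_eq_one, inv_one, one_mul, ← hx, pow_orderOf_eq_one]
  have h1 := eq_inv_self_odd (x := tC⁻¹ * x)
    (eq_inv_of_mul_eq_one_left (by rw [← sq, h2])) (D.ker_odd_order hk)
  rw [inv_mul_eq_one] at h1
  exact h1.symm

/-- Involutions of the centralizer are `z` or lie over reflections. -/
theorem ord_cases {x : Subgroup.centralizer ({z} : Set G)} (hx : orderOf (x : G) = 2) :
    x = tC ∨ (IsInv3 (D.co x) ∧ D.co x ≠ m1) := by
  rw [Subgroup.orderOf_coe] at hx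
  by_cases h : D.co x = m1
  · exact Or.inl (D.eq_tC_of_ord hx h)
  · exact Or.inr ⟨D.isInv3_of_ord hx, h⟩

theorem card_fibre {v : M3} (hv : v ∈ elts) : Nat.card {x // D.co x = v} = D.n := by
  obtain ⟨a, rfl⟩ := D.co_surj hv
  exact Nat.card_congr ((Equiv.mulLeft a⁻¹).subtypeEquiv fun x => by
    rw [eq_comm, D.co_eq_iff]; rfl)

theorem card_centralizer : Nat.card (Subgroup.centralizer ({z} : Set G)) = 48 * D.n := by
  have h48 : Nat.card GLTT = 48 := by
    rw [Matrix.card_GL_field]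
    simp [Fin.prod_univ_two, ZMod.card]
  rw [D.π.ker.card_eq_card_quotient_mul_card_subgroup,
    Nat.card_congr (QuotientGroup.quotientKerEquivOfSurjective D.π D.surj).toEquiv, h48]
  rfl

theorem n_pos : 0 < D.n := Nat.card_pos

theorem mem_zpowers_iff_inD (x : Subgroup.centralizer ({z} : Set G)) :
    z ∈ Subgroup.zpowers (x : G) ↔ inD (D.co x) := by
  classical
  refine ⟨fun h => ?_, fun h => ?_⟩
  · rw [mem_zpowers_iff_mem_range_orderOf] at h
    obtain ⟨k, -, hk⟩ := Finset.mem_image.1 h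
    by_contra hD
    obtain ⟨h24, hne⟩ := pow_ne_m1 _ (D.co_mem x) hD
    refine hne ⟨k % 24, Nat.mod_lt _ (by norm_num)⟩ ?_
    rw [← co_pow, ← D.co_one, co, co, toM3_injective.eq_iff, map_pow, map_one] at h24
    have hk' : x ^ k = tC := Subtype.ext (by simpa [tC] using hk)
    rw [← co_pow, ← D.co_tC, ← hk', co, co, toM3_injective.eq_iff, map_pow, map_pow,
      ← pow_eq_pow_mod k h24]
  · have key : ∀ k : ℕ, pow3 (D.co x) k = m1 → z ∈ Subgroup.zpowers (x : G) := fun k hk => by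
      rw [← D.co_tC, ← co_pow, eq_comm, D.co_eq_iff] at hk
      have hc : Commute (tC : Subgroup.centralizer ({z} : Set G)) (tC⁻¹ * x ^ k) :=
        Subtype.ext (Subgroup.mem_centralizer_singleton_iff.1 (tC⁻¹ * x ^ k).2).symm
      have hpow : (x ^ k) ^ D.n = tC := by
        calc (x ^ k) ^ D.n = (tC * (tC⁻¹ * x ^ k)) ^ D.n := by rw [mul_inv_cancel_left]
          _ = tC ^ D.n * (tC⁻¹ * x ^ k) ^ D.n := hc.mul_pow _
          _ = tC := by
            have hkn : (tC⁻¹ * x ^ k) ^ D.n = 1 := by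
              have := congrArg Subtype.val
                (pow_card_eq_one' (G := D.π.ker) (x := ⟨_, hk⟩))
              simpa [n] using this
            obtain ⟨m, hm⟩ := D.odd_ker
            have hm' : D.n = 2 * m + 1 := hm
            have h2 : (tC : Subgroup.centralizer ({z} : Set G)) ^ 2 = 1 := by
              rw [← D.zC_ord, pow_orderOf_eq_one]
            rw [hkn, mul_one, hm', pow_succ, pow_mul, h2, one_pow, one_mul]
      refine ⟨((k * D.n : ℕ) : ℤ), ?_⟩
      have := congrArg Subtype.val hpow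
      rw [← pow_mul] at this
      simpa [tC] using (zpow_natCast (x : G) (k * D.n)).trans this
    obtain h | h | h | h := h <;> exact key _ h

/-- Elements over the same reflection are conjugate. -/
theorem isConj_refl {x x' : Subgroup.centralizer ({z} : Set G)} (hx : IsInv3 (D.co x))
    (hx1 : D.co x ≠ m1) (h : D.co x = D.co x') : IsConj (x : G) (x' : G) := by
  obtain ⟨k, hk, hk2⟩ := D.ker_sqrt (D.co_eq_iff.1 h)
  have hx' : x' = x * (k * k) := by rw [hk2, mul_inv_cancel_left]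
  have hinv : x * k = k⁻¹ * x := mul_inv_eq_iff_eq_mul.1 (D.inv_of_refl hx hx1 hk)
  refine isConj_iff.2 ⟨(k⁻¹ : Subgroup.centralizer ({z} : Set G)), ?_⟩
  rw [hx', ← Subgroup.coe_mul, ← Subgroup.coe_inv, ← Subgroup.coe_mul]
  refine congrArg Subtype.val ?_
  rw [inv_inv, ← hinv, mul_assoc]

theorem conj_of_co {x x' : Subgroup.centralizer ({z} : Set G)} {g : M3} (hg : g ∈ elts)
    (h : mul3 g (D.co x) = mul3 (D.co x') g) :
    ∃ o ∈ D.π.ker, IsConj (x : G) ((x' * o : Subgroup.centralizer ({z} : Set G)) : G) := by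
  obtain ⟨c, rfl⟩ := D.co_surj hg
  rw [← co_mul, ← co_mul, eq_comm, D.co_eq_iff] at h
  refine ⟨x'⁻¹ * (c * x * c⁻¹), ?_, isConj_iff.2 ⟨c, ?_⟩⟩
  · rw [MonoidHom.mem_ker] at h ⊢
    simp only [map_mul, map_inv, inv_mul_eq_one] at h ⊢
    rw [← h, mul_inv_cancel_right]
  · rw [mul_inv_cancel_left]
    simp

theorem exists_noncentral [IsSimpleGroup G] :
    ∃ u : Subgroup.centralizer ({z} : Set G), (u : G) ≠ z ∧ IsConj z (u : G) := by
  have ht := D.ord_z
  by_contra hcon
  push Not at hcon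
  have hiso : Cfsg.IsIsolatedInvolution z := ⟨ht, fun g hg => by
    by_contra hne
    exact hcon ⟨_, Subgroup.mem_centralizer_singleton_iff.2 hg.eq.symm⟩ hne
      (isConj_iff.2 ⟨g, rfl⟩)⟩
  have hc := ZStar.mem_center_of_isolated hiso fun N hN hodd => by
    rcases hN.eq_bot_or_eq_top with h | h
    · exact h
    · exfalso
      rw [h, Nat.card_congr Subgroup.topEquiv.toEquiv] at hodd
      exact (Nat.not_even_iff_odd.2 hodd) (even_iff_two_dvd.2 (ht ▸ orderOf_dvd_natCard z))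
  obtain h | h := (inferInstance : (Subgroup.center G).Normal).eq_bot_or_eq_top
  · rw [h, Subgroup.mem_bot] at hc
    rw [hc, orderOf_one] at ht
    exact absurd ht (by norm_num)
  · obtain ⟨v, hv, w, hw, hne⟩ := exists_noncomm
    obtain ⟨a, rfl⟩ := D.co_surj hv
    obtain ⟨b, rfl⟩ := D.co_surj hw
    refine hne ?_
    rw [← co_mul, ← co_mul]
    refine congrArg _ (Subtype.ext ?_)
    exact (Subgroup.mem_center_iff.1 (h ▸ Subgroup.mem_top (a : G) : (a : G) ∈ Subgroup.center G) b).symm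

theorem isConj_of_mem [IsSimpleGroup G] {x : G}
    (hx : x ∈ Subgroup.centralizer ({z} : Set G)) (hx2 : orderOf x = 2) : IsConj z x := by
  obtain ⟨u, hne, hu⟩ := D.exists_noncentral
  have hu2 : orderOf (u : G) = 2 := by
    obtain ⟨c, hc⟩ := isConj_iff.1 hu
    rw [← hc]
    simpa using (MulAut.conj c).orderOf_eq z |>.trans D.ord_z
  obtain ⟨r, hr⟩ := D.co_surj (v := (0, 1, 1, 0)) (by decide)
  have hr1 : IsInv3 (D.co r) ∧ D.co r ≠ m1 := by rw [hr]; decide
  have key : ∀ w : Subgroup.centralizer ({z} : Set G), orderOf (w : G) = 2 → (w : G) ≠ z →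
      IsConj (w : G) (r : G) := by
    intro w hw hwz
    obtain ⟨hw', hw1⟩ := (D.ord_cases hw).resolve_left fun h => hwz (congrArg Subtype.val h)
    obtain ⟨g, hg, hgw⟩ := conj_of_inv _ (D.co_mem w) hw' hw1
    obtain ⟨o, ho, h⟩ := D.conj_of_co (x := w) (x' := r) hg (by rw [hr]; exact hgw)
    exact h.trans (D.isConj_refl hr1.1 hr1.2 (D.co_mul_ker ho).symm).symm
  rcases eq_or_ne x z with rfl | hxt
  · exact IsConj.refl _
  exact hu.trans ((key u hu2 hne).trans (key ⟨x, hx⟩ hx2 hxt).symm)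

theorem isConj_of_inv [IsSimpleGroup G] {w' : G} (hy : orderOf w' = 2) : IsConj z w' := by
  have ht := D.ord_z
  rcases Nat.even_or_odd (orderOf (z * w')) with h | h
  swap
  · obtain ⟨k, hk⟩ := Small.conj_pow_eq_of_odd ht hy h
    exact isConj_iff.2 ⟨_, hk⟩
  obtain ⟨m, hm⟩ := h
  set w := z * w' with hw
  have htt : z * z = 1 := Small.mul_self_of_orderOf_two ht
  have hpos : 0 < orderOf w := orderOf_pos w
  have hz : orderOf (w ^ m) = 2 := by
    rw [orderOf_pow_of_dvd (by omega) ⟨2, by omega⟩, hm, ← two_mul,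
      Nat.mul_div_cancel _ (by omega)]
  have hzinv : (w ^ m)⁻¹ = w ^ m := Small.inv_eq_self_of_orderOf_two hz
  have hwinv : w⁻¹ = w' * z := by
    rw [hw, _root_.mul_inv_rev, Small.inv_eq_self_of_orderOf_two hy,
      Small.inv_eq_self_of_orderOf_two ht]
  have h1 : SemiconjBy z w w⁻¹ := by
    show z * w = w⁻¹ * z
    rw [hwinv, hw, ← mul_assoc, htt, one_mul, mul_assoc, htt, mul_one]
  have h2 : SemiconjBy w' w w⁻¹ := by
    show w' * w = w⁻¹ * w'
    rw [hwinv, hw, mul_assoc]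
  have ht' := h1.pow_right m
  have hy' := h2.pow_right m
  rw [inv_pow, hzinv] at ht' hy'
  obtain ⟨g, hg⟩ := isConj_iff.1 (D.isConj_of_mem
    (Subgroup.mem_centralizer_singleton_iff.2 ht'.eq.symm) hz)
  have hmem : g⁻¹ * w' * g ∈ Subgroup.centralizer ({z} : Set G) := by
    refine Subgroup.mem_centralizer_singleton_iff.2 ?_
    have : w' * (g * z * g⁻¹) = g * z * g⁻¹ * w' := by rw [hg]; exact hy'.eq
    calc g⁻¹ * w' * g * z = g⁻¹ * (w' * (g * z * g⁻¹)) * g := by group
      _ = g⁻¹ * (g * z * g⁻¹ * w') * g := by rw [this]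
      _ = z * (g⁻¹ * w' * g) := by group
  refine (D.isConj_of_mem hmem ?_).trans (isConj_iff.2 ⟨g, by group⟩)
  simpa using (MulAut.conj g⁻¹).orderOf_eq w' |>.trans hy

theorem card_eq [IsSimpleGroup G] : ∃ m : ℕ, Odd m ∧ Nat.card G = 48 * m := by
  obtain ⟨m, hm⟩ := (Subgroup.centralizer ({z} : Set G)).card_subgroup_dvd_card
  rw [D.card_centralizer, mul_assoc] at hm
  refine ⟨D.n * m, Nat.not_even_iff_odd.1 fun heven => ?_, hm⟩
  haveI : Fact (Nat.Prime 2) := ⟨Nat.prime_two⟩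
  obtain ⟨P⟩ : Nonempty (Sylow 2 G) := inferInstance
  have h32 : 2 ^ 5 ∣ Nat.card P := P.pow_dvd_card_of_pow_dvd_card (by
    rw [hm]; obtain ⟨r, hr⟩ := heven; exact ⟨3 * r, by rw [hr]; ring⟩)
  have hP1 : Nontrivial P := by
    rw [← Finite.one_lt_card_iff_nontrivial]
    exact lt_of_lt_of_le (by norm_num) (Nat.le_of_dvd Nat.card_pos h32)
  haveI := hP1
  haveI := P.2.center_nontrivial
  obtain ⟨c, hc⟩ := exists_prime_orderOf_dvd_card' (G := Subgroup.center P) 2
    (by
      obtain ⟨k, hk0, hk⟩ := (P.2.to_subgroup (Subgroup.center P)).nontrivial_iff_card.1 inferInstance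
      rw [hk]; exact dvd_pow_self 2 (by omega))
  have hz2 : orderOf ((c : P) : G) = 2 := by
    rw [Subgroup.orderOf_coe, Subgroup.orderOf_coe]; exact hc
  obtain ⟨g, hg⟩ := isConj_iff.1 (D.isConj_of_inv hz2)
  have hle : (P : Subgroup G).map (MulAut.conj g⁻¹).toMonoidHom ≤
      Subgroup.centralizer ({z} : Set G) := by
    rintro _ ⟨a, ha, rfl⟩
    refine Subgroup.mem_centralizer_singleton_iff.2 ?_
    have hc' : a * ((c : P) : G) = ((c : P) : G) * a :=
      congrArg Subtype.val (Subgroup.mem_center_iff.1 c.2 ⟨a, ha⟩)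
    rw [← hg] at hc'
    show (MulAut.conj g⁻¹) a * z = z * (MulAut.conj g⁻¹) a
    simp only [MulAut.conj_apply, inv_inv]
    calc g⁻¹ * a * g * z = g⁻¹ * (a * (g * z * g⁻¹)) * g := by group
      _ = g⁻¹ * (g * z * g⁻¹ * a) * g := by rw [hc']
      _ = z * (g⁻¹ * a * g) := by group
  have h48 := Subgroup.card_dvd_of_le hle
  rw [D.card_centralizer, Nat.card_congr ((P : Subgroup G).equivMapOfInjective _
    (MulAut.conj g⁻¹).injective).symm.toEquiv] at h48
  have hco : (2 ^ 5).Coprime D.n :=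
    Nat.Coprime.pow_left 5 (Nat.coprime_two_left.2 D.odd_ker)
  exact absurd (hco.dvd_of_dvd_mul_right (h32.trans h48)) (by norm_num)

/-- The involutions `a` of `G` with `a x` an involution, for `x` over the `j`-th representative. -/
theorem pairs_eq (j : Fin 5) :
    Nat.card {p : G × {x // D.co x = classRep j} //
      orderOf p.1 = 2 ∧ orderOf (p.1 * p.2.1) = 2} = D.n ^ 2 * ![12, 4, 6, 0, 0] j := by
  classical
  have hmem : ∀ (x : {x // D.co x = classRep j}) (a : G), orderOf a = 2 →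
      orderOf (a * x.1) = 2 → a ∈ Subgroup.centralizer ({z} : Set G) := by
    intro x a ha hax
    have ha' := Small.inv_eq_self_of_orderOf_two ha
    have h1 : (a * x.1)⁻¹ = a * x.1 := Small.inv_eq_self_of_orderOf_two hax
    have hs : SemiconjBy a (x.1 : G) (x.1 : G)⁻¹ := by
      show a * x.1 = (x.1 : G)⁻¹ * a
      rw [← h1, _root_.mul_inv_rev, ha']
    obtain ⟨k, hk⟩ := (D.mem_zpowers_iff_inD x.1).2 (by rw [x.2]; exact (classRep_mem j).2)
    have h2 := hs.zpow_right k
    rw [show (x.1 : G) ^ k = z from hk, _root_.inv_zpow, show (x.1 : G) ^ k = z from hk,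
      Small.inv_eq_self_of_orderOf_two D.ord_z] at h2
    exact Subgroup.mem_centralizer_singleton_iff.2 h2.eq
  set F := elts.filter fun v => IsInv3 v ∧ IsInv3 (mul3 v (classRep j)) with hF
  have hfwd : ∀ p : {p : G × {x // D.co x = classRep j} //
      orderOf p.1 = 2 ∧ orderOf (p.1 * p.2.1) = 2},
      D.co ⟨p.1.1, hmem p.1.2 _ p.2.1 p.2.2⟩ ∈ F := by
    rintro ⟨⟨a, x⟩, h1, h2⟩
    refine Finset.mem_filter.2 ⟨D.co_mem _, D.isInv3_of_ord (by rw [← Subgroup.orderOf_coe]; exact h1),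
      ?_⟩
    have h := D.isInv3_of_ord (x := ⟨a, hmem x a h1 h2⟩ * x.1)
      (by rw [← Subgroup.orderOf_coe]; exact h2)
    rwa [co_mul, x.2] at h
  let E : {p : G × {x // D.co x = classRep j} //
      orderOf p.1 = 2 ∧ orderOf (p.1 * p.2.1) = 2} ≃
      {a // D.co a ∈ F} × {x // D.co x = classRep j} :=
    { toFun := fun p => (⟨⟨p.1.1, hmem p.1.2 _ p.2.1 p.2.2⟩, hfwd p⟩, p.1.2)
      invFun := fun q => ⟨((q.1.1 : G), q.2), by
        obtain ⟨hv, h1, h2⟩ := Finset.mem_filter.1 q.1.2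
        obtain ⟨n1, n2⟩ := pairs_not_m1 j _ hv h1 h2
        refine ⟨by rw [Subgroup.orderOf_coe]; exact D.sq_refl h1 n1, ?_⟩
        rw [← Subgroup.coe_mul, Subgroup.orderOf_coe]
        refine D.sq_refl ?_ ?_
        · rw [co_mul, q.2.2]; exact h2
        · rw [co_mul, q.2.2]; exact n2⟩
      left_inv := fun p => rfl
      right_inv := fun q => rfl }
  rw [Nat.card_congr E, Nat.card_prod, D.card_fibre (classRep_mem j).1, ← pair_count j]
  haveI := Fintype.ofFinite G
  have hA : Nat.card {a // D.co a ∈ F} = F.card * D.n := by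
    haveI := Fintype.ofFinite (Subgroup.centralizer ({z} : Set G))
    rw [Nat.card_eq_fintype_card, Fintype.card_subtype,
      Finset.card_eq_sum_card_fiberwise (f := D.co) (t := F) (fun a ha => by simpa using ha),
      Finset.sum_const_nat fun v hv => ?_]
    rw [← D.card_fibre (Finset.mem_filter.1 hv).1, Nat.card_eq_fintype_card, Fintype.card_subtype,
      Finset.filter_filter]
    exact congrArg Finset.card (Finset.filter_congr fun a _ => by aesop)
  rw [hA, sq, hF]
  ring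

end SDPres

end CfsgLib.SuborbitThree
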