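import Cfsg.Agent.Characters.Generalized
import Cfsg.Agent.Characters.Linear
import Mathlib.GroupTheory.FiniteAbelian.Duality

/-!
# Multiplicities of linear characters in the restriction of a character
-/

set_option autoImplicit false
set_option linter.style.haveILetI false
set_option linter.unusedSectionVars false

namespace CfsgLib.SuborbitThree

open scoped ComplexConjugate
open CfsgLib.Characters

universe u

variable {G : Type u} [Group G] [Fintype G] {χ : G → ℂ}

/-- The multiplicity of a linear character of a subgroup in a function. -/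
noncomputable def linMult (B : Subgroup G) (χ : G → ℂ) (μ : B →* ℂˣ) : ℂ :=
  (Nat.card B : ℂ)⁻¹ * ∑ᶠ b : B, χ (b : G) * ((μ b⁻¹ : ℂˣ) : ℂ)

theorem linMult_eq_sum (B : Subgroup G) [Fintype B] (χ : G → ℂ) (μ : B →* ℂˣ) :
    linMult B χ μ = (Nat.card B : ℂ)⁻¹ * ∑ b : B, χ (b : G) * ((μ b⁻¹ : ℂˣ) : ℂ) := by
  rw [linMult, finsum_eq_sum_of_fintype]

theorem exists_nat_linMult (hχ : Cfsg.IsCharacter G χ) (B : Subgroup G) (μ : B →* ℂˣ) :
    ∃ m : ℕ, linMult B χ μ = m := by
  haveI := Fintype.ofFinite B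
  obtain ⟨m, hm⟩ := classInner_characters (isCharacter_restrict B hχ)
    (isCharacter_of_isIrr (isIrr_linChar μ))
  refine ⟨m, ?_⟩
  rw [← hm, linMult_eq_sum, Cfsg.classInner]
  congr 1
  refine Finset.sum_congr rfl fun b _ => ?_
  rw [character_inv (isCharacter_of_isIrr (isIrr_linChar μ))]

/-- Multiplicities are invariant under conjugation. -/
theorem linMult_conj (hχ : Cfsg.IsClassFunction G χ) (B : Subgroup G) (g : G)
    (hg : ∀ b ∈ B, g * b * g⁻¹ ∈ B) (μ μ' : B →* ℂˣ)
    (h : ∀ b : B, μ' b = μ ⟨g * b * g⁻¹, hg b b.2⟩) :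
    linMult B χ μ' = linMult B χ μ := by
  classical
  haveI := Fintype.ofFinite B
  rw [linMult_eq_sum, linMult_eq_sum]
  congr 1
  let f : B → B := fun b => ⟨g * b * g⁻¹, hg b b.2⟩
  have hinj : Function.Injective f := fun a b hab =>
    Subtype.ext (mul_left_cancel (mul_right_cancel (congrArg Subtype.val hab)))
  refine Fintype.sum_bijective f hinj.bijective_of_finite _ _ fun b => ?_
  rw [show χ (f b : G) = χ (b : G) from hχ _ _, h]
  congr 3
  exact Subtype.ext (by simp [f]; group)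

variable (B : Subgroup G) (hB : ∀ a ∈ B, ∀ b ∈ B, a * b = b * a)

include hB in
theorem finite_hom : Finite (B →* ℂˣ) := by
  haveI := Fintype.ofFinite B
  exact Finite.of_equiv _ (linearCharEquiv (G := B)).symm

include hB in
/-- Expansion in linear characters. -/
theorem linMult_expansion [Fintype (B →* ℂˣ)] (b : B) :
    χ (b : G) = ∑ μ : B →* ℂˣ, linMult B χ μ * ((μ b : ℂˣ) : ℂ) := by
  classical
  haveI := Fintype.ofFinite B
  letI : CommGroup B :=
    { (inferInstance : Group B) with mul_comm := fun a c => Subtype.ext (hB a a.2 c c.2) }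
  haveI : NeZero (Monoid.exponent B : ℂ) :=
    ⟨Nat.cast_ne_zero.2 Monoid.exponent_ne_zero_of_finite⟩
  have horth : ∀ c : B, ∑ μ : B →* ℂˣ, ((μ c : ℂˣ) : ℂ) = if c = 1 then (Nat.card B : ℂ) else 0 := by
    intro c
    split_ifs with h
    · rw [Finset.sum_congr rfl fun μ _ => by rw [h, map_one, Units.val_one], Finset.sum_const,
        Finset.card_univ, nsmul_eq_mul, mul_one, ← Nat.card_eq_fintype_card]
      exact congrArg Nat.cast (CommGroup.card_monoidHom_of_hasEnoughRootsOfUnity B ℂ)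
    · obtain ⟨θ, hne⟩ := CommGroup.exists_apply_ne_one_of_hasEnoughRootsOfUnity B ℂ h
      have hsum : ((θ c : ℂˣ) : ℂ) * ∑ μ : B →* ℂˣ, ((μ c : ℂˣ) : ℂ) =
          ∑ μ : B →* ℂˣ, ((μ c : ℂˣ) : ℂ) := by
        rw [Finset.mul_sum]
        exact Fintype.sum_equiv (Equiv.mulLeft θ) _ _ fun μ => by simp [MonoidHom.mul_apply]
      by_contra h0
      exact hne (Units.ext ((mul_eq_right₀ h0).1 hsum))
  have key : ∀ μ : B →* ℂˣ, linMult B χ μ * ((μ b : ℂˣ) : ℂ) =
      (Nat.card B : ℂ)⁻¹ * ∑ a : B, χ (a : G) * ((μ (a⁻¹ * b) : ℂˣ) : ℂ) := fun μ => by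
    rw [linMult_eq_sum, mul_assoc, Finset.sum_mul]
    congr 1
    refine Finset.sum_congr rfl fun a _ => ?_
    rw [map_mul, Units.val_mul, mul_assoc]
  rw [Finset.sum_congr rfl fun μ _ => key μ, ← Finset.mul_sum, Finset.sum_comm,
    Finset.sum_congr rfl (g := fun a : B => if a = b then χ (a : G) * (Nat.card B : ℂ) else 0)
      fun a _ => ?_, Finset.sum_ite_eq' Finset.univ b, if_pos (Finset.mem_univ b)]
  · field_simp [subgroup_card_ne_zero]
  · rw [← Finset.mul_sum, horth]
    by_cases h : a = b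
    · rw [if_pos (inv_mul_eq_one.2 h), if_pos h]
    · rw [if_neg (fun h' => h (inv_mul_eq_one.1 h')), if_neg h, mul_zero]

include hB in
theorem linMult_sum [Fintype (B →* ℂˣ)] : ∑ μ : B →* ℂˣ, linMult B χ μ = χ 1 := by
  have := linMult_expansion (χ := χ) B hB 1
  simp only [map_one, Units.val_one, mul_one] at this
  exact this.symm

include hB in
/-- The multiplicity on a smaller subgroup is the sum over the extensions. -/
theorem linMult_restrict [Fintype (B →* ℂˣ)] {A : Subgroup G} (hAB : A ≤ B) (lam : A →* ℂˣ)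
    [DecidablePred fun μ : B →* ℂˣ => μ.comp (Subgroup.inclusion hAB) = lam] :
    linMult A χ lam = ∑ μ ∈ Finset.univ.filter
      (fun μ : B →* ℂˣ => μ.comp (Subgroup.inclusion hAB) = lam), linMult B χ μ := by
  classical
  haveI := Fintype.ofFinite A
  rw [linMult_eq_sum A, Finset.sum_congr rfl fun a _ => by
    rw [show χ (a : G) = χ ((Subgroup.inclusion hAB a : B) : G) from rfl,
      linMult_expansion (χ := χ) B hB (Subgroup.inclusion hAB a), Finset.sum_mul], Finset.sum_comm,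
    Finset.mul_sum, Finset.sum_filter]
  refine Finset.sum_congr rfl fun μ _ => ?_
  simp only [mul_assoc, ← Finset.mul_sum]
  rw [mul_left_comm]
  have hu : ∀ a : A, ((μ (Subgroup.inclusion hAB a) : ℂˣ) : ℂ) * ((lam a⁻¹ : ℂˣ) : ℂ) =
      ((((μ.comp (Subgroup.inclusion hAB)) / lam) a : ℂˣ) : ℂ) := fun a => by
    simp only [MonoidHom.div_apply, MonoidHom.comp_apply, map_inv, div_eq_mul_inv, Units.val_mul]
  rw [Finset.sum_congr rfl fun a _ => hu a]
  split_ifs with h
  · have h1 : (μ.comp (Subgroup.inclusion hAB)) / lam = 1 := div_eq_one.2 h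
    rw [h1]
    simp only [MonoidHom.one_apply, Units.val_one, Finset.sum_const, Finset.card_univ,
      nsmul_eq_mul, mul_one, ← Nat.card_eq_fintype_card]
    rw [inv_mul_cancel₀ (subgroup_card_ne_zero _), mul_one]
  · obtain ⟨a, ha⟩ : ∃ a, ((μ.comp (Subgroup.inclusion hAB)) / lam) a ≠ 1 := by
      by_contra hall
      push Not at hall
      exact h (div_eq_one.1 (MonoidHom.ext hall))
    have hsum : ((((μ.comp (Subgroup.inclusion hAB)) / lam) a : ℂˣ) : ℂ) *
        ∑ x : A, ((((μ.comp (Subgroup.inclusion hAB)) / lam) x : ℂˣ) : ℂ) =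
        ∑ x : A, ((((μ.comp (Subgroup.inclusion hAB)) / lam) x : ℂˣ) : ℂ) := by
      rw [Finset.mul_sum]
      refine Fintype.sum_equiv (Equiv.mulLeft a) _ _ fun x => ?_
      rw [Equiv.coe_mulLeft, map_mul, Units.val_mul]
    have h0 : ∑ x : A, ((((μ.comp (Subgroup.inclusion hAB)) / lam) x : ℂˣ) : ℂ) = 0 := by
      by_contra h0
      exact ha (Units.ext ((mul_eq_right₀ h0).1 hsum))
    rw [h0, mul_zero, mul_zero]

/-- Extending a linear character by an involution. -/
theorem linMult_involution (hχ : Cfsg.IsCharacter G χ) (B : Subgroup G) {z : G}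
    (hz2 : z * z = 1) (hzB : z ∉ B) (hN : ∀ b ∈ B, z * b * z⁻¹ ∈ B) (lam : B →* ℂˣ)
    (hinv : ∀ b : B, lam ⟨z * b * z⁻¹, hN b b.2⟩ = lam b) {S : ℂ}
    (hS : ∑ᶠ b : B, χ (z * (b : G)) * ((lam b⁻¹ : ℂˣ) : ℂ) = (Nat.card B : ℂ) * S) :
    (∃ a : ℕ, linMult B χ lam + S = 2 * a) ∧ ∃ a : ℕ, linMult B χ lam - S = 2 * a := by
  classical
  haveI := Fintype.ofFinite B
  have hzi : z⁻¹ = z := inv_eq_of_mul_eq_one_right hz2
  have hout : ∀ b ∈ B, z * b ∉ B := fun b hb h =>
    hzB (by simpa using mul_mem h (inv_mem hb))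
  let W : Subgroup G :=
    { carrier := {x | x ∈ B ∨ z * x ∈ B}
      one_mem' := Or.inl B.one_mem
      mul_mem' := fun {a b} ha hb => by
        rcases ha with ha | ha <;> rcases hb with hb | hb
        · exact Or.inl (mul_mem ha hb)
        · refine Or.inr ?_
          have := mul_mem (hN a ha) hb
          rw [hzi] at this
          rwa [show z * a * z * (z * b) = z * (a * b) by
            rw [mul_assoc (z * a) z, ← mul_assoc z z b, hz2, one_mul, mul_assoc]] at this
        · refine Or.inr ?_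
          rw [← mul_assoc]; exact mul_mem ha hb
        · refine Or.inl ?_
          have := mul_mem (hN (z * a) ha) hb
          rw [hzi] at this
          rwa [show z * (z * a) * z * (z * b) = a * b by
            rw [← mul_assoc z z a, hz2, one_mul, mul_assoc, ← mul_assoc z z b, hz2, one_mul]] at this
      inv_mem' := fun {a} ha => by
        rcases ha with ha | ha
        · exact Or.inl (inv_mem ha)
        · refine Or.inr ?_
          have := hN _ (inv_mem ha)
          rwa [_root_.mul_inv_rev, ← mul_assoc, mul_assoc, ← _root_.mul_inv_rev, hz2, inv_one,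
            mul_one] at this }
  have hext : ∀ e : ℂˣ, e * e = 1 → ∃ f : W →* ℂˣ,
      (∀ b : B, f ⟨b, Or.inl b.2⟩ = lam b) ∧ ∀ b : B, f ⟨z * b, Or.inr (by
        rw [← mul_assoc, hz2, one_mul]; exact b.2)⟩ = e * lam b := by
    intro e he
    let f0 : W → ℂˣ := fun x => if h : (x : G) ∈ B then lam ⟨x, h⟩ else
      e * lam ⟨z * x, (x.2).resolve_left h⟩
    have hin : ∀ (x : W) (h : (x : G) ∈ B), f0 x = lam ⟨x, h⟩ := fun x h => dif_pos h
    have hou : ∀ (x : W) (b : B), (x : G) = z * b → f0 x = e * lam b := fun x b hx => by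
      simp only [f0]
      rw [dif_neg (by rw [hx]; exact hout b b.2)]
      congr 2
      exact Subtype.ext (by simp [hx, ← mul_assoc, hz2])
    have hcase : ∀ x : W, (x : G) ∈ B ∨ ∃ b : B, (x : G) = z * b := fun x => by
      rcases x.2 with h | h
      · exact Or.inl h
      · exact Or.inr ⟨⟨_, h⟩, by rw [← mul_assoc, hz2, one_mul]⟩
    refine ⟨MonoidHom.mk' f0 fun x y => ?_, fun b => hin _ b.2, fun b => hou _ b rfl⟩
    rcases hcase x with hx | ⟨a, hx⟩ <;> rcases hcase y with hy | ⟨b, hy⟩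
    · rw [hin x hx, hin y hy, hin (x * y) (mul_mem hx hy), ← map_mul]
      rfl
    · set a : B := ⟨x, hx⟩ with ha
      rw [hin x hx, hou y b hy, hou (x * y) (⟨z * a * z⁻¹, hN a a.2⟩ * b) ?_, map_mul, hinv,
        mul_left_comm]
      show (x : G) * y = z * (z * a * z⁻¹ * b)
      rw [hy, hzi]
      simp only [← mul_assoc, hz2, one_mul, ha]
    · rw [hou x a hx, hin y hy, hou (x * y) (a * ⟨y, hy⟩) (by
        show (x : G) * y = z * ((a : G) * y)
        rw [hx, mul_assoc]), map_mul, mul_assoc]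
    · have hm : (x : G) * y = ((⟨z * a * z⁻¹, hN a a.2⟩ * b : B) : G) := by
        show (x : G) * y = z * a * z⁻¹ * b
        rw [hx, hy, hzi, ← mul_assoc]
      have hxy : ((x * y : W) : G) ∈ B := by
        rw [Subgroup.coe_mul, hm]; exact SetLike.coe_mem _
      rw [hou x a hx, hou y b hy, hin (x * y) hxy, show (⟨((x * y : W) : G), hxy⟩ : B) =
        ⟨z * a * z⁻¹, hN a a.2⟩ * b from Subtype.ext hm, map_mul, hinv, mul_mul_mul_comm, he,
        one_mul]
  haveI := Fintype.ofFinite W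
  have hsplit : ∀ F : W → ℂ, ∑ x, F x =
      ∑ b : B, F ⟨b, Or.inl b.2⟩ + ∑ b : B, F ⟨z * b, Or.inr (by
        rw [← mul_assoc, hz2, one_mul]; exact b.2)⟩ := by
    intro F
    let φ : B ⊕ B → W := Sum.elim (fun b => ⟨b, Or.inl b.2⟩) fun b => ⟨z * b, Or.inr (by
      rw [← mul_assoc, hz2, one_mul]; exact b.2)⟩
    have hφ : Function.Bijective φ := by
      refine ⟨?_, fun x => ?_⟩
      · rintro (a | a) (b | b) h <;> have h' := congrArg Subtype.val h
        · exact congrArg Sum.inl (Subtype.ext h')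
        · exact absurd ((show (a : G) = z * b from h') ▸ a.2) (hout b b.2)
        · exact absurd ((show z * (a : G) = b from h').symm ▸ b.2) (hout a a.2)
        · exact congrArg Sum.inr (Subtype.ext (mul_left_cancel h'))
      · rcases x.2 with h | h
        · exact ⟨Sum.inl ⟨x, h⟩, rfl⟩
        · exact ⟨Sum.inr ⟨_, h⟩, Subtype.ext (by simp [φ, ← mul_assoc, hz2])⟩
    rw [← Fintype.sum_bijective φ hφ (fun s => F (φ s)) F fun _ => rfl, Fintype.sum_sum_type]
    rfl
  have hcard : (Nat.card W : ℂ) = 2 * Nat.card B := by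
    have := hsplit fun _ => (1 : ℂ)
    simp only [Finset.sum_const, Finset.card_univ, nsmul_eq_mul, mul_one] at this
    rw [Nat.card_eq_fintype_card, Nat.card_eq_fintype_card, this]; ring
  rw [finsum_eq_sum_of_fintype] at hS
  have hmain : ∀ e : ℂˣ, e * e = 1 →
      ∃ a : ℕ, linMult B χ lam + (e : ℂ) * S = 2 * a := by
    intro e he
    obtain ⟨f, h1, h2⟩ := hext e he
    obtain ⟨a, ha⟩ := exists_nat_linMult hχ W f
    refine ⟨a, ?_⟩
    rw [← ha, linMult_eq_sum, linMult_eq_sum, hsplit, hcard]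
    have hi : ∀ (b : B) (hb : (b : G) ∈ W),
        (⟨(b : G), hb⟩ : W)⁻¹ = ⟨((b⁻¹ : B) : G), Or.inl (b⁻¹).2⟩ := fun b hb => rfl
    have t1 : ∀ b : B, χ (b : G) * ((f (⟨b, Or.inl b.2⟩ : W)⁻¹ : ℂˣ) : ℂ) =
        χ (b : G) * ((lam b⁻¹ : ℂˣ) : ℂ) := fun b => by rw [hi, h1]
    have t2 : ∀ b : B, χ (z * (b : G)) * ((f (⟨z * b, Or.inr (by
        rw [← mul_assoc, hz2, one_mul]; exact b.2)⟩ : W)⁻¹ : ℂˣ) : ℂ) =
        (e : ℂ) * (χ (z * (b : G)) * ((lam b⁻¹ : ℂˣ) : ℂ)) := fun b => by
      rw [map_inv, h2, _root_.mul_inv_rev, ← map_inv lam, inv_eq_of_mul_eq_one_right he,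
        Units.val_mul]
      ring
    show _ = 2 * (_ * (∑ b : B, _ + ∑ b : B, _))
    rw [Finset.sum_congr rfl fun b _ => t1 b, Finset.sum_congr rfl fun b _ => t2 b,
      ← Finset.mul_sum, hS]
    field_simp [subgroup_card_ne_zero]
  obtain ⟨a, ha⟩ := hmain 1 (by simp)
  obtain ⟨a', ha'⟩ := hmain (-1) (by simp)
  exact ⟨⟨a, by simpa using ha⟩, ⟨a', by simpa [sub_eq_add_neg] using ha'⟩⟩

end CfsgLib.SuborbitThree
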