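import Cfsg.Agent.SuborbitThree.SDBase
import Cfsg.Agent.Characters.GL23.Basis

/-!
# Five induced generalized characters, constant on the fibres over `GL(2, 3)`
-/

set_option autoImplicit false
set_option linter.style.haveILetI false
set_option linter.unusedSectionVars false

namespace CfsgLib.SuborbitThree

open scoped ComplexConjugate
open Matrix CfsgLib.Characters CfsgLib.Characters.GL23

universe u

variable {G : Type u} [Group G] [Fintype G] {z : G}

/-- A class function on the centralizer vanishing off the roots of `z` is the restriction of the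
induced one. -/
theorem ind_roots (hz : orderOf z = 2) {f : Subgroup.centralizer ({z} : Set G) → ℂ}
    (hf : Cfsg.IsClassFunction _ f)
    (h0 : ∀ x : Subgroup.centralizer ({z} : Set G), (x : G) ∉ roots z → f x = 0)
    {x : Subgroup.centralizer ({z} : Set G)} (hx : (x : G) ∈ roots z) :
    Cfsg.indFun (Subgroup.centralizer ({z} : Set G)) f x = f x := by
  classical
  have hterm : ∀ g : G, Cfsg.extendByZero (Subgroup.centralizer ({z} : Set G)) f
      (g⁻¹ * x * g) = if g ∈ Subgroup.centralizer ({z} : Set G) then f x else 0 := by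
    intro g
    split_ifs with hg
    · rw [extendByZero_of_mem _ _ (mul_mem (mul_mem (inv_mem hg) x.2) hg)]
      have h := hf x (⟨g, hg⟩⁻¹ : Subgroup.centralizer ({z} : Set G))
      rw [inv_inv] at h
      exact h
    · by_cases hm : g⁻¹ * x * g ∈ Subgroup.centralizer ({z} : Set G)
      · rw [extendByZero_of_mem _ _ hm]
        refine h0 _ ?_
        simpa using roots_ti hz (fun h => hg (by simpa using inv_mem h) :
          g⁻¹ ∉ Subgroup.centralizer ({z} : Set G)) hx
      · exact extendByZero_of_not_mem _ _ hm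
  simp only [Cfsg.indFun, hterm]
  rw [← Finset.sum_filter, Finset.sum_const, nsmul_eq_mul, ← Fintype.card_subtype,
    ← Nat.card_eq_fintype_card, ← mul_assoc,
    inv_mul_cancel₀ (subgroup_card_ne_zero _), one_mul]

/-- Induction is an isometry on class functions vanishing off the roots of `z`. -/
theorem classInner_ind_roots (hz : orderOf z = 2)
    [Fintype (Subgroup.centralizer ({z} : Set G))]
    {f g : Subgroup.centralizer ({z} : Set G) → ℂ}
    (hf0 : ∀ x : Subgroup.centralizer ({z} : Set G), (x : G) ∉ roots z → f x = 0)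
    (hg : Cfsg.IsClassFunction _ g)
    (hg0 : ∀ x : Subgroup.centralizer ({z} : Set G), (x : G) ∉ roots z → g x = 0) :
    Cfsg.classInner (Cfsg.indFun (Subgroup.centralizer ({z} : Set G)) f)
      (Cfsg.indFun (Subgroup.centralizer ({z} : Set G)) g) = Cfsg.classInner f g := by
  rw [classInner_indFun _ _ (isClassFunction_indFun _ _), Cfsg.classInner, Cfsg.classInner]
  congr 1
  refine Finset.sum_congr rfl fun x _ => ?_
  by_cases hx : (x : G) ∈ roots z
  · rw [ind_roots hz hg hg0 hx]
  · rw [hf0 x hx, zero_mul, zero_mul]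

theorem mul3_assoc' (u v w : M3) : mul3 (mul3 u v) w = mul3 u (mul3 v w) := by
  obtain ⟨a, b, c, d⟩ := u
  obtain ⟨a', b', c', d'⟩ := v
  obtain ⟨a'', b'', c'', d''⟩ := w
  simp only [mul3, Prod.mk.injEq]
  refine ⟨?_, ?_, ?_, ?_⟩ <;> ring

theorem mul3_one' (u : M3) : mul3 u one3 = u := by
  obtain ⟨a, b, c, d⟩ := u
  simp [mul3, one3]

namespace SDPres

variable (D : SDPres z)

/-- The faithful representation of degree two of the quotient. -/
noncomputable def repP :
    Representation ℂ (Subgroup.centralizer ({z} : Set G)) (Fin 2 → ℂ) where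
  toFun x := Matrix.toLinAlgEquiv' (repMat (D.co x))
  map_one' := by
    rw [co_one, repMat, rep_one]
    simp [← Matrix.one_fin_two]
  map_mul' x y := by
    rw [co_mul, ← map_mul]
    congr 1
    rw [repMat, rep_mul _ (D.co_mem x) _ (D.co_mem y)]
    simp [repMat, mulR]

theorem character_repP (x : Subgroup.centralizer ({z} : Set G)) :
    D.repP.character x = emb (psi (D.co x)) := by
  show LinearMap.trace ℂ _ (Matrix.toLin' (repMat (D.co x))) = _
  rw [Matrix.trace_toLin'_eq, Matrix.trace_fin_two]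
  simp [repMat, psi]

/-- The sign character. -/
noncomputable def sgnP : Subgroup.centralizer ({z} : Set G) →* ℂˣ where
  toFun x := ⟨emb (sgn (D.co x)), emb (sgn (D.co x)),
    by rw [← map_mul, sgn_mul_self, map_one], by rw [← map_mul, sgn_mul_self, map_one]⟩
  map_one' := by ext; simp [co_one, sgn_one]
  map_mul' x y := by
    ext
    simp [co_mul, sgn_mul _ (D.co_mem x) _ (D.co_mem y)]

/-- The five generalized characters of the centralizer. -/
noncomputable def baseP (i : Fin 5) : Subgroup.centralizer ({z} : Set G) → ℂ :=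
  fun x => emb (base i (D.co x))

theorem isGen_baseP (i : Fin 5) : Cfsg.IsGeneralizedCharacter _ (D.baseP i) := by
  haveI := Fintype.ofFinite (Subgroup.centralizer ({z} : Set G))
  have hψ : Cfsg.IsGeneralizedCharacter _ (fun x => emb (psi (D.co x))) := by
    rw [← funext D.character_repP]
    exact isGen_of_isCharacter (isCharacter_character _)
  have hσ : Cfsg.IsGeneralizedCharacter _ (fun x => emb (sgn (D.co x))) :=
    isGen_of_isIrr (isIrr_linChar D.sgnP)
  have hψ' : Cfsg.IsGeneralizedCharacter _ (fun x => emb (star (psi (D.co x)))) := by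
    simp only [← conj_emb]
    exact isGen_conj hψ
  have h1 : Cfsg.IsGeneralizedCharacter (Subgroup.centralizer ({z} : Set G)) (fun _ => 1) :=
    isGen_one
  have h3 : Cfsg.IsGeneralizedCharacter _ (fun x => emb (chi3 (D.co x))) := by
    simp only [chi3, map_sub, map_mul]
    exact isGen_sub (isGen_mul hψ hψ) hσ
  have h3' : Cfsg.IsGeneralizedCharacter _ (fun x => emb (chi3' (D.co x))) := by
    simp only [chi3', map_sub, map_mul, map_one]
    exact isGen_sub (isGen_mul hψ hψ') h1
  have h2 : Cfsg.IsGeneralizedCharacter _ (fun x => emb (chi2 (D.co x))) := by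
    simp only [chi2, map_sub, map_mul, map_one]
    exact isGen_sub (isGen_sub (isGen_sub (isGen_mul h3 h3) h1) h3) h3'
  fin_cases i
  all_goals
    unfold baseP
    simp [base]
  · exact isGen_sub (isGen_add h1 h2) h3
  · exact isGen_sub (isGen_add hσ h2) h3'
  · exact isGen_sub (isGen_add hψ h1) h3
  · exact isGen_sub (isGen_add hψ' h1) h3
  · exact isGen_sub (isGen_sub (isGen_mul hψ h2) h3) hσ

theorem baseP_eq_zero (i : Fin 5) {x : Subgroup.centralizer ({z} : Set G)}
    (hx : (x : G) ∉ roots z) : D.baseP i x = 0 := by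
  rw [baseP, base_eq_zero i _ (D.co_mem x) (mt (D.mem_zpowers_iff_inD x).2 hx), map_zero]

theorem isClassFunction_baseP (i : Fin 5) : Cfsg.IsClassFunction _ (D.baseP i) :=
  isClassFunction_of_isGen (D.isGen_baseP i)

/-- The sum over a fibre. -/
noncomputable def fib (χ : G → ℂ) (v : M3) : ℂ :=
  ∑ᶠ x : {x // D.co x = v}, χ (x.1 : G)

theorem sum_fibre [Fintype (Subgroup.centralizer ({z} : Set G))] [DecidableEq M3]
    (f : Subgroup.centralizer ({z} : Set G) → ℂ) :
    ∑ x, f x = ∑ v ∈ elts, ∑ x ∈ Finset.univ.filter (fun x => D.co x = v), f x :=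
  (Finset.sum_fiberwise_of_maps_to (fun x _ => D.co_mem x) f).symm

theorem sum_co [Fintype (Subgroup.centralizer ({z} : Set G))] (F : M3 → ℂ) :
    ∑ x, F (D.co x) = (D.n : ℂ) * ∑ v ∈ elts, F v := by
  classical
  rw [D.sum_fibre, Finset.mul_sum]
  refine Finset.sum_congr rfl fun v hv => ?_
  rw [Finset.sum_congr rfl fun x hx => by rw [(Finset.mem_filter.1 hx).2], Finset.sum_const,
    nsmul_eq_mul, ← Fintype.card_subtype, ← Nat.card_eq_fintype_card, D.card_fibre hv]

theorem fib_eq [Fintype (Subgroup.centralizer ({z} : Set G))] (χ : G → ℂ) (v : M3)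
    [DecidableEq M3] :
    D.fib χ v = ∑ x ∈ Finset.univ.filter (fun x => D.co x = v), χ (x : G) := by
  rw [fib, finsum_eq_sum_of_fintype]
  exact (Finset.sum_subtype _ (by simp) fun x : Subgroup.centralizer ({z} : Set G) => χ (x : G)).symm

theorem fib_conj {χ : G → ℂ} (hχ : Cfsg.IsClassFunction G χ) {v w g : M3} (hv : v ∈ elts)
    (hg : g ∈ elts) (h : mul3 g v = mul3 w g) : D.fib χ v = D.fib χ w := by
  obtain ⟨c, rfl⟩ := D.co_surj hg
  have hci : mul3 (D.co c) (D.co c⁻¹) = one3 := by rw [← co_mul, mul_inv_cancel, co_one]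
  have key : ∀ x : Subgroup.centralizer ({z} : Set G), D.co x = v → D.co (c * x * c⁻¹) = w := by
    intro x hx
    rw [co_mul, co_mul, hx, h, mul3_assoc', hci, mul3_one']
  have hinv : ∀ x : Subgroup.centralizer ({z} : Set G), D.co x = w → D.co (c⁻¹ * x * c) = v := by
    intro x hx
    rw [co_mul, co_mul, hx, mul3_assoc', ← h, ← mul3_assoc', ← co_mul, inv_mul_cancel, co_one]
    obtain ⟨a, b, c', d⟩ := v
    simp [mul3, one3]
  unfold fib
  refine finsum_eq_of_bijective (fun x => ⟨c * x.1 * c⁻¹, key x.1 x.2⟩)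
    ⟨fun x x' hxx => ?_, fun x => ⟨⟨c⁻¹ * x.1 * c, hinv x.1 x.2⟩, ?_⟩⟩ fun x => ?_
  · exact Subtype.ext (mul_left_cancel (mul_right_cancel (congrArg Subtype.val hxx)))
  · exact Subtype.ext (by group)
  · show χ x.1 = χ ((c * x.1 * c⁻¹ : Subgroup.centralizer ({z} : Set G)) : G)
    rw [Subgroup.coe_mul, Subgroup.coe_mul, Subgroup.coe_inv, hχ]

/-- The induced generalized characters. -/
noncomputable def XP (i : Fin 5) : G → ℂ :=
  Cfsg.indFun (Subgroup.centralizer ({z} : Set G)) (D.baseP i)

theorem isGen_XP (i : Fin 5) : Cfsg.IsGeneralizedCharacter G (D.XP i) :=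
  isGen_indFun _ (D.isGen_baseP i)

theorem XP_one (i : Fin 5) : D.XP i 1 = 0 := by
  rw [XP, indFun_one, baseP, co_one, base_one, map_zero, mul_zero]

theorem cardC_cast : (Nat.card (Subgroup.centralizer ({z} : Set G)) : ℂ) = 48 * (D.n : ℂ) := by
  rw [D.card_centralizer]; push_cast; rfl

theorem n_ne_zero : (D.n : ℂ) ≠ 0 := Nat.cast_ne_zero.2 D.n_pos.ne'

theorem gram_XP (i j : Fin 5) :
    Cfsg.classInner (D.XP i) (D.XP j) = emb (![![3, 1, 2, 2, 1], ![1, 3, 0, 0, -1], ![2, 0, 3, 2, 1],
      ![2, 0, 2, 3, 1], ![1, -1, 1, 1, 3]] i j) := by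
  classical
  haveI := Fintype.ofFinite (Subgroup.centralizer ({z} : Set G))
  rw [XP, XP, classInner_ind_roots D.ord_z (fun x hx => D.baseP_eq_zero i hx)
    (D.isClassFunction_baseP j) (fun x hx => D.baseP_eq_zero j hx), Cfsg.classInner, D.cardC_cast]
  simp only [baseP, conj_emb, ← map_mul]
  rw [D.sum_co (fun v => emb (base i v * star (base j v))), ← map_sum, GL23.gram, map_mul, map_ofNat]
  field_simp [D.n_ne_zero]

theorem classInner_XP_one (i : Fin 5) :
    Cfsg.classInner (D.XP i) (fun _ => 1) = emb (![1, 0, 1, 1, 0] i) := by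
  classical
  haveI := Fintype.ofFinite (Subgroup.centralizer ({z} : Set G))
  rw [XP, classInner_indFun _ _ (fun _ _ => rfl), Cfsg.classInner, D.cardC_cast]
  simp only [map_one, mul_one, baseP]
  rw [D.sum_co (fun v => emb (base i v)), ← map_sum, sum_base, map_mul, map_ofNat]
  field_simp [D.n_ne_zero]

theorem conj_XP : (fun g => conj (D.XP 2 g)) = D.XP 3 := by
  funext g
  simp only [XP, Cfsg.indFun, map_mul, map_inv₀, Complex.conj_natCast, map_sum]
  congr 1
  refine Finset.sum_congr rfl fun x _ => ?_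
  by_cases hx : x⁻¹ * g * x ∈ Subgroup.centralizer ({z} : Set G)
  · rw [extendByZero_of_mem _ _ hx, extendByZero_of_mem _ _ hx, baseP, baseP, conj_emb,
      star_base_two _ (D.co_mem _)]
  · rw [extendByZero_of_not_mem _ _ hx, extendByZero_of_not_mem _ _ hx, map_zero]

theorem classInner_XP (i : Fin 5) {χ : G → ℂ} (hχ : Cfsg.IsClassFunction G χ) :
    48 * (D.n : ℂ) * Cfsg.classInner (D.XP i) χ = ∑ j : Fin 5,
      emb (![1, 6, 8, 6, 6] j * base i (classRep j)) * conj (D.fib χ (classRep j)) := by
  classical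
  haveI := Fintype.ofFinite (Subgroup.centralizer ({z} : Set G))
  have hv : ∀ v ∈ elts, (∑ x ∈ Finset.univ.filter (fun x => D.co x = v), D.baseP i x * conj (χ x)) =
      ∑ j : Fin 5, (if inD v ∧ cls v = j then emb (base i v) else 0) *
        conj (D.fib χ (classRep j)) := by
    intro v hv
    rw [Finset.sum_congr rfl fun x hx => by
      rw [baseP, (Finset.mem_filter.1 hx).2], ← Finset.mul_sum, ← map_sum, ← D.fib_eq]
    by_cases hD : inD v
    · rw [Fintype.sum_eq_single (cls v) (fun j hj => by
        rw [if_neg fun h => hj h.2.symm, zero_mul]), if_pos ⟨hD, rfl⟩]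
      obtain ⟨g, hg, hgx⟩ := cls_spec _ hv hD
      rw [D.fib_conj hχ hv hg hgx]
    · rw [base_eq_zero i v hv hD, map_zero, zero_mul,
        Finset.sum_eq_zero fun j _ => by rw [if_neg fun h => hD h.1, zero_mul]]
  rw [XP, classInner_indFun _ _ hχ, Cfsg.classInner, D.cardC_cast, ← mul_assoc,
    mul_inv_cancel₀ (mul_ne_zero (by norm_num) D.n_ne_zero), one_mul, D.sum_fibre,
    Finset.sum_congr rfl hv, Finset.sum_comm]
  refine Finset.sum_congr rfl fun j _ => ?_
  rw [← Finset.sum_mul, ← Finset.sum_filter, ← map_sum, class_sum]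

end SDPres

end CfsgLib.SuborbitThree
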