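import Cfsg.Agent.SuborbitThree.SDValues
import Cfsg.Agent.SuborbitThree.SDCount
import Cfsg.Agent.Solvable.Frattini

/-!
# The kernel is trivial
-/

set_option autoImplicit false
set_option linter.style.haveILetI false
set_option linter.unusedSectionVars false

namespace CfsgLib.SuborbitThree

open scoped ComplexConjugate
open CfsgLib.Characters CfsgLib.Characters.GL23

universe u

theorem q8_card : (elts.filter InQ8).card = 8 := by decide +kernel

theorem q8_invol : ∀ v ∈ elts, InQ8 v → pow3 v 2 = one3 → v = one3 ∨ v = m1 := by decide +kernel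

theorem centralizing_q8 : ∀ v ∈ elts, det3 v = 1 →
    mul3 v (0, 1, 2, 0) = mul3 (0, 1, 2, 0) v → mul3 v (1, 1, 1, 2) = mul3 (1, 1, 1, 2) v →
    v = one3 ∨ v = m1 := by
  decide +kernel

theorem eq_one_of_ord_dvd {A : Type*} [Group A] {x : A} {a b : ℕ} (ha : orderOf x ∣ a)
    (hb : orderOf x ∣ b) (hab : a.Coprime b) : x = 1 :=
  orderOf_eq_one_iff.1 (Nat.dvd_one.1 (hab ▸ Nat.dvd_gcd ha hb))

namespace SDPres

variable {G : Type u} [Group G] {z : G} (D : SDPres z)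

/-- The kernel as a subgroup of `G`. -/
def OG : Subgroup G := D.π.ker.map (Subgroup.centralizer ({z} : Set G)).subtype

/-- The inverting involution in `G`. -/
def yG : G := (D.y : G)

variable [Finite G]

/-- The quaternion group as a subgroup of `G`. -/
def QG : Subgroup G := D.Q.map (Subgroup.centralizer ({z} : Set G)).subtype

include D

theorem OG_le_C : D.OG ≤ Subgroup.centralizer ({z} : Set G) := Subgroup.map_subtype_le _

theorem mem_OG {x : G} : x ∈ D.OG ↔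
    ∃ o ∈ D.π.ker, ((o : Subgroup.centralizer ({z} : Set G)) : G) = x := Subgroup.mem_map

theorem mem_QG {x : G} : x ∈ D.QG ↔
    ∃ q ∈ D.Q, ((q : Subgroup.centralizer ({z} : Set G)) : G) = x := Subgroup.mem_map

theorem card_OG : Nat.card D.OG = D.n :=
  Subgroup.card_map_of_injective (Subgroup.subtype_injective _)

theorem OG_comm {a b : G} (ha : a ∈ D.OG) (hb : b ∈ D.OG) : a * b = b * a := by
  obtain ⟨a, ha', rfl⟩ := D.mem_OG.1 ha
  obtain ⟨b, hb', rfl⟩ := D.mem_OG.1 hb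
  exact congrArg Subtype.val (D.ker_comm ha' hb')

theorem OG_inv {a : G} (ha : a ∈ D.OG) : D.yG * a * D.yG⁻¹ = a⁻¹ := by
  obtain ⟨a, ha', rfl⟩ := D.mem_OG.1 ha
  exact congrArg Subtype.val (D.y_inv a ha')

theorem OG_odd {a : G} (ha : a ∈ D.OG) : Odd (orderOf a) := by
  obtain ⟨a, ha', rfl⟩ := D.mem_OG.1 ha
  rw [Subgroup.orderOf_coe]
  exact D.ker_odd_order ha'

theorem QG_OG {q a : G} (hq : q ∈ D.QG) (ha : a ∈ D.OG) : q * a = a * q := by
  obtain ⟨a, ha', rfl⟩ := D.mem_OG.1 ha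
  obtain ⟨q, hq', rfl⟩ := D.mem_QG.1 hq
  exact congrArg Subtype.val (D.comm_of_det hq'.1.1 ha')

theorem z_mem_QG : z ∈ D.QG :=
  D.mem_QG.2 ⟨tC, ⟨by rw [D.co_tC]; decide, by
    rw [show (4 : ℕ) = 2 * 2 from rfl, pow_mul, D.tC_sq, one_pow]⟩, rfl⟩

theorem QG_le_C : D.QG ≤ Subgroup.centralizer ({z} : Set G) := Subgroup.map_subtype_le _

/-- A nontrivial element of `Q` is `z` or squares to `z`. -/
theorem QG_cases {q : G} (hq : q ∈ D.QG) (hne : q ≠ 1) : q = z ∨ q ^ 2 = z := by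
  obtain ⟨q, hq', rfl⟩ := D.mem_QG.1 hq
  rcases D.central_sq hq'.1 hq'.2 with h | h
  · left
    have h2 : orderOf q = 2 := orderOf_eq_prime h fun e => hne (by rw [e]; rfl)
    have hco := q8_invol _ (D.co_mem q) hq'.1 (by rw [← co_pow, h, co_one])
    rcases hco with e | e
    · exact absurd (D.eq_one_of_pow_four (D.co_eq_one_iff.1 e) hq'.2) fun e' => hne (by rw [e']; rfl)
    · rw [D.eq_tC_of_ord h2 e]; rfl
  · exact Or.inr (by rw [← SubmonoidClass.coe_pow, h]; rfl)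

theorem card_QG : Nat.card D.QG = 8 := by
  rw [QG, Subgroup.card_map_of_injective (Subgroup.subtype_injective _), ← q8_card,
    ← Nat.card_eq_finsetCard]
  refine Nat.card_eq_of_bijective
    (fun q => (⟨D.co q.1, Finset.mem_filter.2 ⟨D.co_mem _, q.2.1⟩⟩ : elts.filter InQ8))
    ⟨fun a b h => ?_, fun v => ?_⟩
  · obtain ⟨q, -, hu⟩ := D.existsUnique_Q (D.co_mem a.1) a.2.1
    exact Subtype.ext ((hu _ ⟨a.2, rfl⟩).trans (hu _ ⟨b.2, (congrArg Subtype.val h).symm⟩).symm)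
  · obtain ⟨hv, hv'⟩ := Finset.mem_filter.1 v.2
    obtain ⟨q, ⟨hq, hqv⟩, -⟩ := D.existsUnique_Q hv hv'
    exact ⟨⟨q, hq⟩, Subtype.ext hqv⟩

theorem z_sq : z * z = 1 := Small.mul_self_of_orderOf_two D.ord_z

theorem z_inv : z⁻¹ = z := Small.inv_eq_self_of_orderOf_two D.ord_z

theorem z_OG {a : G} (ha : a ∈ D.OG) : z * a = a * z :=
  (Subgroup.mem_centralizer_singleton_iff.1 (D.OG_le_C ha)).symm

/-- An involution commuting with `z` and centralizing part of the kernel is `z`. -/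
theorem eq_z {w : G} (hw : orderOf w = 2) (hwz : w * z = z * w) {o : G} (ho : o ∈ D.OG)
    (ho1 : o ≠ 1) (hwo : w * o = o * w) : w = z := by
  obtain ⟨o, ho', rfl⟩ := D.mem_OG.1 ho
  set wC : Subgroup.centralizer ({z} : Set G) :=
    ⟨w, Subgroup.mem_centralizer_singleton_iff.2 hwz⟩ with hwC
  rcases D.ord_cases (x := wC) hw with h | ⟨h1, h2⟩
  · exact congrArg Subtype.val h
  · exfalso
    have h3 := D.inv_of_refl h1 h2 ho'
    have h4 : wC * o = o * wC := Subtype.ext hwo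
    rw [h4, mul_inv_cancel_right] at h3
    exact ho1 (by rw [eq_inv_self_odd h3 (D.ker_odd_order ho')]; rfl)

end SDPres

namespace SDPres

variable {G : Type u} [Group G] [Fintype G] {z : G} (D : SDPres z)

/-- The data of the small character. -/
structure SmallChar (D : SDPres z) where
  χ : Cfsg.IrrCharacter G
  deg : ℕ
  c : ℤ
  h_one : (χ : G → ℂ) 1 = deg
  h_z : ∀ o ∈ D.OG, (χ : G → ℂ) (z * o) = c
  small : (deg = 12 ∧ c = 4) ∨ (deg = 10 ∧ c = -2)

variable {D} (S : SmallChar D)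

include S

theorem SmallChar.char : Cfsg.IsCharacter G (S.χ : G → ℂ) := isCharacter_of_isIrr S.χ.2

theorem SmallChar.cls : Cfsg.IsClassFunction G (S.χ : G → ℂ) := isClassFunction_of_isIrr S.χ.2

theorem SmallChar.faithful [IsSimpleGroup G] {g : G} (h : (S.χ : G → ℂ) g = (S.χ : G → ℂ) 1) :
    g = 1 := by
  obtain ⟨m, ρ, -, hρ⟩ := S.χ.2
  have hk : ∀ x, x ∈ MonoidHom.ker ρ ↔ (S.χ : G → ℂ) x = (S.χ : G → ℂ) 1 := fun x => by
    rw [← hρ, Representation.char_one, char_eq_finrank_iff, MonoidHom.mem_ker]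
    rfl
  rcases (inferInstance : (MonoidHom.ker ρ).Normal).eq_bot_or_eq_top with hb | ht
  · exact Subgroup.mem_bot.1 (hb ▸ (hk g).2 h)
  · exfalso
    have hz := (hk z).1 (ht ▸ Subgroup.mem_top z)
    have := S.h_z 1 D.OG.one_mem
    rw [mul_one] at this
    rw [this, S.h_one] at hz
    rcases S.small with ⟨h1, h2⟩ | ⟨h1, h2⟩ <;> rw [h1, h2] at hz <;> norm_num at hz

/-- Conjugate characters of a subgroup of the kernel have equal multiplicities. -/
theorem SmallChar.mult_inv {B : Subgroup G} (hB : B ≤ D.OG) (lam : B →* ℂˣ) :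
    linMult B (S.χ : G → ℂ) lam⁻¹ = linMult B (S.χ : G → ℂ) lam := by
  refine linMult_conj S.cls B D.yG (fun b hb => ?_) lam lam⁻¹ fun b => ?_
  · rw [D.OG_inv (hB hb)]; exact inv_mem hb
  · rw [MonoidHom.inv_apply, ← map_inv]
    exact congrArg lam (Subtype.ext (D.OG_inv (hB b.2)).symm)

theorem SmallChar.mult_one_ge {B : Subgroup G} (hzB : z ∉ B)
    (hN : ∀ b ∈ B, z * b * z⁻¹ ∈ B)
    (hval : ∀ b ∈ B, (S.χ : G → ℂ) (z * b) = S.c) :
    ∀ t : ℕ, linMult B (S.χ : G → ℂ) 1 = t → (S.c : ℤ) ≤ t ∧ -(S.c : ℤ) ≤ t := by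
  intro t ht
  haveI := Fintype.ofFinite B
  obtain ⟨⟨a, ha⟩, ⟨a', ha'⟩⟩ := linMult_involution S.char B D.z_sq hzB hN 1 (fun b => rfl)
    (S := (S.c : ℂ)) (by
      rw [finsum_eq_sum_of_fintype, Finset.sum_congr rfl fun b _ => by
        rw [hval _ b.2, MonoidHom.one_apply, Units.val_one, mul_one], Finset.sum_const,
        Finset.card_univ, nsmul_eq_mul, Nat.card_eq_fintype_card])
  rw [ht] at ha ha'
  have e1 : (t : ℤ) + S.c = 2 * a := by exact_mod_cast ha
  have e2 : (t : ℤ) - S.c = 2 * a' := by exact_mod_cast ha'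
  omega

omit S in
theorem z_notin_OG : z ∉ D.OG := fun h => by
  have := D.OG_odd h
  rw [D.ord_z] at this
  exact absurd this (by decide)

theorem SmallChar.even_mult {B : Subgroup G} (hB : B ≤ D.OG) {lam : B →* ℂˣ} (hlam : lam ≠ 1) :
    ∃ a : ℕ, linMult B (S.χ : G → ℂ) lam = 2 * a := by
  haveI := Fintype.ofFinite B
  have hc : ∀ b : B, z * (b : G) * z⁻¹ = b := fun b => by
    rw [D.z_OG (hB b.2), mul_inv_cancel_right]
  obtain ⟨⟨a, ha⟩, -⟩ := linMult_involution S.char B D.z_sq (fun h => z_notin_OG (hB h))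
    (fun b hb => by rw [hc ⟨b, hb⟩]; exact hb) lam
    (fun b => congrArg lam (Subtype.ext (hc b))) (S := 0) (by
      rw [finsum_eq_sum_of_fintype, mul_zero, Finset.sum_congr rfl fun b _ => by
        rw [S.h_z _ (hB b.2)], ← Finset.mul_sum]
      obtain ⟨x, hx⟩ : ∃ x, lam x ≠ 1 := by
        by_contra h
        push Not at h
        exact hlam (MonoidHom.ext h)
      have hsum : ((lam x⁻¹ : ℂˣ) : ℂ) * ∑ b : B, ((lam b⁻¹ : ℂˣ) : ℂ) =
          ∑ b : B, ((lam b⁻¹ : ℂˣ) : ℂ) := by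
        rw [Finset.mul_sum]
        refine Fintype.sum_equiv (Equiv.mulRight x) _ _ fun b => ?_
        rw [Equiv.coe_mulRight, _root_.mul_inv_rev, map_mul, Units.val_mul]
      by_cases h0 : ∑ b : B, ((lam b⁻¹ : ℂˣ) : ℂ) = 0
      · rw [h0, mul_zero]
      · have := Units.val_eq_one.1 ((mul_eq_right₀ h0).1 hsum)
        rw [map_inv, inv_eq_one] at this
        exact absurd this hx)
  exact ⟨a, by simpa using ha⟩

/-- The trivial character and a pair of conjugate characters. -/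
theorem SmallChar.pair_le {B : Subgroup G} (hB : B ≤ D.OG) {lam : B →* ℂˣ} (hlam : lam ≠ 1)
    {t t0 : ℕ} (ht : linMult B (S.χ : G → ℂ) lam = t) (ht0 : linMult B (S.χ : G → ℂ) 1 = t0) :
    t0 + 2 * t ≤ S.deg := by
  classical
  have hcomm : ∀ a ∈ B, ∀ b ∈ B, a * b = b * a := fun a ha b hb => D.OG_comm (hB ha) (hB hb)
  haveI := finite_hom B hcomm
  haveI := Fintype.ofFinite (B →* ℂˣ)
  choose m hm using fun μ : B →* ℂˣ => exists_nat_linMult S.char B μ
  have hsum := linMult_sum (χ := (S.χ : G → ℂ)) B hcomm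
  rw [S.h_one, Finset.sum_congr rfl fun μ _ => hm μ] at hsum
  have hsum' : ∑ μ, m μ = S.deg := by exact_mod_cast hsum
  have hne : lam⁻¹ ≠ lam := by
    intro h
    refine hlam (MonoidHom.ext fun x => ?_)
    have h2 := DFunLike.congr_fun h x
    rw [MonoidHom.inv_apply] at h2
    refine eq_inv_self_odd' h2.symm ((D.OG_odd (hB x.2)).of_dvd_nat ?_)
    rw [Subgroup.orderOf_coe]
    exact orderOf_map_dvd lam x
  have h1 : (1 : B →* ℂˣ) ≠ lam := Ne.symm hlam
  have h2 : (1 : B →* ℂˣ) ≠ lam⁻¹ := fun h => hlam (MonoidHom.ext fun x => by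
    simpa [MonoidHom.inv_apply, inv_eq_one] using (DFunLike.congr_fun h x).symm)
  have hle := Finset.sum_le_sum_of_subset (f := m) (Finset.subset_univ ({1, lam, lam⁻¹} :
    Finset (B →* ℂˣ)))
  rw [Finset.sum_insert (by simp [h1, h2]), Finset.sum_insert (by simp [hne.symm]),
    Finset.sum_singleton, hsum'] at hle
  have e0 : m 1 = t0 := by exact_mod_cast (hm 1).symm.trans ht0
  have e1 : m lam = t := by exact_mod_cast (hm lam).symm.trans ht
  have e2 : m lam⁻¹ = t := by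
    have := hm lam⁻¹
    rw [S.mult_inv hB, ht] at this
    exact_mod_cast this.symm
  omega

/-- An odd order abelian `Q`-invariant subgroup inverted by `z` and centralizing a nontrivial
subgroup of the kernel is trivial. -/
theorem SmallChar.kill_abelian [IsSimpleGroup G] {V O1 : Subgroup G} (hO1 : O1 ≤ D.OG)
    (hO1ne : O1 ≠ ⊥) (hVc : ∀ a ∈ V, ∀ b ∈ V, a * b = b * a)
    (hVodd : ∀ v ∈ V, Odd (orderOf v)) (hVO : ∀ v ∈ V, ∀ o ∈ O1, v * o = o * v)
    (hVinv : ∀ v ∈ V, z * v * z⁻¹ = v⁻¹)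
    (hVQ : ∀ q ∈ D.QG, ∀ v ∈ V, q * v * q⁻¹ ∈ V) : V = ⊥ := by
  classical
  by_contra hV
  set B : Subgroup G := V ⊔ O1 with hBdef
  have hO1c : ∀ a ∈ O1, ∀ b ∈ O1, a * b = b * a := fun a ha b hb => D.OG_comm (hO1 ha) (hO1 hb)
  have hle1 : V ≤ Subgroup.centralizer (B : Set G) := by
    intro v hv
    rw [hBdef, Subgroup.sup_eq_closure, Subgroup.centralizer_closure, Subgroup.mem_centralizer_iff]
    rintro x (hx | hx)
    · exact hVc x hx v hv
    · exact (hVO v hv x hx).symm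
  have hle2 : O1 ≤ Subgroup.centralizer (B : Set G) := by
    intro v hv
    rw [hBdef, Subgroup.sup_eq_closure, Subgroup.centralizer_closure, Subgroup.mem_centralizer_iff]
    rintro x (hx | hx)
    · exact hVO x hx v hv
    · exact hO1c x hx v hv
  have hBc : ∀ a ∈ B, ∀ b ∈ B, a * b = b * a := fun a ha b hb =>
    (Subgroup.mem_centralizer_iff.1 (sup_le hle1 hle2 hb) a ha)
  have hVB : V ≤ B := le_sup_left
  have hOB : O1 ≤ B := le_sup_right
  haveI := finite_hom B hBc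
  haveI := Fintype.ofFinite (B →* ℂˣ)
  haveI := Fintype.ofFinite B
  -- decomposition of the elements
  have hdec : ∀ b ∈ B, ∃ v ∈ V, ∃ o ∈ O1, b = v * o := by
    intro b hb
    let P : Subgroup G :=
      { carrier := {b | ∃ v ∈ V, ∃ o ∈ O1, b = v * o}
        one_mem' := ⟨1, V.one_mem, 1, O1.one_mem, (mul_one 1).symm⟩
        mul_mem' := by
          rintro a b ⟨v, hv, o, ho, rfl⟩ ⟨v', hv', o', ho', rfl⟩
          refine ⟨v * v', mul_mem hv hv', o * o', mul_mem ho ho', ?_⟩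
          rw [mul_assoc v o, ← mul_assoc o v', ← hVO v' hv' o ho]; group
        inv_mem' := by
          rintro a ⟨v, hv, o, ho, rfl⟩
          refine ⟨v⁻¹, inv_mem hv, o⁻¹, inv_mem ho, ?_⟩
          rw [_root_.mul_inv_rev, hVO v⁻¹ (inv_mem hv) o⁻¹ (inv_mem ho)] }
    exact (sup_le (fun v hv => ⟨v, hv, 1, O1.one_mem, (mul_one v).symm⟩)
      (fun o ho => ⟨1, V.one_mem, o, ho, (one_mul o).symm⟩) : B ≤ P) hb
  choose m hm using fun μ : B →* ℂˣ => exists_nat_linMult S.char B μ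
  -- a constituent nontrivial on `V`
  obtain ⟨v0, hv0, hv01⟩ := (Subgroup.bot_or_exists_ne_one V).resolve_left hV
  obtain ⟨μ, hmμ, hμv⟩ : ∃ μ : B →* ℂˣ, m μ ≠ 0 ∧ μ ⟨v0, hVB hv0⟩ ≠ 1 := by
    by_contra hcon
    push Not at hcon
    refine hv01 (S.faithful ?_)
    rw [show v0 = ((⟨v0, hVB hv0⟩ : B) : G) from rfl,
      linMult_expansion (χ := (S.χ : G → ℂ)) B hBc ⟨v0, hVB hv0⟩,
      ← linMult_sum (χ := (S.χ : G → ℂ)) B hBc]
    refine Finset.sum_congr rfl fun μ _ => ?_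
    by_cases h : m μ = 0
    · rw [hm, h, Nat.cast_zero, zero_mul]
    · rw [hcon μ h, Units.val_one, mul_one]
  -- conjugates under `Q`
  have hQB : ∀ q ∈ D.QG, ∀ b ∈ B, q * b * q⁻¹ ∈ B := by
    intro q hq b hb
    obtain ⟨v, hv, o, ho, rfl⟩ := hdec b hb
    have : q * (v * o) * q⁻¹ = (q * v * q⁻¹) * o := by
      rw [← mul_assoc q, mul_assoc (q * v) o, ← D.QG_OG (inv_mem hq) (hO1 ho), ← mul_assoc]
    rw [this]
    exact mul_mem (hVB (hVQ q hq v hv)) (hOB ho)
  let cq : D.QG → (B →* B) := fun q =>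
    { toFun := fun b => ⟨(q : G) * b * (q : G)⁻¹, hQB q q.2 b b.2⟩
      map_one' := Subtype.ext (by simp)
      map_mul' := fun a b => Subtype.ext (by
        show (q : G) * ((a : G) * b) * (q : G)⁻¹ =
          ((q : G) * a * (q : G)⁻¹) * ((q : G) * b * (q : G)⁻¹)
        group) }
  let orb : D.QG → (B →* ℂˣ) := fun q => μ.comp (cq q)
  have horbm : ∀ q, m (orb q) = m μ := by
    intro q
    have := linMult_conj S.cls B (q : G) (hQB q q.2) μ (orb q) fun b => rfl
    rw [hm, hm] at this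
    exact_mod_cast this
  have horbinj : Function.Injective orb := by
    intro q q' hqq
    by_contra hne
    set r : D.QG := q * q'⁻¹ with hr
    have hr1 : (r : G) ≠ 1 := fun h => hne (by
      have h1 : r = 1 := Subtype.ext h
      exact mul_inv_eq_one.1 h1)
    have hfix : ∀ b : B, μ (cq r b) = μ b := fun b => by
      have h1 := DFunLike.congr_fun hqq (cq q'⁻¹ b)
      simp only [orb, MonoidHom.comp_apply] at h1
      have e1 : cq q (cq q'⁻¹ b) = cq r b := Subtype.ext (by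
        show (q : G) * (((q'⁻¹ : D.QG) : G) * b * ((q'⁻¹ : D.QG) : G)⁻¹) * (q : G)⁻¹ = _
        simp only [hr, cq, MonoidHom.coe_mk, OneHom.coe_mk, Subgroup.coe_mul, Subgroup.coe_inv]
        group)
      have e2 : cq q' (cq q'⁻¹ b) = b := Subtype.ext (by
        show (q' : G) * (((q'⁻¹ : D.QG) : G) * b * ((q'⁻¹ : D.QG) : G)⁻¹) * (q' : G)⁻¹ = _
        simp only [Subgroup.coe_inv]
        group)
      rwa [e1, e2] at h1
    have hz : ∀ b : B, μ (cq ⟨z, D.z_mem_QG⟩ b) = μ b := by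
      rcases D.QG_cases r.2 hr1 with h | h
      · intro b
        have := hfix b
        rwa [show r = ⟨z, D.z_mem_QG⟩ from Subtype.ext h] at this
      · intro b
        have h2 : cq ⟨z, D.z_mem_QG⟩ b = cq r (cq r b) := Subtype.ext (by
          show z * (b : G) * z⁻¹ = (r : G) * ((r : G) * b * (r : G)⁻¹) * (r : G)⁻¹
          rw [show z * (b : G) * z⁻¹ = (r : G) ^ 2 * b * ((r : G) ^ 2)⁻¹ by rw [h], sq]; group)
        rw [h2, hfix, hfix]
    have hc : cq ⟨z, D.z_mem_QG⟩ ⟨v0, hVB hv0⟩ = (⟨v0, hVB hv0⟩ : B)⁻¹ :=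
      Subtype.ext (hVinv v0 hv0)
    have h3 := hz ⟨v0, hVB hv0⟩
    rw [hc, map_inv] at h3
    refine hμv (eq_inv_self_odd' h3.symm ((hVodd v0 hv0).of_dvd_nat ?_))
    exact (orderOf_map_dvd μ _).trans (by rw [← Subgroup.orderOf_coe])
  have horb1 : ∀ q, orb q ≠ 1 := by
    intro q h
    have := DFunLike.congr_fun h ((cq q⁻¹) ⟨v0, hVB hv0⟩)
    simp only [orb, MonoidHom.comp_apply, MonoidHom.one_apply] at this
    refine hμv ((congrArg μ (Subtype.ext ?_)).trans this)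
    show v0 = (q : G) * (((q⁻¹ : D.QG) : G) * v0 * ((q⁻¹ : D.QG) : G)⁻¹) * (q : G)⁻¹
    simp only [Subgroup.coe_inv]
    group
  -- restrictions to `O1`
  set lam : O1 →* ℂˣ := μ.comp (Subgroup.inclusion hOB) with hlam
  have hres : ∀ q, (orb q).comp (Subgroup.inclusion hOB) = lam := fun q => MonoidHom.ext fun o => by
    simp only [orb, hlam, MonoidHom.comp_apply]
    refine congrArg μ (Subtype.ext ?_)
    show (q : G) * o * (q : G)⁻¹ = o
    rw [D.QG_OG q.2 (hO1 o.2), mul_inv_cancel_right]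
  obtain ⟨t, ht⟩ := exists_nat_linMult S.char O1 lam
  obtain ⟨t0, ht0⟩ := exists_nat_linMult S.char O1 (1 : O1 →* ℂˣ)
  have hrs := linMult_restrict (χ := (S.χ : G → ℂ)) B hBc hOB lam
  rw [ht, Finset.sum_congr rfl fun μ _ => hm μ] at hrs
  have hrs' : t = ∑ ν ∈ Finset.univ.filter
      (fun ν : B →* ℂˣ => ν.comp (Subgroup.inclusion hOB) = lam), m ν := by exact_mod_cast hrs
  haveI := Fintype.ofFinite D.QG
  have h8 : ∑ ν ∈ Finset.univ.image orb, m ν = 8 * m μ := by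
    rw [Finset.sum_image fun a _ b _ h => horbinj h, Finset.sum_congr rfl fun q _ => horbm q,
      Finset.sum_const, Finset.card_univ, ← Nat.card_eq_fintype_card, D.card_QG, smul_eq_mul]
  have hsub : Finset.univ.image orb ⊆ Finset.univ.filter
      (fun ν : B →* ℂˣ => ν.comp (Subgroup.inclusion hOB) = lam) := by
    intro ν hν
    obtain ⟨q, -, rfl⟩ := Finset.mem_image.1 hν
    exact Finset.mem_filter.2 ⟨Finset.mem_univ _, hres q⟩
  -- values on `z B`
  have hsq : ∀ v ∈ V, ∃ w ∈ V, w * w = v := fun v hv => by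
    obtain ⟨k, hk⟩ := hVodd v hv
    refine ⟨v ^ (k + 1), pow_mem hv _, ?_⟩
    rw [← pow_add, show k + 1 + (k + 1) = orderOf v + 1 by omega, pow_succ, pow_orderOf_eq_one,
      one_mul]
  have hzV : ∀ v ∈ V, z * v = v⁻¹ * z := fun v hv => mul_inv_eq_iff_eq_mul.1 (hVinv v hv)
  have hval : ∀ b ∈ B, (S.χ : G → ℂ) (z * b) = S.c := by
    intro b hb
    obtain ⟨v, hv, o, ho, rfl⟩ := hdec b hb
    obtain ⟨w, hw, rfl⟩ := hsq v hv
    rw [show z * (w * w * o) = w⁻¹ * (z * o) * w⁻¹⁻¹ by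
      rw [inv_inv, mul_assoc w⁻¹ (z * o), mul_assoc z o w, ← hVO w hw o ho, ← mul_assoc w⁻¹ z,
        ← hzV w hw]
      group, S.cls, S.h_z o (hO1 ho)]
  have hzB : z ∉ B := fun h => by
    have hv := hBc z h v0 (hVB hv0)
    have := hVinv v0 hv0
    rw [hv, mul_inv_cancel_right] at this
    exact hv01 (eq_inv_self_odd' this (hVodd v0 hv0))
  have hNB : ∀ b ∈ B, z * b * z⁻¹ ∈ B := fun b hb => hQB z D.z_mem_QG b hb
  obtain ⟨g0, g0'⟩ := S.mult_one_ge hzB hNB hval (m 1) (hm 1)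
  obtain ⟨w0, w0'⟩ := S.mult_one_ge (B := O1) (fun h => z_notin_OG (hO1 h))
    (fun b hb => by rw [D.z_OG (hO1 hb), mul_inv_cancel_right]; exact hb)
    (fun b hb => S.h_z b (hO1 hb)) t0 ht0
  by_cases hl : lam = 1
  · -- the trivial part contains the orbit and the trivial character
    have h9 : 8 * m μ + m 1 ≤ t := by
      have h1 : (1 : B →* ℂˣ) ∉ Finset.univ.image orb := fun h => by
        obtain ⟨q, -, hq⟩ := Finset.mem_image.1 h
        exact horb1 q hq
      rw [hrs', ← h8, add_comm, ← Finset.sum_insert h1]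
      refine Finset.sum_le_sum_of_subset (Finset.insert_subset ?_ hsub)
      exact Finset.mem_filter.2 ⟨Finset.mem_univ _, by rw [hl]; rfl⟩
    -- a nontrivial constituent on `O1`
    obtain ⟨o, ho, ho1⟩ := (Subgroup.bot_or_exists_ne_one O1).resolve_left hO1ne
    haveI := finite_hom O1 hO1c
    haveI := Fintype.ofFinite (O1 →* ℂˣ)
    obtain ⟨lam', hm', hl'⟩ : ∃ lam' : O1 →* ℂˣ,
        linMult O1 (S.χ : G → ℂ) lam' ≠ 0 ∧ lam' ⟨o, ho⟩ ≠ 1 := by
      by_contra hcon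
      push Not at hcon
      refine ho1 (S.faithful ?_)
      rw [show o = ((⟨o, ho⟩ : O1) : G) from rfl,
        linMult_expansion (χ := (S.χ : G → ℂ)) O1 hO1c ⟨o, ho⟩,
        ← linMult_sum (χ := (S.χ : G → ℂ)) O1 hO1c]
      refine Finset.sum_congr rfl fun ν _ => ?_
      by_cases h : linMult O1 (S.χ : G → ℂ) ν = 0
      · rw [h, zero_mul]
      · rw [hcon ν h, Units.val_one, mul_one]
    obtain ⟨t', ht'⟩ := exists_nat_linMult S.char O1 lam'
    have hne : lam' ≠ 1 := fun h => hl' (by rw [h]; rfl)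
    have hp := S.pair_le hO1 hne ht' ht0
    have ht'0 : t' ≠ 0 := fun h => hm' (by rw [ht', h, Nat.cast_zero])
    rw [hl, ht0] at ht
    have : t0 = t := by exact_mod_cast ht
    rcases S.small with ⟨h1, h2⟩ | ⟨h1, h2⟩ <;> rw [h2] at g0 g0' <;> omega
  · have hp := S.pair_le hO1 hl ht ht0
    have h9 : 8 * m μ ≤ t := by
      rw [hrs', ← h8]; exact Finset.sum_le_sum_of_subset hsub
    rcases S.small with ⟨h1, h2⟩ | ⟨h1, h2⟩ <;> rw [h2] at w0 w0' <;> omega

/-- There is no extraspecial-like action above the kernel. -/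
theorem SmallChar.kill_commutator [IsSimpleGroup G] {B : Subgroup G} (hB : B ≤ D.OG)
    {a b ε : G} {r : ℕ} [Fact r.Prime] (hr : r ≠ 2) (haB : ∀ o ∈ B, a * o = o * a)
    (hbB : ∀ o ∈ B, b * o = o * b) (har : a ^ r ∈ B) (hε : ε ∈ B)
    (hab : b * a * b⁻¹ = a * ε) : ε = 1 := by
  classical
  by_contra hε1
  have hBc : ∀ x ∈ B, ∀ y ∈ B, x * y = y * x := fun x hx y hy => D.OG_comm (hB hx) (hB hy)
  have hεr : ε ^ r = 1 := by
    have h1 : (a * ε) ^ r = a ^ r * ε ^ r := (show Commute a ε from haB ε hε).mul_pow r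
    rw [← hab, conj_pow, hbB _ har, mul_inv_cancel_right] at h1
    exact mul_eq_left.1 h1.symm
  haveI := finite_hom B hBc
  haveI := Fintype.ofFinite (B →* ℂˣ)
  haveI := Fintype.ofFinite B
  obtain ⟨lam, hm, hl⟩ : ∃ lam : B →* ℂˣ, linMult B (S.χ : G → ℂ) lam ≠ 0 ∧ lam ⟨ε, hε⟩ ≠ 1 := by
    by_contra hcon
    push Not at hcon
    refine hε1 (S.faithful ?_)
    rw [show ε = ((⟨ε, hε⟩ : B) : G) from rfl,
      linMult_expansion (χ := (S.χ : G → ℂ)) B hBc ⟨ε, hε⟩,
      ← linMult_sum (χ := (S.χ : G → ℂ)) B hBc]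
    refine Finset.sum_congr rfl fun ν _ => ?_
    by_cases h : linMult B (S.χ : G → ℂ) ν = 0
    · rw [h, zero_mul]
    · rw [hcon ν h, Units.val_one, mul_one]
  have hlam1 : lam ≠ 1 := fun h => hl (by rw [h]; rfl)
  obtain ⟨t, ht⟩ := exists_nat_linMult S.char B lam
  obtain ⟨t0, ht0⟩ := exists_nat_linMult S.char B (1 : B →* ℂˣ)
  obtain ⟨e, he⟩ := S.even_mult hB hlam1
  have hte : t = 2 * e := by exact_mod_cast ht.symm.trans he
  have hp := S.pair_le hB hlam1 ht ht0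
  obtain ⟨w0, w0'⟩ := S.mult_one_ge (B := B) (fun h => z_notin_OG (hB h))
    (fun x hx => by rw [D.z_OG (hB hx), mul_inv_cancel_right]; exact hx)
    (fun x hx => S.h_z x (hB hx)) t0 ht0
  have haB' : a ∉ B := fun h => hε1 (by
    have := hab
    rw [hbB a h, mul_inv_cancel_right] at this
    exact left_eq_mul.1 this)
  -- the abelian group over `B` generated by `a`
  let A : Subgroup G :=
    { carrier := {x | ∃ k : ℕ, ∃ o ∈ B, x = a ^ k * o}
      one_mem' := ⟨0, 1, B.one_mem, by simp⟩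
      mul_mem' := by
        rintro x y ⟨k, o, ho, rfl⟩ ⟨k', o', ho', rfl⟩
        refine ⟨k + k', o * o', mul_mem ho ho', ?_⟩
        rw [pow_add, mul_assoc (a ^ k), ← mul_assoc o, ← ((show Commute a o from haB o ho).pow_left k').eq]
        group
      inv_mem' := by
        rintro x ⟨k, o, ho, rfl⟩
        refine ⟨(orderOf a - 1) * k, o⁻¹, inv_mem ho, ?_⟩
        have h1 : a ^ ((orderOf a - 1) * k) = (a ^ k)⁻¹ := by
          refine eq_inv_of_mul_eq_one_left ?_
          rw [← pow_add, show (orderOf a - 1) * k + k = orderOf a * k by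
            have := orderOf_pos a
            obtain ⟨j, hj⟩ : ∃ j, orderOf a = j + 1 := ⟨orderOf a - 1, by omega⟩
            rw [hj, Nat.add_sub_cancel]; ring, pow_mul, pow_orderOf_eq_one, one_pow]
        rw [h1, _root_.mul_inv_rev, ((show Commute a o from haB o ho).pow_left k).inv_inv.eq] }
  have hAc : ∀ x ∈ A, ∀ y ∈ A, x * y = y * x := by
    rintro x ⟨k, o, ho, rfl⟩ y ⟨k', o', ho', rfl⟩
    have c1 : Commute a o := haB o ho
    have c2 : Commute a o' := haB o' ho'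
    exact (((Commute.refl a).pow_pow k k').mul_right (c2.pow_left k)).mul_left
      ((c1.symm.pow_right k').mul_right (hBc o ho o' ho'))
  have hBA : B ≤ A := fun o ho => ⟨0, o, ho, by simp⟩
  haveI := Fintype.ofFinite A
  let F : Fin r × B → A := fun p => ⟨a ^ (p.1 : ℕ) * p.2, (p.1 : ℕ), p.2, p.2.2, rfl⟩
  have hr0 : 0 < r := (Fact.out : r.Prime).pos
  have hFb : Function.Bijective F := by
    refine ⟨fun p p' h => ?_, fun x => ?_⟩
    · have h' : a ^ (p.1 : ℕ) * (p.2 : G) = a ^ (p'.1 : ℕ) * (p'.2 : G) := congrArg Subtype.val h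
      have key : ∀ i j : ℕ, i ≤ j → j < r → a ^ j * (a ^ i)⁻¹ ∈ B → i = j := by
        intro i j hij hj hmem
        by_contra hne
        obtain ⟨d, rfl⟩ : ∃ d, j = i + d := ⟨j - i, by omega⟩
        rw [add_comm i d, pow_add, mul_inv_cancel_right] at hmem
        have hcop : Nat.Coprime d r := ((Fact.out : r.Prime).coprime_iff_not_dvd.2
          fun hd => by have := Nat.le_of_dvd (by omega) hd; omega).symm
        have h3 := Int.gcd_eq_gcd_ab (d : ℤ) (r : ℤ)
        rw [show Int.gcd (d : ℤ) (r : ℤ) = 1 by rw [Int.gcd_natCast_natCast]; exact hcop] at h3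
        refine haB' ?_
        have h4 : a = (a ^ d) ^ Int.gcdA d r * (a ^ r) ^ Int.gcdB d r := by
          rw [← zpow_natCast a d, ← zpow_natCast a r, ← zpow_mul, ← zpow_mul, ← zpow_add, ← h3]
          simp
        rw [h4]
        exact mul_mem (zpow_mem hmem _) (zpow_mem har _)
      have hh : (p.1 : ℕ) = p'.1 := by
        have hc : ∀ i j : ℕ, ∀ o ∈ B, ∀ o' ∈ B, a ^ i * o = a ^ j * o' → a ^ j * (a ^ i)⁻¹ ∈ B := by
          intro i j o ho o' ho' hh
          have : a ^ j * (a ^ i)⁻¹ = o * o'⁻¹ := by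
            rw [mul_inv_eq_iff_eq_mul, ← ((show Commute a (o * o'⁻¹) from
              haB _ (mul_mem ho (inv_mem ho'))).pow_left i).eq, ← mul_assoc, hh, mul_inv_cancel_right]
          rw [this]; exact mul_mem ho (inv_mem ho')
        rcases le_total (p.1 : ℕ) p'.1 with hle | hle
        · exact key _ _ hle p'.1.2 (hc _ _ _ p.2.2 _ p'.2.2 h')
        · exact (key _ _ hle p.1.2 (hc _ _ _ p'.2.2 _ p.2.2 h'.symm)).symm
      rw [hh] at h'
      exact Prod.ext (Fin.ext hh) (Subtype.ext (mul_left_cancel h'))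
    · obtain ⟨k, o, ho, hx⟩ := x.2
      refine ⟨(⟨k % r, Nat.mod_lt _ hr0⟩,
        ⟨(a ^ r) ^ (k / r) * o, mul_mem (pow_mem har _) ho⟩), Subtype.ext ?_⟩
      show a ^ (k % r) * ((a ^ r) ^ (k / r) * o) = x
      rw [← mul_assoc, ← pow_mul, ← pow_add, Nat.mod_add_div, hx]
  letI : CommGroup A :=
    { (inferInstance : Group A) with mul_comm := fun p q => Subtype.ext (hAc p p.2 q q.2) }
  haveI : NeZero (Monoid.exponent A : ℂ) :=
    ⟨Nat.cast_ne_zero.2 Monoid.exponent_ne_zero_of_finite⟩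
  let lamA : B.subgroupOf A →* ℂˣ := lam.comp (Subgroup.subgroupOfEquivOfLe hBA).toMonoidHom
  obtain ⟨μ, hμ⟩ := MonoidHom.domRestrict_surjective (M := ℂ) (B.subgroupOf A) lamA
  have hμB : ∀ o : B, μ ⟨o, hBA o.2⟩ = lam o := fun o => by
    have := DFunLike.congr_fun hμ ⟨⟨(o : G), hBA o.2⟩, Subgroup.mem_subgroupOf.2 o.2⟩
    rw [MonoidHom.domRestrictHom_apply, MonoidHom.domRestrict_apply] at this
    rw [this]
    rfl
  obtain ⟨mA, hmA⟩ := exists_nat_linMult S.char A μ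
  rw [linMult_eq_sum, ← Fintype.sum_bijective F hFb (fun p => (S.χ : G → ℂ) (F p : G) *
      ((μ (F p)⁻¹ : ℂˣ) : ℂ)) _ fun _ => rfl, Fintype.sum_prod_type,
    Finset.sum_eq_single (⟨0, hr0⟩ : Fin r)] at hmA
  · have hcardA : Nat.card A = r * Nat.card B := by
      rw [← Nat.card_congr (Equiv.ofBijective F hFb), Nat.card_prod, Nat.card_fin]
    rw [hcardA] at hmA
    have hsum0 : ∑ o : B, (S.χ : G → ℂ) (F (⟨0, hr0⟩, o) : G) *
        ((μ (F (⟨0, hr0⟩, o))⁻¹ : ℂˣ) : ℂ) = (Nat.card B : ℂ) * (t : ℂ) := by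
      rw [← ht, linMult_eq_sum, ← mul_assoc, mul_inv_cancel₀ (subgroup_card_ne_zero B), one_mul]
      refine Finset.sum_congr rfl fun o _ => ?_
      have hFo : F (⟨0, hr0⟩, o) = ⟨o, hBA o.2⟩ := Subtype.ext (by simp [F])
      rw [hFo, map_inv, hμB, map_inv]
    rw [hsum0] at hmA
    have h5 : t = r * mA := by
      have : (t : ℂ) = (r : ℂ) * (mA : ℂ) := by
        rw [← hmA]
        push_cast
        field_simp [subgroup_card_ne_zero, Nat.cast_ne_zero.2 hr0.ne']
      exact_mod_cast this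
    have hr3 : 3 ≤ r := by have := (Fact.out : r.Prime).two_le; omega
    have htne : t ≠ 0 := fun h => hm (by rw [ht, h, Nat.cast_zero])
    have hmA0 : mA ≠ 0 := fun h => htne (by rw [h5, h, mul_zero])
    have hrodd : Odd r := (Fact.out : r.Prime).odd_of_ne_two hr
    have ht4 : t ≤ 4 := by
      rcases S.small with ⟨h1, h2⟩ | ⟨h1, h2⟩ <;> rw [h2] at w0 w0' <;> omega
    have hle : r ≤ t := by
      rw [h5]; exact Nat.le_mul_of_pos_right r (Nat.pos_of_ne_zero hmA0)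
    obtain ⟨j, hj⟩ := hrodd
    have hr' : r = 3 := by omega
    subst hr'
    omega
  · intro k _ hk
    -- the sum over the coset is moved by the conjugation with `b`
    have hkr : ¬ r ∣ (k : ℕ) := fun h => hk (Fin.ext (Nat.eq_zero_of_dvd_of_lt h k.2))
    have hne : lam ⟨ε ^ (k : ℕ), pow_mem hε _⟩ ≠ 1 := by
      intro h
      rw [show (⟨ε ^ (k : ℕ), pow_mem hε _⟩ : B) = ⟨ε, hε⟩ ^ (k : ℕ) from rfl, map_pow] at h
      refine hl (eq_one_of_ord_dvd (orderOf_dvd_of_pow_eq_one h) (orderOf_dvd_of_pow_eq_one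
        (n := r) ?_) (((Fact.out : r.Prime).coprime_iff_not_dvd.2 hkr).symm))
      rw [← map_pow, show (⟨ε, hε⟩ : B) ^ r = 1 from Subtype.ext hεr, map_one]
    set εk : B := ⟨ε ^ (k : ℕ), pow_mem hε _⟩ with hεk
    have hF : ∀ o : B, F (k, εk * o) = F (k, o) * ⟨εk, hBA εk.2⟩ := fun o => Subtype.ext (by
      show a ^ (k : ℕ) * ((εk : G) * o) = a ^ (k : ℕ) * o * εk
      rw [hBc _ εk.2 _ o.2, mul_assoc])
    have hchi : ∀ o : B, (S.χ : G → ℂ) (F (k, εk * o) : G) = (S.χ : G → ℂ) (F (k, o) : G) := fun o => by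
      have h1 : (F (k, εk * o) : G) = b * (F (k, o) : G) * b⁻¹ := by
        show a ^ (k : ℕ) * (ε ^ (k : ℕ) * o) = b * (a ^ (k : ℕ) * o) * b⁻¹
        have hbo : b * (o : G) * b⁻¹ = o := by rw [hbB o o.2, mul_inv_cancel_right]
        rw [show b * (a ^ (k : ℕ) * (o : G)) * b⁻¹ = (b * a * b⁻¹) ^ (k : ℕ) * (b * o * b⁻¹) by
          rw [conj_pow]; group, hbo, hab, (show Commute a ε from haB ε hε).mul_pow, mul_assoc]
      rw [h1, S.cls]
    have hsum : ((lam εk⁻¹ : ℂˣ) : ℂ) * ∑ o : B, (S.χ : G → ℂ) (F (k, o) : G) *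
        ((μ (F (k, o))⁻¹ : ℂˣ) : ℂ) = ∑ o : B, (S.χ : G → ℂ) (F (k, o) : G) *
        ((μ (F (k, o))⁻¹ : ℂˣ) : ℂ) := by
      rw [Finset.mul_sum]
      refine Fintype.sum_equiv (Equiv.mulLeft εk) _ _ fun o => ?_
      rw [Equiv.coe_mulLeft, hchi, hF, _root_.mul_inv_rev, map_mul, map_inv μ ⟨εk, _⟩, hμB,
        map_inv lam, Units.val_mul]
      ring
    by_contra h0
    refine hne ?_
    have := Units.val_eq_one.1 ((mul_eq_right₀ h0).1 hsum)
    rwa [map_inv, inv_eq_one] at this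
  · exact fun h => absurd (Finset.mem_univ _) h

end SDPres

end CfsgLib.SuborbitThree
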