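import Cfsg.Agent.SuborbitThree.SDInduced

/-!
# Generalized characters separating the elements of the kernel
-/

set_option autoImplicit false
set_option linter.style.haveILetI false
set_option linter.unusedSectionVars false
set_option maxRecDepth 4000

namespace CfsgLib.SuborbitThree

open scoped ComplexConjugate
open Matrix CfsgLib.Characters CfsgLib.Characters.GL23

universe u

/-- The quaternion group inside `SL(2, 3)`. -/
def InQ8 (v : M3) : Prop := det3 v = 1 ∧ pow3 v 4 = one3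

instance (v : M3) : Decidable (InQ8 v) := by unfold InQ8; infer_instance

/-- A generator of `SL(2, 3)` modulo the quaternion group. -/
def g3 : M3 := (1, 1, 0, 1)

theorem eq_inv_self_odd' {A : Type*} [Group A] {x : A} (h : x = x⁻¹)
    (ho : Odd (orderOf x)) : x = 1 := by
  have h2 : x ^ 2 = 1 := by rw [sq]; nth_rw 1 [h]; exact inv_mul_cancel x
  rcases (Nat.dvd_prime Nat.prime_two).1 (orderOf_dvd_of_pow_eq_one h2) with h' | h'
  · exact orderOf_eq_one_iff.1 h'
  · rw [h'] at ho; exact absurd ho (by decide)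

theorem q8_mul : ∀ v ∈ elts, ∀ w ∈ elts, InQ8 v → InQ8 w →
    InQ8 (mul3 v w) ∧ (mul3 v w = mul3 w v ∨ mul3 v w = mul3 m1 (mul3 w v)) := by decide +kernel

theorem q8_sq : ∀ v ∈ elts, InQ8 v → pow3 v 2 = one3 ∨ pow3 v 2 = m1 := by decide +kernel

theorem sl_decomp : ∀ v ∈ elts, det3 v = 1 → ∃ q ∈ elts, InQ8 q ∧ ∃ i : Fin 3,
    v = mul3 q (pow3 g3 i) := by decide +kernel

theorem q8_conj : ∀ v ∈ elts, ∀ g ∈ elts, ∀ w ∈ elts, InQ8 v → mul3 g v = mul3 w g → InQ8 w := by
  decide +kernel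

theorem theta_gram : ∀ i j : Fin 2,
    ∑ v ∈ elts.filter (fun v => det3 v = 1),
      base (![0, 2] i) v * star (base (![0, 2] j) v) = 24 * ![![4, 2], ![2, 3]] i j := by
  decide +kernel

variable {G : Type u} [Group G] {z : G}

namespace SDPres

variable (D : SDPres z)

/-- The preimage of `SL(2, 3)`. -/
def plus : Subgroup (Subgroup.centralizer ({z} : Set G)) where
  carrier := {x | det3 (D.co x) = 1}
  mul_mem' {a b} ha hb := by
    simp only [Set.mem_setOf_eq] at ha hb ⊢
    rw [co_mul, det3_mul _ (D.co_mem a) _ (D.co_mem b), ha, hb, one_mul]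
  one_mem' := by simp only [Set.mem_setOf_eq, co_one]; decide
  inv_mem' {a} ha := by
    simp only [Set.mem_setOf_eq] at ha ⊢
    have h : det3 (D.co (a * a⁻¹)) = 1 := by rw [mul_inv_cancel, co_one]; decide
    rwa [co_mul, det3_mul _ (D.co_mem a) _ (D.co_mem a⁻¹), ha, one_mul] at h

theorem mem_plus {x : Subgroup.centralizer ({z} : Set G)} :
    x ∈ D.plus ↔ det3 (D.co x) = 1 := Iff.rfl

instance plus_normal : D.plus.Normal := ⟨fun x hx g => by
  have h : det3 (D.co (g * g⁻¹)) = 1 := by rw [mul_inv_cancel, co_one]; decide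
  rw [co_mul, det3_mul _ (D.co_mem g) _ (D.co_mem g⁻¹)] at h
  rw [mem_plus, co_mul, det3_mul _ (D.co_mem _) _ (D.co_mem g⁻¹), co_mul,
    det3_mul _ (D.co_mem g) _ (D.co_mem x), D.mem_plus.1 hx, mul_one, h]⟩

theorem ker_le_plus : D.π.ker ≤ D.plus := fun x hx => by
  rw [mem_plus, D.co_eq_one_iff.2 hx]; decide

variable [Finite G]
include D

theorem zC_central (x : Subgroup.centralizer ({z} : Set G)) : Commute tC x :=
  Subtype.ext (Subgroup.mem_centralizer_singleton_iff.1 x.2).symm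

theorem tC_sq : (tC : Subgroup.centralizer ({z} : Set G)) ^ 2 = 1 := by
  rw [← D.zC_ord, pow_orderOf_eq_one]

theorem eq_one_of_pow_four {o : Subgroup.centralizer ({z} : Set G)} (ho : o ∈ D.π.ker)
    (h4 : o ^ 4 = 1) : o = 1 := by
  have h := Nat.dvd_gcd (orderOf_dvd_of_pow_eq_one h4) dvd_rfl
  rw [Nat.Coprime.gcd_eq_one (show Nat.Coprime 4 (orderOf o) from
    Nat.Coprime.pow_left 2 (Nat.coprime_two_left.2 (D.ker_odd_order ho))), Nat.dvd_one] at h
  exact orderOf_eq_one_iff.1 h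

theorem central_sq {x : Subgroup.centralizer ({z} : Set G)} (hx : InQ8 (D.co x))
    (hx4 : x ^ 4 = 1) : x ^ 2 = 1 ∨ x ^ 2 = tC := by
  rcases q8_sq _ (D.co_mem x) hx with h | h <;> rw [← co_pow] at h
  · exact Or.inl (D.eq_one_of_pow_four (D.co_eq_one_iff.1 h)
      (by rw [← pow_mul, show 2 * 4 = 4 * 2 by norm_num, pow_mul, hx4, one_pow]))
  · refine Or.inr (D.eq_tC_of_ord (orderOf_eq_prime (by rw [← pow_mul]; exact hx4) fun h' => ?_) h)
    rw [h', co_one] at h
    exact absurd h (by decide)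

/-- The normal quaternion group. -/
def Q : Subgroup (Subgroup.centralizer ({z} : Set G)) where
  carrier := {x | InQ8 (D.co x) ∧ x ^ 4 = 1}
  one_mem' := ⟨by rw [co_one]; decide, one_pow 4⟩
  inv_mem' {a} ha := by
    refine ⟨?_, by rw [inv_pow, ha.2, inv_one]⟩
    rw [inv_eq_of_mul_eq_one_right (show a * a ^ 3 = 1 by rw [← pow_succ']; exact ha.2), pow_succ,
      pow_two, co_mul, co_mul]
    exact (q8_mul _ (by rw [← co_mul]; exact D.co_mem _) _ (D.co_mem a)
      (q8_mul _ (D.co_mem a) _ (D.co_mem a) ha.1 ha.1).1 ha.1).1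
  mul_mem' {x y} hx hy := by
    obtain ⟨hmul, hcm⟩ := q8_mul _ (D.co_mem x) _ (D.co_mem y) hx.1 hy.1
    refine ⟨by rw [co_mul]; exact hmul, ?_⟩
    set c := x * y * x⁻¹ * y⁻¹ with hc
    have hxy : x * y = c * (y * x) := by rw [hc]; group
    have hcc : ∀ w ∈ D.plus, Commute c w := by
      intro w hw
      rcases hcm with h | h
      · rw [← co_mul, ← co_mul, D.co_eq_iff] at h
        have hck : c ∈ D.π.ker := by
          rw [MonoidHom.mem_ker] at h ⊢
          simp only [hc, map_mul, map_inv, inv_mul_eq_one] at h ⊢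
          rw [h]; group
        exact (D.comm_of_det hw hck).symm
      · rw [← D.co_tC, ← co_mul, ← co_mul, ← co_mul, D.co_eq_iff] at h
        have hck : tC⁻¹ * c ∈ D.π.ker := by
          rw [MonoidHom.mem_ker] at h ⊢
          simp only [hc, map_mul, map_inv, inv_mul_eq_one] at h ⊢
          rw [h]; group
        have h2 : Commute (tC * (tC⁻¹ * c)) w :=
          Commute.mul_left (D.zC_central w) (D.comm_of_det hw hck).symm
        rwa [mul_inv_cancel_left] at h2
    have hx' : x ∈ D.plus := hx.1.1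
    have hy' : y ∈ D.plus := hy.1.1
    have hcent : ∀ w : Subgroup.centralizer ({z} : Set G), InQ8 (D.co w) → w ^ 4 = 1 →
        ∀ v, Commute (w ^ 2) v := by
      intro w h1 h4 v
      rcases D.central_sq h1 h4 with h | h <;> rw [h]
      · exact Commute.one_left v
      · exact D.zC_central v
    have hc2 : c ^ 2 = 1 := by
      have h1 : (c * y) ^ 2 = y ^ 2 := by
        rw [show c * y = x * y * x⁻¹ by rw [hc]; group, conj_pow, (hcent y hy.1 hy.2 x).symm.eq,
          mul_inv_cancel_right]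
      rw [(hcc y hy').mul_pow] at h1
      exact mul_eq_right.1 h1
    have h2 : (x * y) ^ 2 = c⁻¹ * (x ^ 2 * y ^ 2) := by
      have hyx : y * x = c⁻¹ * (x * y) := by rw [hxy]; group
      calc (x * y) ^ 2 = x * (y * x) * y := by rw [sq]; group
        _ = x * c⁻¹ * (x * y) * y := by rw [hyx]; group
        _ = c⁻¹ * (x ^ 2 * y ^ 2) := by
          rw [((hcc x hx').inv_left.symm).eq, sq, sq]; group
    have hsq : ∀ w : Subgroup.centralizer ({z} : Set G), w ^ 4 = 1 → (w ^ 2) ^ 2 = 1 :=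
      fun w h => by rw [← pow_mul]; exact h
    rw [show (4 : ℕ) = 2 * 2 from rfl, pow_mul, h2,
      (((hcent x hx.1 hx.2 c⁻¹).symm).mul_right (hcent y hy.1 hy.2 c⁻¹).symm).mul_pow,
      (hcent x hx.1 hx.2 _).mul_pow, inv_pow, hc2, hsq x hx.2, hsq y hy.2]
    simp

theorem Q_le_plus : D.Q ≤ D.plus := fun _ hx => hx.1.1

instance Q_normal : D.Q.Normal := ⟨fun x hx g => by
  refine ⟨q8_conj _ (D.co_mem x) _ (D.co_mem g) _ (D.co_mem _) hx.1 D.co_conj, ?_⟩
  rw [conj_pow, hx.2, mul_one, mul_inv_cancel]⟩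

/-- Every element of the quaternion group of `SL(2, 3)` has exactly one preimage in `Q`. -/
theorem existsUnique_Q {v : M3} (hv : v ∈ elts) (h : InQ8 v) :
    ∃! q, q ∈ D.Q ∧ D.co q = v := by
  obtain ⟨x, rfl⟩ := D.co_surj hv
  have h4 : x ^ 4 ∈ D.π.ker := D.co_eq_one_iff.1 (by rw [co_pow]; exact h.2)
  obtain ⟨k, hk, hk2⟩ := D.ker_sqrt (inv_mem h4)
  obtain ⟨o, ho, ho2⟩ := D.ker_sqrt hk
  have hco : D.co (x * o) = D.co x := D.co_mul_ker ho
  refine ⟨x * o, ⟨⟨by rw [hco]; exact h, ?_⟩, hco⟩, fun q hq => ?_⟩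
  · rw [(show Commute x o from D.comm_of_det h.1 ho).mul_pow,
      show o ^ 4 = (o * o) * (o * o) by rw [show (4 : ℕ) = 2 + 2 from rfl, pow_add, sq],
      ho2, hk2, mul_inv_cancel]
  · have hk' : (x * o)⁻¹ * q ∈ D.π.ker := D.co_eq_iff.1 (by rw [hco, hq.2])
    have hmem : x * o ∈ D.Q := ⟨by rw [hco]; exact h, by
      rw [(show Commute x o from D.comm_of_det h.1 ho).mul_pow,
        show o ^ 4 = (o * o) * (o * o) by rw [show (4 : ℕ) = 2 + 2 from rfl, pow_add, sq],
        ho2, hk2, mul_inv_cancel]⟩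
    have := D.eq_one_of_pow_four hk' (mul_mem (inv_mem hmem) hq.1).2
    rw [inv_mul_eq_one] at this
    exact this.symm

/-- The preimage of `SL(2, 3)` is abelian modulo `Q`. -/
theorem plus_comm {x x' : Subgroup.centralizer ({z} : Set G)} (hx : x ∈ D.plus)
    (hx' : x' ∈ D.plus) :
    (QuotientGroup.mk' D.Q) x * (QuotientGroup.mk' D.Q) x' =
      (QuotientGroup.mk' D.Q) x' * (QuotientGroup.mk' D.Q) x := by
  obtain ⟨t, ht⟩ := D.co_surj (v := g3) (by decide)
  have htp : t ∈ D.plus := by rw [mem_plus, ht]; decide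
  have key : ∀ w ∈ D.plus, ∃ (i : ℕ) (o : Subgroup.centralizer ({z} : Set G)), o ∈ D.π.ker ∧
      (QuotientGroup.mk' D.Q) w = (QuotientGroup.mk' D.Q) (t ^ i * o) := by
    intro w hw
    obtain ⟨v, hv, hq, i, hi⟩ := sl_decomp _ (D.co_mem w) hw
    obtain ⟨q, ⟨hqQ, hqc⟩, -⟩ := D.existsUnique_Q hv hq
    rw [← hqc, ← ht, ← co_pow, ← co_mul, eq_comm, D.co_eq_iff] at hi
    refine ⟨i, _, hi, ?_⟩
    have h1 : (QuotientGroup.mk' D.Q) q = 1 := by
      rw [← MonoidHom.mem_ker, QuotientGroup.ker_mk']; exact hqQ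
    calc (QuotientGroup.mk' D.Q) w = (QuotientGroup.mk' D.Q) (q * (t ^ (i : ℕ) * ((q * t ^ (i : ℕ))⁻¹ * w))) := by
          congr 1; group
      _ = _ := by rw [map_mul, h1, one_mul]
  obtain ⟨i, o, ho, e⟩ := key x hx
  obtain ⟨j, o', ho', e'⟩ := key x' hx'
  rw [e, e', ← map_mul, ← map_mul]
  congr 1
  have c1 : Commute t o := D.comm_of_det htp ho
  have c2 : Commute t o' := D.comm_of_det htp ho'
  have c3 : Commute o o' := D.ker_comm ho ho'
  exact (((Commute.refl t).pow_pow i j).mul_right (c2.pow_left i)).mul_left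
    ((c1.symm.pow_right j).mul_right c3)

/-- Linear characters trivial on `Q`. -/
def theta : Subgroup (D.plus →* ℂˣ) where
  carrier := {θ | ∀ q : D.plus, (q : Subgroup.centralizer ({z} : Set G)) ∈ D.Q → θ q = 1}
  one_mem' := fun _ _ => rfl
  mul_mem' {a b} ha hb := fun q hq => by rw [MonoidHom.mul_apply, ha q hq, hb q hq, one_mul]
  inv_mem' {a} ha := fun q hq => by rw [MonoidHom.inv_apply, ha q hq, inv_one]

theorem exists_theta {x : D.plus} (hx : (x : Subgroup.centralizer ({z} : Set G)) ∉ D.Q) :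
    ∃ θ ∈ D.theta, θ x ≠ 1 := by
  set A := D.plus.map (QuotientGroup.mk' D.Q) with hA
  letI : CommGroup A :=
    { (inferInstance : Group A) with
      mul_comm := fun a b => Subtype.ext (by
        obtain ⟨p, hp, hp'⟩ := Subgroup.mem_map.1 a.2
        obtain ⟨q, hq, hq'⟩ := Subgroup.mem_map.1 b.2
        rw [Subgroup.coe_mul, Subgroup.coe_mul, ← hp', ← hq']
        exact D.plus_comm hp hq) }
  let f : D.plus →* A := ((QuotientGroup.mk' D.Q).subgroupMap D.plus)
  have hfx : f x ≠ 1 := fun h => hx (by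
    have := congrArg Subtype.val h
    rw [← QuotientGroup.ker_mk' D.Q, MonoidHom.mem_ker]
    exact this)
  haveI : NeZero (Monoid.exponent A : ℂ) :=
    ⟨Nat.cast_ne_zero.2 Monoid.exponent_ne_zero_of_finite⟩
  obtain ⟨φ, hφ⟩ := CommGroup.exists_apply_ne_one_of_hasEnoughRootsOfUnity A ℂ hfx
  refine ⟨φ.comp f, fun q hq => ?_, hφ⟩
  have : f q = 1 := Subtype.ext (by
    show (QuotientGroup.mk' D.Q) q = 1
    rw [← MonoidHom.mem_ker, QuotientGroup.ker_mk']
    exact hq)
  rw [MonoidHom.comp_apply, this, map_one]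

theorem sum_comm_theta [Fintype D.theta] [Fintype D.plus] (F : D.plus → ℂ) (b : D.plus) :
    ∑ φ : D.theta, ((φ.1 b⁻¹ : ℂˣ) : ℂ) * ∑ x : D.plus, ((φ.1 x : ℂˣ) : ℂ) * F x =
      ∑ x : D.plus, F x * ∑ φ : D.theta, ((φ.1 (b⁻¹ * x) : ℂˣ) : ℂ) := by
  simp only [Finset.mul_sum, map_mul, Units.val_mul]
  rw [Finset.sum_comm]
  exact Finset.sum_congr rfl fun x _ => Finset.sum_congr rfl fun φ _ => by ring

theorem finite_theta : Finite D.theta := by
  haveI := Fintype.ofFinite D.plus
  haveI : Finite (D.plus →* ℂˣ) := Finite.of_equiv _ (linearCharEquiv (G := D.plus)).symm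
  exact Subtype.finite

theorem sum_theta_apply [Fintype D.theta] {c : D.plus}
    [Decidable ((c : Subgroup.centralizer ({z} : Set G)) ∈ D.Q)] :
    ∑ φ : D.theta, ((φ.1 c : ℂˣ) : ℂ) =
      if (c : Subgroup.centralizer ({z} : Set G)) ∈ D.Q then (Fintype.card D.theta : ℂ) else 0 := by
  split_ifs with h
  · rw [Finset.sum_congr rfl fun φ _ => by rw [φ.2 c h, Units.val_one], Finset.sum_const,
      Finset.card_univ, nsmul_eq_mul, mul_one]
  · obtain ⟨θ, hθ, hne⟩ := D.exists_theta h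
    have hsum : ((θ c : ℂˣ) : ℂ) * ∑ φ : D.theta, ((φ.1 c : ℂˣ) : ℂ) =
        ∑ φ : D.theta, ((φ.1 c : ℂˣ) : ℂ) := by
      rw [Finset.mul_sum]
      exact Fintype.sum_equiv (Equiv.mulLeft ⟨θ, hθ⟩) _ _ fun φ => by
        simp [MonoidHom.mul_apply]
    by_contra h0
    exact hne (Units.ext ((mul_eq_right₀ h0).1 hsum))

/-- A function all whose transforms at characters nontrivial at `o` vanish is invariant under `o`
on the cosets of `Q`. -/
theorem invariant_of_transform [Fintype D.plus] (F : D.plus → ℂ) (o : D.plus)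
    (h : ∀ θ ∈ D.theta, θ o ≠ 1 → ∑ x : D.plus, ((θ x : ℂˣ) : ℂ) * F x = 0) (b : D.plus)
    [DecidablePred fun x : D.plus => (x : Subgroup.centralizer ({z} : Set G)) ∈ D.Q] :
    ∑ x ∈ Finset.univ.filter (fun x : D.plus => ((b * o)⁻¹ * x : D.plus).1 ∈ D.Q), F x =
      ∑ x ∈ Finset.univ.filter (fun x : D.plus => (b⁻¹ * x : D.plus).1 ∈ D.Q), F x := by
  classical
  haveI := D.finite_theta
  haveI := Fintype.ofFinite D.theta
  have key : ∀ c : D.plus, (Fintype.card D.theta : ℂ) *
      ∑ x ∈ Finset.univ.filter (fun x : D.plus => (c⁻¹ * x : D.plus).1 ∈ D.Q), F x =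
      ∑ φ : D.theta, ((φ.1 c⁻¹ : ℂˣ) : ℂ) * ∑ x : D.plus, ((φ.1 x : ℂˣ) : ℂ) * F x := by
    intro c
    rw [D.sum_comm_theta, Finset.mul_sum, Finset.sum_filter]
    refine Finset.sum_congr rfl fun x _ => ?_
    rw [D.sum_theta_apply]
    split_ifs with h' <;> simp [mul_comm]
  refine mul_left_cancel₀ (Nat.cast_ne_zero.2 Fintype.card_ne_zero :
    (Fintype.card D.theta : ℂ) ≠ 0) ?_
  rw [key, key]
  refine Finset.sum_congr rfl fun φ _ => ?_
  by_cases hφ : φ.1 o = 1
  · rw [_root_.mul_inv_rev, map_mul, map_inv φ.1 o, hφ, inv_one, one_mul]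
  · rw [h _ φ.2 hφ, mul_zero, mul_zero]

/-- Translation by a kernel element kills the sums. -/
theorem translate_zero [Fintype D.plus] (f : D.plus → ℂ) (o : D.plus) (c : ℂ) (hc : c ≠ 1)
    (h : ∀ x, f (x * o) = c * f x) : ∑ x, f x = 0 := by
  have h1 : c * ∑ x, f x = ∑ x, f x := by
    rw [Finset.mul_sum, ← Finset.sum_congr rfl fun x _ => h x]
    exact Fintype.sum_equiv (Equiv.mulRight o) _ _ fun x => rfl
  by_contra h0
  exact hc ((mul_eq_right₀ h0).1 h1)

end SDPres

namespace SDPres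

variable [Fintype G] (D : SDPres z)

/-- Conjugation by the inverting involution on the preimage of `SL(2, 3)`. -/
def tau : D.plus →* D.plus where
  toFun x := ⟨D.y * x * D.y⁻¹, (plus_normal D).conj_mem _ x.2 _⟩
  map_one' := Subtype.ext (by simp)
  map_mul' a b := Subtype.ext (by
    show D.y * ((a : Subgroup.centralizer ({z} : Set G)) * b) * D.y⁻¹ =
      (D.y * a * D.y⁻¹) * (D.y * b * D.y⁻¹)
    group)

/-- The function induced from a linear character of the preimage of `SL(2, 3)`. -/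
noncomputable def thetaC (θ : D.plus →* ℂˣ) : Subgroup.centralizer ({z} : Set G) → ℂ :=
  letI : Fintype (Subgroup.centralizer ({z} : Set G)) := Fintype.ofFinite _
  Cfsg.indFun D.plus (fun x => (θ x : ℂ))

theorem isGen_thetaC (θ : D.plus →* ℂˣ) : Cfsg.IsGeneralizedCharacter _ (D.thetaC θ) := by
  letI : Fintype (Subgroup.centralizer ({z} : Set G)) := Fintype.ofFinite _
  haveI := Fintype.ofFinite D.plus
  exact isGen_indFun _ (isGen_of_isIrr (isIrr_linChar θ))

theorem thetaC_of_mem (θ : D.plus →* ℂˣ) (x : D.plus) :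
    D.thetaC θ x = (θ x : ℂ) + (θ (D.tau x) : ℂ) := by
  classical
  letI : Fintype (Subgroup.centralizer ({z} : Set G)) := Fintype.ofFinite _
  haveI := Fintype.ofFinite D.plus
  have hy2 : ∀ c : Subgroup.centralizer ({z} : Set G), c ∉ D.plus → c * D.y ∈ D.plus := by
    intro c hc
    rw [mem_plus] at hc ⊢
    rw [co_mul, det3_mul _ (D.co_mem _) _ (D.co_mem _), D.det_y,
      (det3_cases _ (D.co_mem c)).resolve_left hc]
    decide
  have hyp : D.y ∉ D.plus := D.y_det
  have hval : ∀ c : Subgroup.centralizer ({z} : Set G),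
      Cfsg.extendByZero D.plus (fun x => (θ x : ℂ)) (c⁻¹ * x * c) =
        if c ∈ D.plus then (θ x : ℂ) else (θ (D.tau x) : ℂ) := by
    intro c
    have hm : c⁻¹ * x * c ∈ D.plus := by simpa using (plus_normal D).conj_mem _ x.2 c⁻¹
    rw [extendByZero_of_mem _ _ hm]
    split_ifs with hc
    · rw [show (⟨c⁻¹ * x * c, hm⟩ : D.plus) = ⟨c, hc⟩⁻¹ * x * ⟨c, hc⟩ from rfl, map_mul, map_mul,
        map_inv, mul_comm, mul_inv_cancel_left]
    · set p : D.plus := ⟨c * D.y, hy2 c hc⟩ with hp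
      have : (⟨c⁻¹ * x * c, hm⟩ : D.plus) = D.tau (p⁻¹ * x * p) := Subtype.ext (by
        show c⁻¹ * x * c = D.y * ((c * D.y)⁻¹ * x * (c * D.y)) * D.y⁻¹
        group)
      rw [this, ← MonoidHom.comp_apply, map_mul, map_mul, map_inv, mul_comm, mul_inv_cancel_left]
      rfl
  rw [thetaC, Cfsg.indFun, Finset.sum_congr rfl fun c _ => hval c]
  have hcard : (Finset.univ.filter fun c => c ∉ D.plus).card =
      (Finset.univ.filter fun c => c ∈ D.plus).card := by
    refine Finset.card_bij (fun c _ => c * D.y) ?_ ?_ ?_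
    · intro c hc; simpa using hy2 c (by simpa using hc)
    · intro a _ b _ h; exact mul_right_cancel h
    · intro p hp
      refine ⟨p * D.y, ?_, by rw [mul_assoc, D.y_sq, mul_one]⟩
      simp only [Finset.mem_filter, Finset.mem_univ, true_and] at hp ⊢
      exact fun h => hyp (by simpa using mul_mem (inv_mem hp) h)
  rw [Finset.sum_ite, Finset.sum_const, Finset.sum_const, hcard, nsmul_eq_mul, nsmul_eq_mul,
    ← mul_add, ← Fintype.card_subtype, ← Nat.card_eq_fintype_card, ← mul_assoc,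
    inv_mul_cancel₀ (subgroup_card_ne_zero _), one_mul]

/-- The induced generalized characters attached to `θ`. -/
noncomputable def Z (θ : D.plus →* ℂˣ) (i : Fin 2) : G → ℂ :=
  Cfsg.indFun (Subgroup.centralizer ({z} : Set G))
    (fun x => D.thetaC θ x * D.baseP (![0, 2] i) x)

theorem isGen_prod (θ : D.plus →* ℂˣ) (i : Fin 5) :
    Cfsg.IsGeneralizedCharacter _ (fun x => D.thetaC θ x * D.baseP i x) :=
  isGen_mul (D.isGen_thetaC θ) (D.isGen_baseP i)

theorem prod_eq_zero (θ : D.plus →* ℂˣ) (i : Fin 5)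
    {x : Subgroup.centralizer ({z} : Set G)} (hx : (x : G) ∉ roots z) :
    D.thetaC θ x * D.baseP i x = 0 := by rw [D.baseP_eq_zero i hx, mul_zero]

theorem isGen_Z (θ : D.plus →* ℂˣ) (i : Fin 2) : Cfsg.IsGeneralizedCharacter G (D.Z θ i) :=
  isGen_indFun _ (D.isGen_prod θ _)

/-- Inner products with `Z θ i` as sums over the preimage of `SL(2, 3)`. -/
theorem classInner_Z (θ : D.plus →* ℂˣ) (i : Fin 2) {χ : G → ℂ} (hχ : Cfsg.IsClassFunction G χ)
    [Fintype D.plus] :
    Cfsg.classInner (D.Z θ i) χ = (Nat.card D.plus : ℂ)⁻¹ * ∑ x : D.plus,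
      (θ x : ℂ) * (D.baseP (![0, 2] i) x * conj (χ ((x : Subgroup.centralizer ({z} : Set G)) : G))) := by
  classical
  letI : Fintype (Subgroup.centralizer ({z} : Set G)) := Fintype.ofFinite _
  rw [Z, classInner_indFun _ _ hχ]
  have : Cfsg.classInner (fun x => D.thetaC θ x * D.baseP (![0, 2] i) x)
      (fun x : Subgroup.centralizer ({z} : Set G) => χ (x : G)) =
      Cfsg.classInner (D.thetaC θ)
        (fun x : Subgroup.centralizer ({z} : Set G) => conj (D.baseP (![0, 2] i) x) * χ (x : G)) := by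
    rw [Cfsg.classInner, Cfsg.classInner]
    congr 1
    refine Finset.sum_congr rfl fun x _ => ?_
    rw [map_mul, Complex.conj_conj]; ring
  rw [this, thetaC, classInner_indFun D.plus _ (fun g h => ?_), Cfsg.classInner]
  · congr 1
    refine Finset.sum_congr rfl fun x _ => ?_
    rw [map_mul, Complex.conj_conj]
  · rw [D.isClassFunction_baseP _ g h, Subgroup.coe_mul, Subgroup.coe_mul, Subgroup.coe_inv, hχ]

theorem card_plus [Fintype D.plus] (F : M3 → ℂ) :
    ∑ x : D.plus, F (D.co x) = (D.n : ℂ) * ∑ v ∈ elts.filter (fun v => det3 v = 1), F v := by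
  classical
  letI : Fintype (Subgroup.centralizer ({z} : Set G)) := Fintype.ofFinite _
  have h := D.sum_co (fun v => if det3 v = 1 then F v else 0)
  rw [← Finset.sum_filter, ← Finset.sum_filter] at h
  rw [← h]
  exact (Finset.sum_subtype _ (by simp [mem_plus]) fun x => F (D.co x)).symm

theorem natCard_plus : (Nat.card D.plus : ℂ) = 24 * (D.n : ℂ) := by
  haveI := Fintype.ofFinite D.plus
  have h := D.card_plus (fun _ => (1 : ℂ))
  rw [Finset.sum_const, Finset.sum_const, Finset.card_univ, nsmul_eq_mul, mul_one, nsmul_eq_mul,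
    mul_one, show (elts.filter (fun v => det3 v = 1)).card = 24 by decide +kernel] at h
  rw [Nat.card_eq_fintype_card, h]
  push_cast
  ring

theorem co_mul_kerPlus (x o : D.plus) (ho : (o : Subgroup.centralizer ({z} : Set G)) ∈ D.π.ker) :
    D.co ((x * o : D.plus) : Subgroup.centralizer ({z} : Set G)) = D.co x := D.co_mul_ker ho

variable {θ : D.plus →* ℂˣ} {o : D.plus}
  (ho : (o : Subgroup.centralizer ({z} : Set G)) ∈ D.π.ker) (hθ : θ o ≠ 1)

include ho hθ

theorem classInner_Z_XP (i : Fin 2) (k : Fin 5) :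
    Cfsg.classInner (D.Z θ i) (D.XP k) = 0 := by
  classical
  haveI := Fintype.ofFinite D.plus
  rw [D.classInner_Z θ i (isClassFunction_of_isGen (D.isGen_XP k))]
  have : ∀ x : D.plus, (θ x : ℂ) * (D.baseP (![0, 2] i) x *
      conj (D.XP k ((x : Subgroup.centralizer ({z} : Set G)) : G))) =
      (θ x : ℂ) * (D.baseP (![0, 2] i) x * conj (D.baseP k x)) := by
    intro x
    by_cases hx : (((x : Subgroup.centralizer ({z} : Set G)) : G)) ∈ roots z
    · rw [XP, ind_roots D.ord_z (D.isClassFunction_baseP k) (fun w hw => D.baseP_eq_zero k hw) hx]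
    · rw [D.baseP_eq_zero _ hx, zero_mul, zero_mul]
  rw [Finset.sum_congr rfl fun x _ => this x,
    D.translate_zero _ o (θ o : ℂ) (fun h => hθ (Units.ext h)) fun x => ?_, mul_zero]
  simp only [baseP, D.co_mul_kerPlus x o ho, map_mul, Units.val_mul]
  ring

theorem classInner_Z_one (i : Fin 2) :
    Cfsg.classInner (D.Z θ i) (fun _ => 1) = 0 := by
  classical
  haveI := Fintype.ofFinite D.plus
  rw [D.classInner_Z θ i (fun _ _ => rfl),
    D.translate_zero _ o (θ o : ℂ) (fun h => hθ (Units.ext h)) fun x => ?_, mul_zero]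
  simp only [baseP, D.co_mul_kerPlus x o ho, map_mul, Units.val_mul]
  ring

theorem gram_Z (i j : Fin 2) :
    Cfsg.classInner (D.Z θ i) (D.Z θ j) = emb (![![4, 2], ![2, 3]] i j) := by
  classical
  haveI := Fintype.ofFinite D.plus
  rw [D.classInner_Z θ i (isClassFunction_of_isGen (D.isGen_Z θ j))]
  have hu : ∀ w : D.plus, conj (θ w : ℂ) = ((θ w⁻¹ : ℂˣ) : ℂ) := fun w =>
    (character_inv (isCharacter_of_isIrr (isIrr_linChar θ)) w).symm
  set R : M3 → ℂ := fun v => emb (base (![0, 2] i) v * star (base (![0, 2] j) v)) with hR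
  have this : ∀ x : D.plus, (θ x : ℂ) * (D.baseP (![0, 2] i) x *
      conj (D.Z θ j ((x : Subgroup.centralizer ({z} : Set G)) : G))) =
      R (D.co x) + (θ (x * (D.tau x)⁻¹) : ℂ) * R (D.co x) := by
    intro x
    by_cases hx : (((x : Subgroup.centralizer ({z} : Set G)) : G)) ∈ roots z
    · rw [Z, ind_roots D.ord_z (isClassFunction_of_isGen (D.isGen_prod θ _))
        (fun w hw => D.prod_eq_zero θ _ hw) hx, D.thetaC_of_mem, hR, map_mul, map_add, hu, hu]
      simp only [baseP, map_mul emb, ← conj_emb, map_mul, map_inv, Units.val_mul]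
      have h1 : (θ x : ℂ) * ((θ x)⁻¹ : ℂˣ) = 1 := by rw [← Units.val_mul, mul_inv_cancel, Units.val_one]
      linear_combination (emb (base (![0, 2] i) (D.co x)) *
        conj (emb (base (![0, 2] j) (D.co x)))) * h1
    · have h0 := D.baseP_eq_zero (![0, 2] i) hx
      rw [h0, zero_mul, mul_zero, hR]
      rw [baseP] at h0
      simp [h0]
  rw [Finset.sum_congr rfl fun x _ => this x, Finset.sum_add_distrib]
  have hto : θ (D.tau o) = (θ o)⁻¹ := by
    rw [← map_inv]
    exact congrArg θ (Subtype.ext (D.y_inv _ ho))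
  have h2 : θ o * θ o ≠ 1 := by
    intro h
    refine hθ (eq_inv_self_odd' (inv_eq_of_mul_eq_one_right h).symm ?_)
    refine (D.ker_odd_order ho).of_dvd_nat ?_
    rw [Subgroup.orderOf_coe]
    exact orderOf_map_dvd θ o
  rw [D.translate_zero (fun x : D.plus => (θ (x * (D.tau x)⁻¹) : ℂ) * R (D.co x)) o
    (θ o * θ o : ℂˣ) (fun h => h2 (Units.ext h)) fun x => ?_, add_zero]
  · rw [D.card_plus R, D.natCard_plus, hR, ← map_sum, theta_gram, map_mul, map_ofNat]
    field_simp [D.n_ne_zero]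
  · rw [D.co_mul_kerPlus x o ho]
    simp only [map_mul, map_inv, hto, inv_inv, _root_.mul_inv_rev, Units.val_mul]
    ring

end SDPres

end CfsgLib.SuborbitThree
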