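import Cfsg.Agent.SuborbitThree.SDArith
import Cfsg.Agent.SuborbitThree.SDTheta
import Cfsg.Agent.Characters.GL23.Theorem

/-!
# A character of small degree with constant values on `z O`
-/

set_option autoImplicit false
set_option linter.style.haveILetI false
set_option linter.unusedSectionVars false

namespace CfsgLib.SuborbitThree

open scoped ComplexConjugate
open Matrix CfsgLib.Characters CfsgLib.Characters.GL23

universe u

theorem q8_combination : ∀ v ∈ elts, InQ8 v →
    2 * base 2 v - base 0 v = if v = m1 then -8 else 0 := by decide +kernel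

/-- The integer vectors of the two auxiliary functions avoid the eight constituents. -/
theorem avoid {α : Type*} [Fintype α] (χ : Fin 8 → α) (hχ : Function.Injective χ) (sg : Fin 8 → ℤ)
    (hsg : ∀ k, sg k = 1 ∨ sg k = -1) (u v : α → ℤ)
    (hu : ∑ a, u a ^ 2 = 4) (hv : ∑ a, v a ^ 2 = 3) (huv : ∑ a, u a * v a = 2)
    (cu cv : Fin 8 → ℤ) (hcu : ∀ k, cu k = sg k * u (χ k)) (hcv : ∀ k, cv k = sg k * v (χ k))
    (hu0 : cu 0 = 0) (hv0 : cv 0 = 0)
    (eu : cu 1 + cu 4 = 0 ∧ cu 4 + cu 5 + cu 6 = 0 ∧ cu 1 + cu 2 = 0 ∧ cu 1 + cu 3 = 0 ∧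
      cu 1 - cu 5 + cu 7 = 0)
    (ev : cv 1 + cv 4 = 0 ∧ cv 4 + cv 5 + cv 6 = 0 ∧ cv 1 + cv 2 = 0 ∧ cv 1 + cv 3 = 0 ∧
      cv 1 - cv 5 + cv 7 = 0) :
    (∀ k, cu k = 0) ∧ ∀ k, cv k = 0 := by
  classical
  set S := Finset.univ.image χ with hS
  have hsq : ∀ k, sg k * sg k = 1 := fun k => by rcases hsg k with h | h <;> rw [h] <;> rfl
  have himg : ∀ f g : α → ℤ, ∑ a ∈ S, f a * g a =
      ∑ k, (sg k * f (χ k)) * (sg k * g (χ k)) := fun f g => by
    rw [hS, Finset.sum_image fun a _ b _ h => hχ h]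
    exact Finset.sum_congr rfl fun k _ => by linear_combination -(f (χ k) * g (χ k)) * hsq k
  have hsplit : ∀ f : α → ℤ, ∑ a, f a = ∑ a ∈ S, f a + ∑ a ∈ Sᶜ, f a := fun f =>
    (Finset.sum_add_sum_compl S f).symm
  have su : ∑ a ∈ S, u a * u a = ∑ k, cu k * cu k := by
    rw [himg]; exact Finset.sum_congr rfl fun k _ => by rw [hcu]
  have sv : ∑ a ∈ S, v a * v a = ∑ k, cv k * cv k := by
    rw [himg]; exact Finset.sum_congr rfl fun k _ => by rw [hcv]
  have suv : ∑ a ∈ S, u a * v a = ∑ k, cu k * cv k := by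
    rw [himg]; exact Finset.sum_congr rfl fun k _ => by rw [hcu, hcv]
  have tu := hsplit (fun a => u a * u a)
  have tv := hsplit (fun a => v a * v a)
  have tuv := hsplit (fun a => u a * v a)
  simp only [← sq] at tu tv
  rw [hu] at tu; rw [hv] at tv; rw [huv] at tuv
  simp only [sq] at tu tv
  rw [su] at tu; rw [sv] at tv; rw [suv] at tuv
  have nu : 0 ≤ ∑ a ∈ Sᶜ, u a * u a := Finset.sum_nonneg fun a _ => mul_self_nonneg _
  have nv : 0 ≤ ∑ a ∈ Sᶜ, v a * v a := Finset.sum_nonneg fun a _ => mul_self_nonneg _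
  have nw : 0 ≤ ∑ a ∈ Sᶜ, (v a * v a - 4 * (u a * v a) + 4 * (u a * u a)) :=
    Finset.sum_nonneg fun a _ => by nlinarith [mul_self_nonneg (v a - 2 * u a)]
  rw [Finset.sum_add_distrib, Finset.sum_sub_distrib, ← Finset.mul_sum, ← Finset.mul_sum] at nw
  simp only [Fin.sum_univ_eight] at tu tv tuv
  obtain ⟨a0, a1, a2, a3, a4⟩ := eu
  obtain ⟨b0, b1, b2, b3, b4⟩ := ev
  have u4 : cu 4 = -cu 1 := by omega
  have u2 : cu 2 = -cu 1 := by omega
  have u3 : cu 3 = -cu 1 := by omega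
  have u6 : cu 6 = cu 1 - cu 5 := by omega
  have u7 : cu 7 = cu 5 - cu 1 := by omega
  have v4 : cv 4 = -cv 1 := by omega
  have v2 : cv 2 = -cv 1 := by omega
  have v3 : cv 3 = -cv 1 := by omega
  have v6 : cv 6 = cv 1 - cv 5 := by omega
  have v7 : cv 7 = cv 5 - cv 1 := by omega
  rw [hu0, u2, u3, u4, u6, u7] at tu
  rw [hv0, v2, v3, v4, v6, v7] at tv
  rw [hu0, hv0, u2, u3, u4, u6, u7, v2, v3, v4, v6, v7] at tuv
  have hu1 : cu 1 = 0 := by
    by_contra h
    have : 1 ≤ cu 1 * cu 1 := by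
      have := mul_self_pos.2 h; omega
    by_cases h5 : cu 5 = 0
    · rw [h5] at tu; nlinarith
    · have := mul_self_pos.2 h5
      nlinarith [mul_self_nonneg (cu 1 - cu 5)]
  have hv1 : cv 1 = 0 := by
    by_contra h
    have : 1 ≤ cv 1 * cv 1 := by
      have := mul_self_pos.2 h; omega
    nlinarith [mul_self_nonneg (cv 1 - cv 5), mul_self_nonneg (cv 5)]
  rw [hu1] at tu tuv
  rw [hv1] at tv tuv
  have bu : -1 ≤ cu 5 ∧ cu 5 ≤ 1 := by
    constructor <;> nlinarith
  have bv : -1 ≤ cv 5 ∧ cv 5 ≤ 1 := by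
    constructor <;> nlinarith
  have hv5 : cv 5 = 0 := by
    by_contra h
    have hz : ∑ a ∈ Sᶜ, v a * v a = 0 := by
      have : cv 5 * cv 5 = 1 := by
        rcases (show cv 5 = -1 ∨ cv 5 = 1 by omega) with h' | h' <;> rw [h'] <;> rfl
      nlinarith
    have hz2 : ∑ a ∈ Sᶜ, u a * v a = 0 := Finset.sum_eq_zero fun a ha => by
      rw [mul_self_eq_zero.1 ((Finset.sum_eq_zero_iff_of_nonneg
        fun b _ => mul_self_nonneg (v b)).1 hz a ha), mul_zero]
    obtain ⟨l, r⟩ := bv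
    obtain ⟨l', r'⟩ := bu
    interval_cases (cv 5) <;> interval_cases (cu 5) <;> omega
  have hu5 : cu 5 = 0 := by
    by_contra h
    obtain ⟨l', r'⟩ := bu
    rw [hv5] at tuv tv
    interval_cases (cu 5) <;> omega
  constructor <;> intro k <;> fin_cases k <;> simp only [Fin.zero_eta, Fin.reduceFinMk] <;> omega

namespace SDPres

variable {G : Type u} [Group G] [Fintype G] {z : G} (D : SDPres z)

/-- The values at the first four class representatives, from the five multiplicities. -/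
theorem values_of_coeff {χ : G → ℂ} (hχ : Cfsg.IsClassFunction G χ)
    (c : Fin 5 → ℤ) (hc : ∀ i, Cfsg.classInner (D.XP i) χ = (c i : ℂ)) :
    D.fib χ (classRep 0) = D.n * (5 * c 0 - 3 * c 1 - 2 * c 2 - 2 * c 3 - 4 * c 4) ∧
      D.fib χ (classRep 1) = D.n * (c 0 + c 1) ∧
      D.fib χ (classRep 2) = D.n * (c 2 + c 3 - c 4 - c 0) ∧
      D.fib χ (classRep 3) = D.n * (c 0 - c 1 + sqrtNegTwo * (c 2 - c 3)) := by
  have h : ∀ i, 48 * (D.n : ℂ) * (c i : ℂ) = ∑ j : Fin 5,
      emb (![1, 6, 8, 6, 6] j * base i (classRep j)) * conj (D.fib χ (classRep j)) := fun i => by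
    rw [← hc i]; exact D.classInner_XP i hχ
  set f := fun j => D.fib χ (classRep j) with hf
  have hA := h 0
  have hA' := h 1
  have hE := h 2
  have hE' := h 3
  have hF := h 4
  simp [Fin.sum_univ_five, base_classRep, map_mul, emb_mk, map_ofNat] at hA hA' hE hE' hF
  have hs : sqrtNegTwo * sqrtNegTwo + 2 = 0 := by rw [sqrtNegTwo_sq]; norm_num
  have y0 : conj (f 0) = D.n * (5 * (c 0 : ℂ) - 3 * c 1 - 2 * c 2 - 2 * c 3 - 4 * c 4) := by
    simp only [hf]
    linear_combination (-5 * hA + 3 * hA' + 2 * hE + 2 * hE' + 4 * hF) / 48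
  have y1 : conj (f 1) = D.n * ((c 0 : ℂ) + c 1) := by
    simp only [hf]; linear_combination -(hA + hA') / 48
  have y2 : conj (f 2) = D.n * ((c 2 : ℂ) + c 3 - c 4 - c 0) := by
    simp only [hf]; linear_combination (-hE - hE' + hF + hA) / 48
  have y3 : conj (f 3) = D.n * ((c 0 : ℂ) - c 1 - sqrtNegTwo * (c 2 - c 3)) := by
    simp only [hf]
    linear_combination (-hA + hA') / 48 + sqrtNegTwo / 48 * (hE - hE') +
      (conj (D.fib χ (classRep 3)) - conj (D.fib χ (classRep 4))) / 4 * hs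
  have hcs : conj sqrtNegTwo = -sqrtNegTwo := by simp [sqrtNegTwo]
  simp only [hf] at y0 y1 y2 y3
  refine ⟨?_, ?_, ?_, ?_⟩
  all_goals apply (starRingEnd ℂ).injective
  · rw [y0]; simp [map_sub, map_mul, map_ofNat]
  · rw [y1]; simp
  · rw [y2]; simp
  · rw [y3]; simp only [map_mul, map_add, map_sub, hcs, map_natCast, map_intCast]; ring

/-- A class function orthogonal to all `Z θ i` is constant on `z O`. -/
theorem const_on_zO {L : G → ℂ} (hL : Cfsg.IsClassFunction G L)
    {o : Subgroup.centralizer ({z} : Set G)} (ho : o ∈ D.π.ker)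
    (h : ∀ θ ∈ D.theta, θ ⟨o, D.ker_le_plus ho⟩ ≠ 1 → ∀ i : Fin 2,
      Cfsg.classInner (D.Z θ i) L = 0) :
    L ((tC * o : Subgroup.centralizer ({z} : Set G)) : G) = L z := by
  classical
  haveI := Fintype.ofFinite D.plus
  set F : D.plus → ℂ := fun x => (2 * D.baseP 2 x - D.baseP 0 x) *
    conj (L ((x : Subgroup.centralizer ({z} : Set G)) : G)) with hF
  have hinv := D.invariant_of_transform F ⟨o, D.ker_le_plus ho⟩ (fun θ hθ hne => ?_) 1
  swap
  · have h0 : ∀ i : Fin 2, ∑ x : D.plus, (θ x : ℂ) * (D.baseP (![0, 2] i) x *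
        conj (L ((x : Subgroup.centralizer ({z} : Set G)) : G))) = 0 := by
      intro i
      have := h θ hθ hne i
      rw [D.classInner_Z θ i hL] at this
      exact (mul_eq_zero.1 this).resolve_left (inv_ne_zero (Nat.cast_ne_zero.2 Nat.card_pos.ne'))
    have e : ∀ x : D.plus, (θ x : ℂ) * F x = 2 * ((θ x : ℂ) * (D.baseP (![0, 2] 1) x *
        conj (L ((x : Subgroup.centralizer ({z} : Set G)) : G)))) -
        (θ x : ℂ) * (D.baseP (![0, 2] 0) x *
        conj (L ((x : Subgroup.centralizer ({z} : Set G)) : G))) := fun x => by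
      simp only [hF, Matrix.cons_val_zero, Matrix.cons_val_one]; ring
    rw [Finset.sum_congr rfl fun x _ => e x, Finset.sum_sub_distrib, ← Finset.mul_sum, h0, h0]
    ring
  have htp : (tC : Subgroup.centralizer ({z} : Set G)) ∈ D.plus := by
    rw [mem_plus, D.co_tC]; decide
  have htQ : (tC : Subgroup.centralizer ({z} : Set G)) ∈ D.Q := ⟨by rw [D.co_tC]; decide, by
    rw [show (4 : ℕ) = 2 * 2 from rfl, pow_mul, D.tC_sq, one_pow]⟩
  have key : ∀ (c : D.plus), (c : Subgroup.centralizer ({z} : Set G)) ∈ D.π.ker →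
      ∑ x ∈ Finset.univ.filter (fun x : D.plus => (c⁻¹ * x : D.plus).1 ∈ D.Q), F x =
        -8 * conj (L ((tC * c.1 : Subgroup.centralizer ({z} : Set G)) : G)) := by
    intro c hc
    rw [Finset.sum_eq_single (⟨tC, htp⟩ * c)]
    · have e : D.co ((⟨tC, htp⟩ * c : D.plus) : Subgroup.centralizer ({z} : Set G)) = m1 := by
        rw [Subgroup.coe_mul, D.co_mul_ker hc, D.co_tC]
      simp only [hF, baseP, e]
      rw [← map_ofNat emb 2, ← map_mul, ← map_sub, q8_combination _ (by decide) (by decide),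
        if_pos rfl, map_neg, map_ofNat]
      rfl
    · intro x hx hne
      have hx' := (Finset.mem_filter.1 hx).2
      have hco : D.co ((c⁻¹ * x : D.plus) : Subgroup.centralizer ({z} : Set G)) = D.co x := by
        rw [Subgroup.coe_mul, co_mul, Subgroup.coe_inv, D.co_eq_one_iff.2 (inv_mem hc)]
        obtain ⟨a, b, e, f⟩ := D.co (x : Subgroup.centralizer ({z} : Set G))
        simp [mul3, one3]
      simp only [hF, baseP]
      rw [← map_ofNat emb 2, ← map_mul, ← map_sub,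
        q8_combination _ (D.co_mem _) (hco ▸ hx'.1)]
      by_cases hm : D.co (x : Subgroup.centralizer ({z} : Set G)) = m1
      · exfalso
        refine hne ?_
        obtain ⟨q, -, huniq⟩ := D.existsUnique_Q (v := m1) (by decide) (by decide)
        have e1 := huniq _ ⟨hx', hco.trans hm⟩
        have e2 := huniq _ ⟨htQ, D.co_tC⟩
        refine Subtype.ext ?_
        have := e1.trans e2.symm
        rw [Subgroup.coe_mul, Subgroup.coe_inv, inv_mul_eq_iff_eq_mul] at this
        rw [Subgroup.coe_mul, this]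
        exact (D.zC_central _).symm.eq
      · rw [if_neg hm, map_zero, zero_mul]
    · intro h
      exfalso
      refine h (Finset.mem_filter.2 ⟨Finset.mem_univ _, ?_⟩)
      have : (c⁻¹ * (⟨tC, htp⟩ * c) : D.plus).1 = tC := by
        rw [Subgroup.coe_mul, Subgroup.coe_mul, Subgroup.coe_inv, (D.zC_central c.1).eq,
          inv_mul_cancel_left]
      rw [this]; exact htQ
  rw [key _ (by simpa using ho), key _ (by simpa using D.π.ker.one_mem)] at hinv
  have := (starRingEnd ℂ).injective (mul_left_cancel₀ (by norm_num : (-8 : ℂ) ≠ 0) hinv)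
  simpa [tC] using this

theorem fib_m1 {L : G → ℂ}
    (h : ∀ o ∈ D.π.ker, L ((tC * o : Subgroup.centralizer ({z} : Set G)) : G) = L z) :
    D.fib L m1 = D.n * L z := by
  classical
  haveI := Fintype.ofFinite (Subgroup.centralizer ({z} : Set G))
  rw [D.fib_eq, Finset.sum_congr rfl fun x hx => ?_, Finset.sum_const, nsmul_eq_mul,
    ← Fintype.card_subtype, ← Nat.card_eq_fintype_card, D.card_fibre (show m1 ∈ elts by decide)]
  have hk : tC⁻¹ * x ∈ D.π.ker :=
    D.co_eq_iff.1 (by rw [D.co_tC, (Finset.mem_filter.1 hx).2])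
  have := h _ hk
  rwa [mul_inv_cancel_left] at this

include D in
/-- The order of the group and a small faithful character. -/
theorem exists_small_char [IsSimpleGroup G] :
    (Nat.card G = 5616 * D.n ^ 3 ∧ ∃ χ : Cfsg.IrrCharacter G, (χ : G → ℂ) 1 = 12 ∧
      ∀ o ∈ D.π.ker, (χ : G → ℂ) ((tC * o : Subgroup.centralizer ({z} : Set G)) : G) = 4) ∨
    (Nat.card G = 7920 * D.n ^ 3 ∧ ∃ χ : Cfsg.IrrCharacter G, (χ : G → ℂ) 1 = 10 ∧
      ∀ o ∈ D.π.ker, (χ : G → ℂ) ((tC * o : Subgroup.centralizer ({z} : Set G)) : G) = -2) := by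
  classical
  obtain ⟨M, hM, hG⟩ := D.card_eq
  obtain ⟨L, hL, hL0, e0, e1, e2, e3, e4⟩ := decompose D.XP D.isGen_XP D.XP_one D.conj_XP
    (fun i j => by rw [D.gram_XP]; fin_cases i <;> fin_cases j <;> simp [map_ofNat])
    (fun i => by rw [D.classInner_XP_one]; fin_cases i <;> simp)
  have hmult : ∀ i k, Cfsg.classInner (D.XP i) (L k) = (mult i k : ℂ) := by
    intro i k
    fin_cases i <;> simp only [Fin.reduceFinMk, Fin.zero_eta, Fin.isValue, e0, e1, e2, e3, e4,
      classInner_add_left, classInner_sub_left, hL.2] <;> fin_cases k <;> simp [mult]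
  choose χ ε hε hLχ using fun k => (hL.unit k).exists_irr
  have hinj : Function.Injective χ := by
    intro k l hkl
    by_contra hne
    have h := hL.2 k l
    rw [if_neg hne, hLχ k, hLχ l, hkl, classInner_smul_left, classInner_smul_right,
      classInner_isIrr_self (χ l).2] at h
    rcases hε k with h1 | h1 <;> rcases hε l with h2 | h2 <;> rw [h1, h2] at h <;> norm_num at h
  have hL1 : ∀ k, ∃ d : ℤ, d ≠ 0 ∧ L k 1 = d := fun k => by
    obtain ⟨d, hd, hdχ⟩ := exists_degree_pos (χ k).2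
    rcases hε k with h1 | h1
    · exact ⟨d, by omega, by rw [hLχ k, h1, one_smul, hdχ]; push_cast; rfl⟩
    · exact ⟨-d, by omega, by rw [hLχ k, h1, Pi.smul_apply, hdχ]; simp⟩
  choose d hd0 hd using hL1
  have hd1 : d 0 = 1 := by
    have := hd 0
    rw [hL0] at this
    exact Int.cast_inj.1 ((this.symm : ((d 0 : ℤ) : ℂ) = 1).trans Int.cast_one.symm)
  have hLcl : ∀ k, Cfsg.IsClassFunction G (L k) := fun k => isClassFunction_of_isGen (hL.1 k)
  -- the functions `Z θ i` avoid the constituents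
  have horth : ∀ k, ∀ o (ho : o ∈ D.π.ker), ∀ θ ∈ D.theta, θ ⟨o, D.ker_le_plus ho⟩ ≠ 1 →
      ∀ i : Fin 2, Cfsg.classInner (D.Z θ i) (L k) = 0 := by
    intro k o ho θ hθ hne
    choose u hue hu using fun i => exists_int_coeff (D.isGen_Z θ i)
    have hgram : ∀ i j : Fin 2, ((∑ ψ, u i ψ * u j ψ : ℤ) : ℂ) =
        emb (![![4, 2], ![2, 3]] i j) := by
      intro i j
      rw [← D.gram_Z (o := ⟨o, D.ker_le_plus ho⟩) ho hne i j,
        classInner_eq_sum (isClassFunction_of_isGen (D.isGen_Z θ i))]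
      push_cast
      exact Finset.sum_congr rfl fun ψ _ => by rw [hu i ψ, hu j ψ, map_intCast]
    choose sg hsg hsg' using fun l => (show ∃ s : ℤ, (s = 1 ∨ s = -1) ∧ ε l = s from
      (hε l).elim (fun h => ⟨1, Or.inl rfl, by simp [h]⟩) fun h => ⟨-1, Or.inr rfl, by simp [h]⟩)
    set c : Fin 2 → Fin 8 → ℤ := fun i l => sg l * u i (χ l) with hc
    have hcL : ∀ i l, Cfsg.classInner (D.Z θ i) (L l) = (c i l : ℂ) := by
      intro i l
      rw [hLχ l, classInner_smul_right, hu i (χ l), hsg' l, map_intCast, hc]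
      push_cast; rfl
    have hX : ∀ i x, Cfsg.classInner (D.Z θ i) (D.XP x) = 0 := fun i x =>
      D.classInner_Z_XP (o := ⟨o, D.ker_le_plus ho⟩) ho hne i x
    have hc0 : ∀ i, c i 0 = 0 := by
      intro i
      have h1 := D.classInner_Z_one (o := ⟨o, D.ker_le_plus ho⟩) ho hne i
      have h2 := hcL i 0
      rw [show L 0 = fun _ => (1 : ℂ) from hL0, h1] at h2
      exact_mod_cast h2.symm
    have heq : ∀ i, c i 1 + c i 4 = 0 ∧ c i 4 + c i 5 + c i 6 = 0 ∧ c i 1 + c i 2 = 0 ∧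
        c i 1 + c i 3 = 0 ∧ c i 1 - c i 5 + c i 7 = 0 := by
      intro i
      have g0 := hX i 0
      have g1 := hX i 1
      have g2 := hX i 2
      have g3' := hX i 3
      have g4 := hX i 4
      simp only [e0, e1, e2, e3, e4, classInner_add_right, classInner_sub_right, hcL, hc0,
        Int.cast_zero, zero_add] at g0 g1 g2 g3' g4
      exact ⟨by exact_mod_cast g0, by exact_mod_cast g1, by exact_mod_cast g2,
        by exact_mod_cast g3', by exact_mod_cast g4⟩
    have hg00 := hgram 0 0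
    have hg11 := hgram 1 1
    have hg01 := hgram 0 1
    simp [map_ofNat] at hg00 hg11 hg01
    obtain ⟨a1, a2⟩ := avoid χ hinj sg hsg (u 0) (u 1)
      (by simp only [sq]; exact_mod_cast hg00) (by simp only [sq]; exact_mod_cast hg11)
      (by exact_mod_cast hg01) (c 0) (c 1) (fun l => rfl) (fun l => rfl) (hc0 0) (hc0 1)
      (heq 0) (heq 1)
    intro i
    fin_cases i
    · exact (hcL 0 k).trans (by rw [a1 k]; norm_num)
    · exact (hcL 1 k).trans (by rw [a2 k]; norm_num)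
  have hconst : ∀ k, ∀ o ∈ D.π.ker,
      L k ((tC * o : Subgroup.centralizer ({z} : Set G)) : G) = L k z :=
    fun k o ho => D.const_on_zO (hLcl k) ho (horth k o ho)
  -- values of the constituents
  have hval := fun k => D.values_of_coeff (hLcl k) (fun i => mult i k) (fun i => hmult i k)
  have hzero : ∀ ψ : Cfsg.IrrCharacter G, ψ ∉ Finset.univ.image χ →
      ∀ j : Fin 4, D.fib (ψ : G → ℂ) (classRep (Fin.castSucc j)) = 0 := by
    intro ψ hψ
    have hperp : ∀ k, Cfsg.classInner (L k) (ψ : G → ℂ) = 0 := fun k => by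
      rw [hLχ k, classInner_smul_left, classInner_irr,
        if_neg fun h => hψ (Finset.mem_image.2 ⟨k, Finset.mem_univ k, h⟩), mul_zero]
    obtain ⟨v0, v1, v2, v3⟩ := D.values_of_coeff (isClassFunction_of_isIrr ψ.2) (fun _ => 0)
      (fun i => by
        fin_cases i <;> simp [e0, e1, e2, e3, e4, classInner_add_left, classInner_sub_left, hperp])
    intro j
    fin_cases j
    · simpa using v0
    · simpa using v1
    · simpa using v2
    · simpa using v3
  have hall : ∀ y : G, orderOf y = 2 → IsConj z y := fun y hy => D.isConj_of_inv hy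
  have hn0 := D.n_ne_zero
  have v0 : ∀ k, L k z = ((![1, -3, -2, -2, 2, 1, -3, -4] k : ℤ) : ℂ) := fun k => by
    have h1 := D.fib_m1 (hconst k)
    rw [show m1 = classRep 0 from rfl, (hval k).1] at h1
    rw [← mul_left_cancel₀ hn0 h1]
    fin_cases k <;> simp [mult] <;> norm_num
  have w0 : ∀ k, D.fib (L k) (classRep 0) = D.n * ((![1, -3, -2, -2, 2, 1, -3, -4] k : ℤ) : ℂ) :=
    fun k => by rw [← v0 k, ← D.fib_m1 (hconst k)]; rfl
  have w1 : ∀ k, D.fib (L k) (classRep 1) = D.n * ((![1, 1, 0, 0, 2, 1, 1, 0] k : ℤ) : ℂ) :=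
    fun k => by rw [(hval k).2.1]; fin_cases k <;> simp [mult] <;> norm_num
  have w2 : ∀ k, D.fib (L k) (classRep 2) = D.n * ((![1, 0, 1, 1, -1, 1, 0, -1] k : ℤ) : ℂ) :=
    fun k => by rw [(hval k).2.2.1]; fin_cases k <;> simp [mult]
  have w3 : ∀ k, D.fib (L k) (classRep 3) =
      D.n * ![1, 1, sqrtNegTwo, -sqrtNegTwo, 0, -1, -1, 0] k :=
    fun k => by rw [(hval k).2.2.2]; fin_cases k <;> simp [mult]
  -- the equations
  have hsum : ∀ j : Fin 4, (48 : ℂ) * D.n ^ 4 * ((![12, 4, 6, 0, 0] (Fin.castSucc j) : ℕ) : ℂ) =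
      (M : ℂ) * ∑ k, L k z * L k z * D.fib (L k) (classRep (Fin.castSucc j)) / (d k : ℂ) := by
    intro j
    haveI := Fintype.ofFinite (Subgroup.centralizer ({z} : Set G))
    have h1 : ∀ x : Subgroup.centralizer ({z} : Set G),
        ((48 * (D.n : ℂ)) ^ 2 * (Nat.card {a : G // orderOf a = 2 ∧ orderOf (a * x) = 2} : ℂ)) =
        (Nat.card G : ℂ) * ∑ ψ : Cfsg.IrrCharacter G,
          (ψ : G → ℂ) z * (ψ : G → ℂ) z * (ψ : G → ℂ) x / (ψ : G → ℂ) 1 := fun x => by
      rw [← card_conj_mul_conj (Small.inv_eq_self_of_orderOf_two D.ord_z) (x : G),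
        card_conj_mul_conj_eq D.ord_z hall (x : G), ← D.cardC_cast]
      push_cast; rfl
    set S := Finset.univ.filter (fun x => D.co x = classRep (Fin.castSucc j)) with hS
    have hsumP : ∑ x ∈ S, (Nat.card {a : G // orderOf a = 2 ∧ orderOf (a * x) = 2} : ℂ) =
        (D.n : ℂ) ^ 2 * ((![12, 4, 6, 0, 0] (Fin.castSucc j) : ℕ) : ℂ) := by
      rw [← Nat.cast_sum]
      have hcount : ∑ x ∈ S, Nat.card {a : G // orderOf a = 2 ∧ orderOf (a * x) = 2} =
          D.n ^ 2 * ![12, 4, 6, 0, 0] (Fin.castSucc j) := by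
        rw [← D.pairs_eq]
        let E : {p : G × {x // D.co x = classRep (Fin.castSucc j)} //
            orderOf p.1 = 2 ∧ orderOf (p.1 * p.2.1) = 2} ≃
            Σ x : {x // D.co x = classRep (Fin.castSucc j)},
              {a : G // orderOf a = 2 ∧ orderOf (a * x.1) = 2} :=
          { toFun := fun p => ⟨p.1.2, p.1.1, p.2⟩
            invFun := fun s => ⟨(s.2.1, s.1), s.2.2⟩
            left_inv := fun p => rfl
            right_inv := fun s => rfl }
        rw [Nat.card_congr E, Nat.card_sigma, hS]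
        exact Finset.sum_subtype _ (by simp) _
      rw [hcount]; push_cast; ring
    have h2 := Finset.sum_congr (s₁ := S) rfl fun x _ => h1 x
    rw [← Finset.mul_sum, hsumP, ← Finset.mul_sum, Finset.sum_comm, hG] at h2
    have h3 : ∀ ψ : Cfsg.IrrCharacter G,
        ∑ x ∈ S, (ψ : G → ℂ) z * (ψ : G → ℂ) z * (ψ : G → ℂ) x / (ψ : G → ℂ) 1 =
          (ψ : G → ℂ) z * (ψ : G → ℂ) z * D.fib (ψ : G → ℂ) (classRep (Fin.castSucc j)) /
            (ψ : G → ℂ) 1 := fun ψ => by
      rw [D.fib_eq, Finset.mul_sum, Finset.sum_div]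
    rw [Finset.sum_congr rfl fun ψ _ => h3 ψ,
      ← Finset.sum_subset (Finset.subset_univ (Finset.univ.image χ)) fun ψ _ hψ => by
        rw [hzero ψ hψ j, mul_zero, zero_div],
      Finset.sum_image fun a _ b _ h => hinj h] at h2
    have h4 : ∀ k, (χ k : G → ℂ) z * (χ k : G → ℂ) z *
        D.fib (χ k : G → ℂ) (classRep (Fin.castSucc j)) / (χ k : G → ℂ) 1 =
        L k z * L k z * D.fib (L k) (classRep (Fin.castSucc j)) / (d k : ℂ) := fun k => by
      rw [← hd k, hLχ k, D.fib_eq, D.fib_eq]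
      rcases hε k with h | h <;> rw [h] <;> simp [Finset.sum_neg_distrib]
    rw [Finset.sum_congr rfl fun k _ => h4 k] at h2
    push_cast at h2
    linear_combination h2 / 48
  have hdeg : ∀ i, D.XP i 1 = 0 := D.XP_one
  have d0 := hdeg 0
  have d1' := hdeg 1
  have d2' := hdeg 2
  have d3' := hdeg 3
  have d4' := hdeg 4
  rw [e0, Pi.add_apply, Pi.add_apply, hd, hd, hd, hd1] at d0
  rw [e1, Pi.add_apply, Pi.add_apply, hd, hd, hd] at d1'
  rw [e2, Pi.add_apply, Pi.add_apply, hd, hd, hd, hd1] at d2'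
  rw [e3, Pi.add_apply, Pi.add_apply, hd, hd, hd, hd1] at d3'
  rw [e4, Pi.add_apply, Pi.sub_apply, hd, hd, hd] at d4'
  have k0 : 1 + d 1 + d 4 = 0 := by exact_mod_cast d0
  have k1 : d 4 + d 5 + d 6 = 0 := by exact_mod_cast d1'
  have k2 : 1 + d 1 + d 2 = 0 := by exact_mod_cast d2'
  have k3 : 1 + d 1 + d 3 = 0 := by exact_mod_cast d3'
  have k4 : d 1 - d 5 + d 7 = 0 := by exact_mod_cast d4'
  have q1 : d 1 = -1 - d 4 := by omega
  have q2 : d 2 = d 4 := by omega
  have q3 : d 3 = d 4 := by omega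
  have q6 : d 6 = -d 4 - d 5 := by omega
  have q7 : d 7 = d 5 + 1 + d 4 := by omega
  have hM0 : (M : ℂ) ≠ 0 := Nat.cast_ne_zero.2 hM.pos.ne'
  have E4 := hsum 1
  have E6 := hsum 2
  have E8 := hsum 3
  simp only [Fin.sum_univ_eight, v0, Fin.castSucc_one, w1] at E4
  simp only [Fin.sum_univ_eight, v0, show Fin.castSucc (2 : Fin 4) = (2 : Fin 5) from rfl, w2] at E6
  simp only [Fin.sum_univ_eight, v0, show Fin.castSucc (3 : Fin 4) = (3 : Fin 5) from rfl, w3] at E8
  simp [hd1, q1, q2, q3, q6, q7] at E4 E6 E8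
  have h8' : 1 + 9 / ((-1 - d 4 : ℤ) : ℂ) - 1 / (d 5 : ℂ) - 9 / ((-d 4 - d 5 : ℤ) : ℂ) = 0 := by
    rcases E8 with h | h
    · exact absurd h (by simpa using hM0)
    · push_cast
      refine mul_left_cancel₀ hn0 ?_
      linear_combination h
  have h4' : (M : ℂ) * (1 + 9 / ((-1 - d 4 : ℤ) : ℂ) + 8 / (d 4 : ℂ) + 1 / (d 5 : ℂ) +
      9 / ((-d 4 - d 5 : ℤ) : ℂ)) = 192 * ((D.n ^ 3 : ℕ) : ℂ) := by
    push_cast
    refine mul_left_cancel₀ hn0 ?_
    linear_combination -E4
  have h6' : (M : ℂ) * (1 + 4 / (d 4 : ℂ) + 1 / (d 5 : ℂ) -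
      16 / ((d 5 + 1 + d 4 : ℤ) : ℂ)) = 288 * ((D.n ^ 3 : ℕ) : ℂ) := by
    push_cast
    refine mul_left_cancel₀ hn0 ?_
    linear_combination -E6
  have hres := order_cases_general hM (pow_pos D.n_pos 3) (hd0 4) (q1 ▸ hd0 1) (hd0 5)
    (q6 ▸ hd0 6) (q7 ▸ hd0 7) h4' h6' h8'
  have hfin : ∀ k (a b : ℤ), 0 < a → d k = a ∨ d k = -a →
      L k z = (b : ℂ) → ∃ ψ : Cfsg.IrrCharacter G, (ψ : G → ℂ) 1 = (a : ℂ) ∧
        ∀ o ∈ D.π.ker, (ψ : G → ℂ) ((tC * o : Subgroup.centralizer ({z} : Set G)) : G) =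
          (if d k = a then b else -b : ℤ) := by
    intro k a b ha hda hb
    refine ⟨χ k, ?_⟩
    obtain ⟨n, hn, hnχ⟩ := exists_degree_pos (χ k).2
    have hdk := hd k
    rw [hLχ k, Pi.smul_apply, smul_eq_mul, hnχ] at hdk
    have hval : ∀ o ∈ D.π.ker,
        ε k * (χ k : G → ℂ) ((tC * o : Subgroup.centralizer ({z} : Set G)) : G) = (b : ℂ) :=
      fun o ho => by
        rw [← smul_eq_mul, ← Pi.smul_apply, ← hLχ k, hconst k o ho, hb]
    rcases hε k with h | h <;> rw [h] at hdk hval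
    · have e : d k = n := by
        rw [one_mul] at hdk
        exact_mod_cast hdk.symm
      have ea : d k = a := by omega
      rw [if_pos ea]
      exact ⟨by rw [hnχ, ← ea, e]; push_cast; rfl, fun o ho => by simpa using hval o ho⟩
    · have e : d k = -n := by
        rw [neg_one_mul] at hdk
        exact_mod_cast hdk.symm
      have ea : d k = -a := by omega
      rw [if_neg (by omega)]
      refine ⟨by rw [hnχ, show (a : ℤ) = n by omega]; push_cast; rfl, fun o ho => ?_⟩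
      have := hval o ho
      push_cast
      linear_combination -this
  rcases hres with ⟨hMn, hr, hs⟩ | ⟨hMn, hr, hs⟩
  · refine Or.inr ⟨by rw [hG, hMn]; ring, ?_⟩
    obtain ⟨ψ, h1, h2⟩ := hfin 2 10 (-2) (by norm_num) (Or.inl (by omega)) (by rw [v0]; rfl)
    rw [if_pos (by omega)] at h2
    exact ⟨ψ, by exact_mod_cast h1, fun o ho => (h2 o ho).trans (by norm_num)⟩
  · refine Or.inl ⟨by rw [hG, hMn]; ring, ?_⟩
    obtain ⟨ψ, h1, h2⟩ := hfin 7 12 (-4) (by norm_num) (Or.inr (by omega)) (by rw [v0]; rfl)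
    rw [if_neg (by omega)] at h2
    exact ⟨ψ, by exact_mod_cast h1, fun o ho => (h2 o ho).trans (by norm_num)⟩

end SDPres

end CfsgLib.SuborbitThree
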